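import Cfsg.Agent.ThreeFullWreath.Local

/-!
# The configuration in which every centraliser of a translation is local
-/

set_option autoImplicit false
set_option synthInstance.maxSize 4000
set_option synthInstance.maxHeartbeats 400000

namespace Cfsg.Agent.A9ThreeLocal

open Cfsg Cfsg.Agent Subgroup ThreeFullWreath

universe u

/-- The configuration, with fusion controlled inside the elementary group. -/
structure AllLocal {G : Type u} [Group G] (φ : M →* G) : Prop where
  inj : Function.Injective φ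
  loc : ∀ m : M, m.right = 1 → m ≠ 1 → centralizer ({φ m} : Set G) ≤ φ.range
  ctrl : ∀ (x : G) (m m' : M), m.right = 1 → m'.right = 1 → x * φ m * x⁻¹ = φ m' → ∃ k : M, k * m * k⁻¹ = m'

/-- The classes in the supports. -/
def IsSpecial (m : M) : Prop :=
  cls m = 1 ∨ cls m = 3 ∨ cls m = 5 ∨ cls m = 7 ∨ cls m = 8 ∨ cls m = 9 ∨ cls m = 10 ∨ cls m = 12 ∨ cls m = 13

instance : DecidablePred IsSpecial := fun m => by unfold IsSpecial; infer_instance

theorem special_powers : ∀ m : M, IsSpecial m → ∀ e : Fin 5,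
    (m ^ (e : ℕ)) ^ 3 = 1 → m ^ (e : ℕ) ≠ 1 → (m ^ (e : ℕ)).right = 1 := by decide +kernel

theorem special_not_involution : ∀ m : M, IsSpecial m → m * m ≠ 1 ∧ IsSpecial m⁻¹ := by decide +kernel

theorem isSpecial_of_Phi {k : Fin 5} {m : M} (hm : Phi k m ≠ 0) : IsSpecial m :=
  special_pow (cls m) k fun hv => hm (by rw [Phi_apply, hv]; simp)

variable {G : Type u} [Group G] {φ : M →* G}

theorem AllLocal.fus (h : AllLocal φ) {x : G} {m m' : M} (h1 : m.right = 1) (h2 : m ≠ 1) (h1' : m'.right = 1)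
    (he : x * φ m * x⁻¹ = φ m') : x ∈ φ.range := by
  obtain ⟨k, hk⟩ := h.ctrl x m m' h1 h1' he
  have : (φ k)⁻¹ * x ∈ φ.range := h.loc m h1 h2 (mem_centralizer_singleton_iff.2 (by
    have e : x * φ m * x⁻¹ = φ k * φ m * (φ k)⁻¹ := by
      rw [he, ← hk, map_mul, map_mul, map_inv]
    calc (φ k)⁻¹ * x * φ m = (φ k)⁻¹ * (x * φ m * x⁻¹) * x := by group
      _ = φ m * ((φ k)⁻¹ * x) := by rw [e]; group))
  simpa using mul_mem (show φ k ∈ φ.range from ⟨k, rfl⟩) this

/-- Fusion between special elements is inside the image. -/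
theorem AllLocal.fused (h : AllLocal φ) {x : G} {m m' : M} (hm : IsSpecial m) (hm' : IsSpecial m')
    (he : x * φ m * x⁻¹ = φ m') : x ∈ φ.range := by
  obtain ⟨e, h1, h2⟩ := special_right m hm
  have he' : x * φ (m ^ (e : ℕ)) * x⁻¹ = φ (m' ^ (e : ℕ)) := by rw [map_pow, map_pow, ← conj_pow, he]
  refine h.fus h1 h2 (special_powers m' hm' e (h.inj ?_) fun e0 => h2 (h.inj ?_)) he'
  · rw [map_pow, ← he', conj_pow, ← map_pow, pow_three_of_right _ h1, map_one, mul_one, mul_inv_cancel]
  · rw [e0, map_one] at he'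
    rw [conj_eq_one_iff.1 he', map_one]

/-- An involution of the model is not conjugate to a special element. -/
theorem AllLocal.not_special (h : AllLocal φ) {x : G} {m m₀ : M} (hm : IsSpecial m) (h0 : m₀ * m₀ = 1)
    (he : x * φ m * x⁻¹ = φ m₀) : False := by
  refine (special_not_involution m hm).1 (h.inj ?_)
  have h2 : x * φ (m * m) * x⁻¹ = 1 := by
    rw [map_mul, ← map_one φ, ← h0, map_mul, ← he]; group
  rw [map_one, conj_eq_one_iff.1 h2]

theorem AllLocal.not_isConj [Finite G] (h : AllLocal φ) : ¬ IsConj (φ (rep 2)) (φ (rep 6)) := by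
  classical
  haveI : Fact (Nat.Prime 3) := ⟨Nat.prime_three⟩
  obtain ⟨c2, c6, k2, k6, k6', r6, r2, n6, n2, hc⟩ := model_facts
  intro hconj
  obtain ⟨g, hg⟩ := isConj_iff.1 hconj
  set C := centralizer ({φ (rep 6)} : Set G)
  have hbC : φ gj ∈ C := mem_centralizer_singleton_iff.2 (by rw [← map_mul, c6, map_mul])
  set b : C := ⟨φ gj, hbC⟩
  have ob : orderOf b = 3 := by
    refine orderOf_eq_prime (Subtype.ext ?_) fun e => n6 (h.inj ?_)
    · show φ gj ^ 3 = 1
      rw [← map_pow, pow_three_of_right _ r6, map_one]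
    · rw [map_one]; exact congrArg Subtype.val e
  have hB : Nat.card (zpowers b) = 3 := by rw [Nat.card_zpowers, ob]
  have h9 : ¬ 9 ∣ Nat.card C := by
    intro h9
    obtain ⟨K, hK, hBK⟩ := Sylow.exists_subgroup_card_pow_succ (p := 3) (n := 1) h9
      (H := zpowers b) (by rw [pow_one]; exact hB)
    have hcomm : ∀ y : K, y * ⟨b, hBK (mem_zpowers b)⟩ = ⟨b, hBK (mem_zpowers b)⟩ * y := fun y => by
      letI := IsPGroup.commGroupOfCardEqPrimeSq (p := 3) hK
      exact mul_comm _ _
    set L := (K.map C.subtype).comap φ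
    have hKr : K.map C.subtype ≤ φ.range := by
      rintro _ ⟨y, hy, rfl⟩
      exact h.loc gj r6 n6 (mem_centralizer_singleton_iff.2
        (congrArg (fun z : K => ((z : C) : G)) (hcomm ⟨y, hy⟩)))
    have hL : Nat.card L = 9 := by
      rw [← card_map_of_injective (K := L) (f := φ) h.inj, map_comap_eq_self hKr,
        card_map_of_injective C.subtype_injective, hK]
      norm_num
    have hd : Nat.card L ∣ Nat.card (centralizer ({rep 6} : Set M)) := card_dvd_of_le fun m hm => by
      obtain ⟨y, -, hy⟩ := hm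
      refine mem_centralizer_singleton_iff.2 (h.inj ?_)
      rw [map_mul, map_mul, ← hy]
      exact mem_centralizer_singleton_iff.1 y.2
    rw [hL] at hd
    have : Nat.card (centralizer ({rep 6} : Set M)) = 12 := by
      rw [← hc, ← Fintype.card_subtype, ← Nat.card_eq_fintype_card]
      exact Nat.card_congr (Equiv.subtypeEquivRight fun k => mem_centralizer_singleton_iff)
    rw [this] at hd
    norm_num at hd
  have haC : g * φ ge * g⁻¹ ∈ C := mem_centralizer_singleton_iff.2 (by
    rw [← hg, ← MulAut.conj_apply, ← MulAut.conj_apply, ← map_mul, ← map_mul, ← map_mul, c2, map_mul])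
  set a : C := ⟨_, haC⟩
  have oa : orderOf a = 3 := by
    refine orderOf_eq_prime (Subtype.ext ?_) fun e => n2 (h.inj ?_)
    · show (g * φ ge * g⁻¹) ^ 3 = 1
      rw [conj_pow, ← map_pow, pow_three_of_right _ r2]; simp
    · rw [map_one]; exact conj_eq_one_iff.1 (congrArg Subtype.val e)
  have hcard : 3 ^ (Nat.card C).factorization 3 = 3 := by
    have hC0 : Nat.card C ≠ 0 := Nat.card_pos.ne'
    have h1 : 1 ≤ (Nat.card C).factorization 3 :=
      (Nat.prime_three.dvd_iff_one_le_factorization hC0).1 (hB ▸ card_subgroup_dvd_card _)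
    have h2 : ¬ 2 ≤ (Nat.card C).factorization 3 := fun e =>
      h9 ((show 9 ∣ 3 ^ (Nat.card C).factorization 3 from pow_dvd_pow 3 e).trans (Nat.ordProj_dvd _ _))
    rw [show (Nat.card C).factorization 3 = 1 by omega, pow_one]
  obtain ⟨PA, hPA⟩ : ∃ P : Sylow 3 C, (P : Subgroup C) = zpowers a :=
    ⟨Sylow.ofCard (zpowers a) (by rw [hcard, Nat.card_zpowers, oa]), rfl⟩
  obtain ⟨PB, hPB⟩ : ∃ P : Sylow 3 C, (P : Subgroup C) = zpowers b :=
    ⟨Sylow.ofCard (zpowers b) (by rw [hcard, hB]), rfl⟩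
  obtain ⟨c, hcP⟩ := MulAction.exists_smul_eq C PA PB
  have hab : c * a * c⁻¹ ∈ zpowers b := by
    rw [← hPB, ← hcP]
    rw [Sylow.coe_subgroup_smul, hPA]
    exact ⟨a, mem_zpowers a, rfl⟩
  obtain ⟨i, hi⟩ := mem_zpowers_iff.1 hab
  have hi' : ((c : G) * g) * φ ge * ((c : G) * g)⁻¹ = φ (gj ^ i) := by
    rw [map_zpow]
    have := congrArg (fun z : C => (z : G)) hi
    simp only [Subgroup.coe_zpow, Subgroup.coe_mul, Subgroup.coe_inv, a, b] at this
    rw [this]; group
  obtain ⟨k, hk⟩ := h.fus r2 n2 (show (gj ^ i).right = 1 by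
    rw [← SemidirectProduct.rightHom_eq_right, map_zpow, SemidirectProduct.rightHom_eq_right, r6, one_zpow]) hi'
  have hcj : IsConj ge (gj ^ i) := isConj_iff.2 ⟨k, h.inj (by
    rw [map_mul, map_mul, map_inv, hk]; exact hi')⟩
  have h3 : gj ^ (3 : ℤ) = 1 := by exact_mod_cast pow_three_of_right _ r6
  rw [← Int.emod_add_mul_ediv i 3, zpow_add, zpow_mul, h3, one_zpow, mul_one, isConj_iff_cls, k2] at hcj
  rcases (show i % 3 = 0 ∨ i % 3 = 1 ∨ i % 3 = 2 by omega) with e | e | e <;> rw [e] at hcj <;>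
    revert hcj <;> decide +kernel

theorem AllLocal.cls_iff [Finite G] (h : AllLocal φ) (m : M) :
    (cls m = 2 ↔ IsConj (φ (rep 2)) (φ m)) ∧ (cls m = 6 ↔ IsConj (φ (rep 6)) (φ m)) := by
  obtain ⟨s2, s6, n2, n6⟩ := rep_sq
  have fwd : ∀ c, cls m = c → IsConj (φ (rep c)) (φ m) := fun c hc =>
    φ.map_isConj (isConj_iff_cls.2 (by rw [cls_rep, hc]))
  have bwd : ∀ c, rep c * rep c = 1 → rep c ≠ 1 → IsConj (φ (rep c)) (φ m) →
      cls m = 2 ∨ cls m = 6 := fun c hs hn hcj => by
    obtain ⟨g, hg⟩ := isConj_iff.1 hcj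
    have hsq : m * m = 1 := h.inj (by
      rw [map_mul, ← hg, map_one, show g * φ (rep c) * g⁻¹ * (g * φ (rep c) * g⁻¹) =
        g * (φ (rep c) * φ (rep c)) * g⁻¹ by group, ← map_mul, hs]; simp)
    rcases sq_cls m hsq with e | e
    · exfalso
      have : m = 1 := by
        have := cls_spec m
        rw [e, show rep 0 = 1 by decide +kernel] at this
        simpa using this.symm
      rw [this, map_one] at hg
      exact hn (h.inj (by rw [map_one]; exact conj_eq_one_iff.1 hg))
    · exact e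
  refine ⟨⟨fwd 2, fun e => ?_⟩, ⟨fwd 6, fun e => ?_⟩⟩
  · exact (bwd 2 s2 n2 e).resolve_right fun e' => h.not_isConj (e.trans (fwd 6 e').symm)
  · exact (bwd 6 s6 n6 e).resolve_left fun e' => h.not_isConj ((fwd 2 e').trans e.symm)

end Cfsg.Agent.A9ThreeLocal
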