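import Mathlib.GroupTheory.Sylow
import Mathlib.GroupTheory.Perm.Cycle.Type
import Mathlib.GroupTheory.SpecificGroups.Cyclic

/-!
General lemmas for the 3-local characterisation of the alternating group of degree nine.
-/

set_option autoImplicit false

namespace Cfsg.Agent.A9ThreeLocal

open Subgroup

universe u

variable {G : Type u} [Group G]

theorem zpowers_three_cases {a g : G} (ha : a ^ 3 = 1) (hg : g ∈ zpowers a) :
    g = 1 ∨ g = a ∨ g = a⁻¹ := by
  obtain ⟨n, rfl⟩ := mem_zpowers_iff.1 hg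
  have h3 : a ^ (3 : ℤ) = 1 := by exact_mod_cast ha
  rw [← Int.emod_add_mul_ediv n 3, zpow_add, zpow_mul, h3, one_zpow, mul_one]
  rcases (show n % 3 = 0 ∨ n % 3 = 1 ∨ n % 3 = 2 by omega) with e | e | e <;> rw [e]
  · exact Or.inl (zpow_zero a)
  · exact Or.inr (Or.inl (zpow_one a))
  · refine Or.inr (Or.inr (eq_inv_of_mul_eq_one_left ?_))
    rw [zpow_two, mul_assoc, ← pow_three, ha]

theorem mem_centralizer_conj {g a x : G} :
    x ∈ centralizer ({g * a * g⁻¹} : Set G) ↔ g⁻¹ * x * g ∈ centralizer ({a} : Set G) := by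
  simp only [mem_centralizer_singleton_iff]
  constructor
  · intro h
    calc g⁻¹ * x * g * a = g⁻¹ * (x * (g * a * g⁻¹)) * g := by group
      _ = g⁻¹ * ((g * a * g⁻¹) * x) * g := by rw [h]
      _ = a * (g⁻¹ * x * g) := by group
  · intro h
    calc x * (g * a * g⁻¹) = g * (g⁻¹ * x * g * a) * g⁻¹ := by group
      _ = g * (a * (g⁻¹ * x * g)) * g⁻¹ := by rw [h]
      _ = g * a * g⁻¹ * x := by group

theorem centralizer_conj (g a : G) :
    centralizer ({g * a * g⁻¹} : Set G) = (centralizer ({a} : Set G)).map (MulAut.conj g).toMonoidHom := by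
  ext x
  rw [mem_centralizer_conj, mem_map]
  refine ⟨fun h => ⟨_, h, by simp [mul_assoc]⟩, ?_⟩
  rintro ⟨w, hw, rfl⟩
  simpa [mul_assoc] using hw

theorem card_centralizer_conj (g a : G) :
    Nat.card (centralizer ({g * a * g⁻¹} : Set G)) = Nat.card (centralizer ({a} : Set G)) := by
  rw [centralizer_conj, card_map_of_injective (MulAut.conj g).injective]

theorem centralizer_inv (a : G) : centralizer ({a⁻¹} : Set G) = centralizer ({a} : Set G) := by
  ext x
  simp only [mem_centralizer_singleton_iff]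
  exact ⟨fun h => (Commute.inv_right_iff.1 h).eq, fun h => (Commute.inv_right h).eq⟩

/-- A translation of a coset of order three which is not a conjugation is trivial. -/
theorem commute_of_translate {g v w : G} (hw : g * w = w * g) (hw3 : w ^ 3 = 1)
    (hg : g * v * g⁻¹ * v⁻¹ ∈ zpowers w) (hvw : v * w = w * v)
    (hne : ¬ IsConj v (v * w) ∨ ¬ IsConj v (v * w⁻¹)) :
    g * v = v * g := by
  have hgw : g * w * g⁻¹ = w := mul_inv_eq_iff_eq_mul.2 hw
  have hgw' : g * w⁻¹ * g⁻¹ = w⁻¹ := by rw [← conj_inv, hgw]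
  rcases zpowers_three_cases hw3 hg with e | e | e
  · exact mul_inv_eq_iff_eq_mul.1 (mul_inv_eq_one.1 e)
  all_goals
    exfalso
    have e1 : g * v * g⁻¹ = _ * v := mul_inv_eq_iff_eq_mul.1 e
  · rw [← hvw] at e1
    have e2 : g * (v * w) * g⁻¹ = v * w⁻¹ := by
      calc g * (v * w) * g⁻¹ = g * v * g⁻¹ * (g * w * g⁻¹) := by group
        _ = v * (w * w) := by rw [e1, hgw, mul_assoc]
        _ = v * w⁻¹ := by rw [eq_inv_of_mul_eq_one_left (show w * w * w = 1 by
            rw [mul_assoc, ← pow_three, hw3])]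
    rcases hne with h | h
    · exact h (isConj_iff.2 ⟨g, e1⟩)
    · exact h ((isConj_iff.2 ⟨g, e1⟩).trans (isConj_iff.2 ⟨g, e2⟩))
  · rw [← (Commute.inv_right (show Commute v w from hvw)).eq] at e1
    have e2 : g * (v * w⁻¹) * g⁻¹ = v * w := by
      calc g * (v * w⁻¹) * g⁻¹ = g * v * g⁻¹ * (g * w⁻¹ * g⁻¹) := by group
        _ = v * (w⁻¹ * w⁻¹) := by rw [e1, hgw', mul_assoc]
        _ = v * w := by rw [show w⁻¹ * w⁻¹ = w by
            rw [← mul_inv_rev]
            exact inv_eq_of_mul_eq_one_right (by rw [mul_assoc, ← pow_three, hw3])]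
    rcases hne with h | h
    · exact h ((isConj_iff.2 ⟨g, e1⟩).trans (isConj_iff.2 ⟨g, e2⟩))
    · exact h (isConj_iff.2 ⟨g, e1⟩)

/-- An element of order three fixes an element of an invariant coset of a subgroup of order prime to three. -/
theorem exists_fixed_coset [Finite G] {N : Subgroup G} {a y : G} (ha : a ^ 3 = 1)
    (haN : a ∈ normalizer (N : Set G)) (hN : ¬ 3 ∣ Nat.card N) (hy : y⁻¹ * a * y * a⁻¹ ∈ N) :
    ∃ n ∈ N, a * (y * n) = y * n * a := by
  classical
  haveI : Fact (Nat.Prime 3) := ⟨Nat.prime_three⟩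
  haveI := Fintype.ofFinite N
  let f : N → N := fun n => ⟨y⁻¹ * a * y * (n : G) * a⁻¹, by
    have h := mul_mem hy ((mem_normalizer_iff.1 haN n).1 n.2)
    have e : y⁻¹ * a * y * a⁻¹ * (a * (n : G) * a⁻¹) = y⁻¹ * a * y * (n : G) * a⁻¹ := by group
    rwa [e] at h⟩
  have h3 : ∀ n, f (f (f n)) = n := fun n => by
    refine Subtype.ext ?_
    show y⁻¹ * a * y * (y⁻¹ * a * y * (y⁻¹ * a * y * (n : G) * a⁻¹) * a⁻¹) * a⁻¹ = n
    calc _ = y⁻¹ * (a * (a * a)) * y * (n : G) * (a * (a * a))⁻¹ := by group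
      _ = n := by rw [← pow_three, ha]; group
  let σ : Equiv.Perm N :=
    { toFun := f, invFun := fun n => f (f n), left_inv := h3, right_inv := h3 }
  have hσ : σ ^ 3 ^ 1 = 1 := Equiv.ext fun n => by
    simp only [pow_one, pow_three, Equiv.Perm.coe_mul, Function.comp_apply, Equiv.Perm.coe_one, id_eq]
    exact h3 n
  obtain ⟨n, hn⟩ := Equiv.Perm.exists_fixed_point_of_prime (by rwa [← Nat.card_eq_fintype_card]) hσ
  refine ⟨n, n.2, ?_⟩
  have e : y⁻¹ * a * y * (n : G) * a⁻¹ = n := congrArg Subtype.val hn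
  calc a * (y * n) = y * (y⁻¹ * a * y * n * a⁻¹) * a := by group
    _ = y * n * a := by rw [e]

/-- An element of order three normalising a subgroup of order five centralises it. -/
theorem commute_five {s y : G} (hs : s ^ 3 = 1) (hy : y ^ 5 = 1) (h : s * y * s⁻¹ ∈ zpowers y) :
    s * y = y * s := by
  obtain ⟨k, hk⟩ := mem_zpowers_iff.1 h
  have h5 : y ^ (5 : ℤ) = 1 := by exact_mod_cast hy
  have step : ∀ m : ℤ, s * y ^ m * s⁻¹ = y ^ (k * m) := fun m => by
    rw [← conj_zpow, ← hk, ← zpow_mul]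
  have e3 : y ^ (k * (k * k)) = y := by
    have h1 := step k
    have h2 := step (k * k)
    rw [← h1, hk] at h2
    rw [← h2]
    calc s * (s * (s * y * s⁻¹) * s⁻¹) * s⁻¹ = (s * (s * s)) * y * (s * (s * s))⁻¹ := by group
      _ = y := by rw [← pow_three, hs]; group
  by_cases hy1 : y = 1
  · rw [hy1, mul_one, one_mul]
  have ho : orderOf y = 5 := by
    haveI : Fact (Nat.Prime 5) := ⟨Nat.prime_five⟩
    exact orderOf_eq_prime hy hy1
  have hdiv : (5 : ℤ) ∣ k * (k * k) - 1 := by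
    have := orderOf_dvd_iff_zpow_eq_one.2 (show y ^ (k * (k * k) - 1) = 1 by
      rw [zpow_sub, zpow_one, e3, mul_inv_cancel])
    rw [ho] at this
    exact_mod_cast this
  have key : ∀ r : ZMod 5, r * (r * r) = 1 → r = 1 := by decide
  have hk1 : (k : ZMod 5) = 1 := key _ (by
    have := (ZMod.intCast_zmod_eq_zero_iff_dvd (k * (k * k) - 1) 5).2 hdiv
    push_cast at this
    exact sub_eq_zero.1 this)
  have : (5 : ℤ) ∣ k - 1 := (ZMod.intCast_zmod_eq_zero_iff_dvd (k - 1) 5).1 (by push_cast; rw [hk1, sub_self])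
  obtain ⟨c, hc⟩ := this
  rw [show k = 1 + 5 * c by omega, zpow_add, zpow_mul, h5, one_zpow, mul_one, zpow_one] at hk
  exact mul_inv_eq_iff_eq_mul.1 hk.symm

/-- Two commuting elements of order three normalising a subgroup of order seven: some product
centralises it. -/
theorem commute_seven {a b y : G} (ha : a ^ 3 = 1) (hb : b ^ 3 = 1) (hy : y ^ 7 = 1)
    (hna : a * y * a⁻¹ ∈ zpowers y) (hnb : b * y * b⁻¹ ∈ zpowers y) :
    a * y = y * a ∨ ∃ i : Fin 3, a ^ (i : ℕ) * b * y = y * (a ^ (i : ℕ) * b) := by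
  by_cases hy1 : y = 1
  · left; rw [hy1, mul_one, one_mul]
  have ho : orderOf y = 7 := by
    haveI : Fact (Nat.Prime 7) := ⟨by decide⟩
    exact orderOf_eq_prime hy hy1
  have hpow : ∀ k : ℤ, ∀ m : ℕ, ((k : ZMod 7) = m) → y ^ k = y ^ m := fun k m e => by
    rw [← zpow_natCast y m, zpow_eq_zpow_iff_modEq, ho]
    exact (ZMod.intCast_eq_intCast_iff k m 7).1 (by rw [e]; norm_num)
  have red : ∀ z : G, z ^ 3 = 1 → z * y * z⁻¹ ∈ zpowers y →
      ∃ r : ℕ, r * (r * r) % 7 = 1 ∧ r < 7 ∧ z * y * z⁻¹ = y ^ r := by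
    intro z hz hn
    obtain ⟨k, hk⟩ := mem_zpowers_iff.1 hn
    set r := (k : ZMod 7).val with hr
    have e1 : z * y * z⁻¹ = y ^ r := by rw [← hk]; exact hpow k r (by simp [hr])
    refine ⟨r, ?_, ZMod.val_lt _, e1⟩
    have step : ∀ m : ℕ, z * y ^ m * z⁻¹ = y ^ (r * m) := fun m => by
      rw [← conj_pow, e1, ← pow_mul]
    have e3 : y ^ (r * (r * r)) = y ^ 1 := by
      rw [pow_one, ← step (r * r), ← step r, ← e1]
      calc z * (z * (z * y * z⁻¹) * z⁻¹) * z⁻¹ = (z * (z * z)) * y * (z * (z * z))⁻¹ := by group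
        _ = y := by rw [← pow_three, hz]; group
    rw [pow_eq_pow_iff_modEq, ho] at e3
    exact e3
  obtain ⟨r, hr, hrlt, ea⟩ := red a ha hna
  obtain ⟨q, hq, hqlt, eb⟩ := red b hb hnb
  have key : ∀ r : Fin 7, ∀ q : Fin 7, r.val * (r.val * r.val) % 7 = 1 → q.val * (q.val * q.val) % 7 = 1 →
      r.val = 1 ∨ ∃ i : Fin 3, r.val ^ (i : ℕ) * q.val % 7 = 1 := by decide
  rcases key ⟨r, hrlt⟩ ⟨q, hqlt⟩ hr hq with e | ⟨i, e⟩
  · left
    simp only at e
    rw [e, pow_one] at ea
    exact mul_inv_eq_iff_eq_mul.1 ea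
  · refine Or.inr ⟨i, mul_inv_eq_iff_eq_mul.1 ?_⟩
    have hi : ∀ (n : ℕ) (m : ℕ), a ^ n * y ^ m * (a ^ n)⁻¹ = y ^ (r ^ n * m) := by
      intro n
      induction n with
      | zero => intro m; simp
      | succ n ih =>
        intro m
        have : a * y ^ m * a⁻¹ = y ^ (r * m) := by rw [← conj_pow, ea, ← pow_mul]
        rw [pow_succ, show a ^ n * a * y ^ m * (a ^ n * a)⁻¹ = a ^ n * (a * y ^ m * a⁻¹) * (a ^ n)⁻¹ by group,
          this, ih, pow_succ, mul_assoc]
    rw [show a ^ (i : ℕ) * b * y * (a ^ (i : ℕ) * b)⁻¹ = a ^ (i : ℕ) * (b * y * b⁻¹) * (a ^ (i : ℕ))⁻¹ by group,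
      eb, hi, ← pow_mod_orderOf, ho, e, pow_one]

/-- A group too big to act freely on the Sylow subgroups of an invariant subgroup normalises one of them. -/
theorem exists_norm_cyclic [Finite G] {W E : Subgroup G} {ℓ : ℕ} [Fact ℓ.Prime]
    (hEW : E ≤ normalizer (W : Set G)) (hℓ : ℓ ∣ Nat.card W) (hℓ2 : ¬ ℓ ^ 2 ∣ Nat.card W)
    (hfree : ¬ Nat.card E ∣ Nat.card W) :
    ∃ y ∈ W, orderOf y = ℓ ∧ ∃ s ∈ E, s ≠ 1 ∧ s * y * s⁻¹ ∈ zpowers y := by
  classical
  have hmap : ∀ (s : E) (P : Sylow ℓ W), ∀ x ∈ (P : Subgroup W).map W.subtype, (s : G) * x * (s : G)⁻¹ ∈ W := by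
    rintro s P _ ⟨x, -, rfl⟩
    exact (mem_normalizer_iff.1 (hEW s.2) x).1 x.2
  have hfact : ℓ ^ (Nat.card W).factorization ℓ = ℓ := by
    have h0 : Nat.card W ≠ 0 := Nat.card_pos.ne'
    have h1 := ((Fact.out : ℓ.Prime).dvd_iff_one_le_factorization h0).1 hℓ
    have h2 : ¬ 2 ≤ (Nat.card W).factorization ℓ := fun e =>
      hℓ2 (((Fact.out : ℓ.Prime).pow_dvd_iff_le_factorization h0).2 e)
    rw [show (Nat.card W).factorization ℓ = 1 by omega, pow_one]
  have hcard : ∀ P : Sylow ℓ W, Nat.card ((P : Subgroup W).map W.subtype) = ℓ := fun P => by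
    rw [card_map_of_injective W.subtype_injective, P.card_eq_multiplicity, hfact]
  let X : Type u := {Y : Subgroup G // Y ≤ W ∧ Nat.card Y = ℓ}
  let i : Sylow ℓ W ≃ X :=
    { toFun := fun P => ⟨(P : Subgroup W).map W.subtype, map_subtype_le _, hcard P⟩
      invFun := fun Y => Sylow.ofCard (Y.1.subgroupOf W) (by
        rw [Nat.card_congr (subgroupOfEquivOfLe Y.2.1).toEquiv, Y.2.2, hfact])
      left_inv := fun P => Sylow.ext (by
        show ((P : Subgroup W).map W.subtype).subgroupOf W = P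
        rw [← comap_subtype, comap_map_eq_self_of_injective W.subtype_injective])
      right_inv := fun Y => Subtype.ext (by
        show (Y.1.subgroupOf W).map W.subtype = Y.1
        rw [subgroupOf_map_subtype, inf_eq_left.2 Y.2.1]) }
  haveI : Finite X := Finite.of_equiv _ i
  letI : MulAction E X :=
    { smul := fun s Y => ⟨Y.1.map (MulAut.conj (s : G)).toMonoidHom, by
        rintro _ ⟨y, hy, rfl⟩
        exact (mem_normalizer_iff.1 (hEW s.2) y).1 (Y.2.1 hy),
        by rw [card_map_of_injective (MulAut.conj (s : G)).injective]; exact Y.2.2⟩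
      one_smul := fun Y => Subtype.ext (by
        show Y.1.map (MulAut.conj ((1 : E) : G)).toMonoidHom = Y.1
        rw [OneMemClass.coe_one, map_one]
        exact Subgroup.map_id Y.1)
      mul_smul := fun s t Y => Subtype.ext (by
        show Y.1.map (MulAut.conj ((s * t : E) : G)).toMonoidHom =
          (Y.1.map (MulAut.conj (t : G)).toMonoidHom).map (MulAut.conj (s : G)).toMonoidHom
        rw [Subgroup.map_map, Subgroup.coe_mul, map_mul]
        rfl) }
  obtain ⟨Y, hY⟩ : ∃ Y : X, MulAction.stabilizer E Y ≠ ⊥ := by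
    by_contra hall
    push Not at hall
    refine hfree ?_
    haveI := Fintype.ofFinite X
    haveI := Fintype.ofFinite E
    have hd : Nat.card E ∣ Nat.card X := by
      rw [Nat.card_congr (MulAction.selfEquivSigmaOrbits E X), Nat.card_sigma]
      refine Finset.dvd_sum fun q _ => ?_
      rw [Nat.card_coe_set_eq, ← MulAction.index_stabilizer, hall, index_bot]
    rw [← Nat.card_congr i] at hd
    obtain ⟨P⟩ : Nonempty (Sylow ℓ W) := inferInstance
    exact hd.trans ((Sylow.card_dvd_index P).trans (index_dvd_card _))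
  obtain ⟨s, hs, hs1⟩ := (bot_or_exists_ne_one _).resolve_left hY
  obtain ⟨⟨y, hy⟩, ho⟩ := exists_prime_orderOf_dvd_card' (G := Y.1) ℓ (by rw [Y.2.2])
  rw [orderOf_mk] at ho
  have hz : zpowers y = Y.1 := eq_of_le_of_card_ge (zpowers_le.2 hy) (by rw [Nat.card_zpowers, ho, Y.2.2])
  refine ⟨y, Y.2.1 hy, ho, s, s.2, fun e => hs1 (Subtype.ext e), ?_⟩
  have h1 : Y.1.map (MulAut.conj (s : G)).toMonoidHom = Y.1 := congrArg Subtype.val hs
  rw [hz, ← h1]
  exact ⟨y, hy, rfl⟩

end Cfsg.Agent.A9ThreeLocal
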