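import Cfsg.Agent.LyLocal.AltCover

/-!
Embeddings of a Sylow normaliser of the alternating group of degree six.
-/

set_option autoImplicit false
set_option synthInstance.maxSize 2000
set_option synthInstance.maxHeartbeats 400000

namespace Cfsg.Agent.A9ThreeLocal

open Equiv Equiv.Perm Cfsg.Agent.AltMult Cfsg.Agent.ShortPres

/-- The alternating group of degree six. -/
abbrev A6 := alternatingGroup (Fin 6)

/-- The first three-cycle. -/
def a6 : A6 := cycA 0 1 2 (by decide) (by decide)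
/-- The second three-cycle. -/
def b6 : A6 := cycA 3 4 5 (by decide) (by decide)
/-- An element of order four exchanging them. -/
def w6 : A6 :=
  ⟨swap 0 3 * swap 3 1 * swap 1 4 * swap 2 5, mem_alternatingGroup.2 (by decide +kernel)⟩
/-- A further generator. -/
def s6 : A6 := ⟨swap 0 1 * swap 2 5, mem_alternatingGroup.2 (by decide +kernel)⟩

theorem six_gens : a6 ^ 3 = 1 ∧ a6 ≠ 1 ∧ b6 ^ 3 = 1 ∧ w6 ^ 4 = 1 ∧ a6 * b6 = b6 * a6 ∧
    w6 * a6 * w6⁻¹ = b6 ∧ w6 * b6 * w6⁻¹ = a6⁻¹ ∧ (∀ i : Fin 3, a6 ^ (i : ℕ) ≠ b6) ∧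
    s6 * (w6 * w6) = w6 * w6 * s6 ∧ s6 * s6 = 1 ∧ s6 ≠ 1 ∧ (s6 * a6) ^ 3 = 1 ∧ s6 * a6 ≠ 1 := by
  decide +kernel

theorem s6_unique : ∀ t : A6, t * (w6 * w6) = w6 * w6 * t → t * t = 1 → (t * a6) ^ 3 = 1 → t * a6 ≠ 1 →
    t ≠ 1 → t = s6 := by
  decide +kernel

/-- The points `2, …, 5` of Carmichael's generators. -/
def rpt (j : Fin 4) : Fin 6 := ⟨j.val + 2, by omega⟩

/-- The generators by number. -/
def gen6 : Fin 4 → A6
  | 0 => a6
  | 1 => b6
  | 2 => w6
  | 3 => s6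

/-- Carmichael's generators as words. -/
def word6 : Fin 4 → List (Fin 4)
  | 0 => [0]
  | 1 => [0, 1, 3, 0, 1, 1]
  | 2 => [0, 1, 1, 3, 0, 1]
  | 3 => [0, 3, 0]

theorem rpt_ne : ∀ j : Fin 4, (0 : Fin 6) ≠ rpt j := by decide +kernel

theorem gen_facts : ∀ j : Fin 4, (cycA 0 1 (rpt j) (by decide) (rpt_ne j) : A6) = ((word6 j).map gen6).prod := by
  decide +kernel

theorem closure_six : Subgroup.closure ({a6, b6, w6, s6} : Set A6) = ⊤ := by
  set L := Subgroup.closure ({a6, b6, w6, s6} : Set A6)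
  have hg : ∀ i : Fin 4, gen6 i ∈ L := by
    intro i
    fin_cases i <;> exact Subgroup.subset_closure (by simp [gen6])
  refine closure_cycA_eq_top (u := (0 : Fin 6)) (v := 1) (by decide) _ fun i hiu hiv => ?_
  have h2 : 2 ≤ i.val := by
    rcases i with ⟨i, hi⟩
    simp only [ne_eq, Fin.ext_iff, Fin.val_zero, Fin.val_one] at hiu hiv ⊢
    omega
  let j : Fin 4 := ⟨i.val - 2, by omega⟩
  have hi : i = rpt j := Fin.ext (by simp [rpt, j]; omega)
  have e : (cycA 0 1 i (by decide) hiu.symm : A6) = cycA 0 1 (rpt j) (by decide) (rpt_ne j) :=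
    Subtype.ext (by show cyc (0 : Fin 6) 1 i = cyc 0 1 _; rw [← hi])
  rw [e, gen_facts]
  refine L.list_prod_mem fun x hx => ?_
  obtain ⟨k, -, rfl⟩ := List.mem_map.1 hx
  exact hg k

/-- Two embeddings which agree on the Sylow normaliser are equal. -/
theorem six_unique {G : Type*} [Group G] {f g : A6 →* G} (hf : Function.Injective f)
    (hrange : ∀ x, g x ∈ f.range) (hg : Function.Injective g) (ha : f a6 = g a6) (hb : f b6 = g b6)
    (hw : f w6 = g w6) : f = g := by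
  obtain ⟨-, -, -, -, -, -, -, -, h1, h2, h3, h4, h5⟩ := six_gens
  obtain ⟨t, ht⟩ := hrange s6
  have ts : t = s6 := by
    refine s6_unique t (hf ?_) (hf ?_) (hf ?_) (fun e => ?_) fun e => ?_
    · simp only [map_mul, ht, hw]
      rw [← map_mul, ← map_mul, ← map_mul, h1]
    · rw [map_mul, ht, ← map_mul, h2, map_one, map_one]
    · rw [map_pow, map_mul, ht, ha, ← map_mul, ← map_pow, h4, map_one, map_one]
    · refine h5 (hg ?_)
      rw [map_mul, ← ht, ← ha, ← map_mul, e, map_one, map_one]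
    · exact h3 (hg (by rw [← ht, e, map_one, map_one]))
  subst ts
  refine MonoidHom.eq_of_eqOn_dense closure_six ?_
  rintro x (rfl | rfl | rfl | rfl)
  · exact ha
  · exact hb
  · exact hw
  · exact ht

/-- The images of an exceptional automorphism on Carmichael's generators. -/
def outGen : Fin 4 → A6
  | 0 => cycA 0 1 2 (by decide) (by decide) * cycA 3 4 5 (by decide) (by decide)
  | 1 => cycA 0 2 4 (by decide) (by decide) * cycA 1 3 5 (by decide) (by decide)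
  | 2 => cycA 0 3 1 (by decide) (by decide) * cycA 2 5 4 (by decide) (by decide)
  | 3 => cycA 0 4 3 (by decide) (by decide) * cycA 1 5 2 (by decide) (by decide)

theorem outGen_rels : (∀ i, outGen i ^ 3 = 1 ∧ outGen i ≠ 1) ∧ (∀ i j, i ≠ j → (outGen i * outGen j) ^ 2 = 1) := by
  decide +kernel

theorem double_word : a6 * b6 =
    cycA 0 1 (rpt 0) (by decide) (by decide) * cycA 0 1 (rpt 1) (by decide) (by decide) *
      cycA 0 1 (rpt 2) (by decide) (by decide) * cycA 0 1 (rpt 3) (by decide) (by decide) *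
      cycA 0 1 (rpt 1) (by decide) (by decide) * cycA 0 1 (rpt 2) (by decide) (by decide) ∧
    ∀ p : Fin 6, p = 3 → (outGen 0 * outGen 1 * outGen 2 * outGen 3 * outGen 1 * outGen 2 : A6).1 p = p := by
  decide +kernel

/-- An automorphism carrying the product of two disjoint cycles to an element with a fixed point. -/
theorem exists_outer : ∃ o : A6 →* A6, Function.Bijective o ∧ (o (a6 * b6)).1 3 = 3 := by
  classical
  have huv : (0 : Fin 6) ≠ 1 := by decide
  obtain ⟨e, he⟩ := Cfsg.Agent.LyLocal.carm_iso (β := Fin 6) huv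
  have hlt : ∀ x : Rest (0 : Fin 6) 1, x.1.val - 2 < 4 := fun x => by omega
  let gen : Rest (0 : Fin 6) 1 → A6 := fun x => outGen ⟨x.1.val - 2, hlt x⟩
  have hge : ∀ x : Rest (0 : Fin 6) 1, 2 ≤ x.1.val := fun x => by
    have h1 : x.1.val ≠ 0 := fun e => x.2.1 (Fin.ext e)
    have h2 : x.1.val ≠ 1 := fun e => x.2.2 (Fin.ext e)
    omega
  have hrels : ∀ r ∈ Cfsg.Agent.LyLocal.carmRels (0 : Fin 6) 1, FreeGroup.lift gen r = 1 := by
    rintro r (⟨x, rfl⟩ | ⟨x, y, hxy, rfl⟩)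
    · rw [map_pow, FreeGroup.lift_apply_of]; exact (outGen_rels.1 _).1
    · rw [map_pow, map_mul, FreeGroup.lift_apply_of, FreeGroup.lift_apply_of]
      refine outGen_rels.2 _ _ fun e => hxy (Subtype.ext (Fin.ext ?_))
      have := congrArg Fin.val e
      simp only at this
      have := hge x; have := hge y
      omega
  let o : A6 →* A6 := (PresentedGroup.toGroup hrels).comp e.symm.toMonoidHom
  have ho : ∀ x : Rest (0 : Fin 6) 1, o (cycR huv x) = gen x := by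
    intro x
    show PresentedGroup.toGroup hrels (e.symm (cycR huv x)) = gen x
    rw [← he x, e.symm_apply_apply]
    exact PresentedGroup.toGroup.of hrels
  have hcyc : ∀ j : Fin 4, ∀ h0 : (0 : Fin 6) ≠ rpt j, o (cycA 0 1 (rpt j) (by decide) h0) = outGen j := by
    intro j h0
    let x : Rest (0 : Fin 6) 1 := ⟨rpt j, h0.symm, by simp [rpt, Fin.ext_iff]⟩
    have e1 : cycA 0 1 (rpt j) (by decide) h0 = cycR huv x := Subtype.ext rfl
    rw [e1, ho]
    exact congrArg outGen (Fin.ext (by simp [x, rpt]))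
  have : IsSimpleGroup A6 := alternatingGroup.isSimpleGroup (by simp)
  have hinj : Function.Injective o := by
    rcases (MonoidHom.normal_ker o).eq_bot_or_eq_top with hk | hk
    · exact (MonoidHom.ker_eq_bot_iff o).1 hk
    · exact absurd (by rw [← hcyc 0 (by decide)]; exact MonoidHom.mem_ker.1 (hk ▸ Subgroup.mem_top _))
        (outGen_rels.1 0).2
  refine ⟨o, Finite.injective_iff_bijective.1 hinj, ?_⟩
  rw [double_word.1]
  simp only [map_mul, hcyc]
  exact double_word.2 3 rfl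

theorem cube_types : ∀ x : A6, x ^ 3 = 1 → x ≠ 1 → ∃ σ : Perm (Fin 6),
    σ * x.1 * σ⁻¹ = a6.1 ∨ σ * x.1 * σ⁻¹ = (a6 * b6).1 := by
  decide +kernel

theorem fixed_cube : ∀ x : A6, x ^ 3 = 1 → x ≠ 1 → x.1 3 = 3 → ∃ σ : Perm (Fin 6), σ * x.1 * σ⁻¹ = a6.1 := by
  decide +kernel

theorem second_cycle : ∀ y : A6, y ^ 3 = 1 → y * a6 = a6 * y → (∀ i : Fin 3, y ≠ a6 ^ (i : ℕ)) →
    ∀ p : Fin 6, y.1 p = p → ∃ σ : Perm (Fin 6), σ * a6.1 * σ⁻¹ = a6.1 ∧ σ * y.1 * σ⁻¹ = b6.1 := by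
  decide +kernel

theorem fixes_point : ∀ y z : A6, y ^ 3 = 1 → y * a6 = a6 * y → z * a6 * z⁻¹ = y → ∃ p : Fin 6, y.1 p = p := by
  intro y z _ _ h
  refine ⟨z.1 3, ?_⟩
  rw [← h]
  show z.1 (a6.1 (z.1⁻¹ (z.1 3))) = z.1 3
  rw [show z.1⁻¹ (z.1 3) = 3 from z.1.symm_apply_apply 3, show a6.1 (3 : Fin 6) = 3 by decide +kernel]

theorem third_element : ∀ z : A6, z * a6 * z⁻¹ = b6 → z * b6 * z⁻¹ = a6⁻¹ → ∃ σ : Perm (Fin 6),
    σ * a6.1 * σ⁻¹ = a6.1 ∧ σ * b6.1 * σ⁻¹ = b6.1 ∧ σ * z.1 * σ⁻¹ = w6.1 := by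
  decide +kernel

/-- Conjugation by a permutation. -/
noncomputable def conjA (σ : Perm (Fin 6)) : A6 ≃* A6 :=
  MulEquiv.ofBijective
    ((((MulAut.conj σ).toMonoidHom).comp (alternatingGroup (Fin 6)).subtype).codRestrict (alternatingGroup (Fin 6))
      fun x => mem_alternatingGroup.2 (by
        show sign (σ * x.1 * σ⁻¹) = 1
        rw [map_mul, map_mul, mem_alternatingGroup.1 x.2, mul_one, ← map_mul, mul_inv_cancel, map_one]))
    (Finite.injective_iff_bijective.1 fun x y e => Subtype.ext ((MulAut.conj σ).injective (congrArg Subtype.val e)))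

theorem conjA_apply (σ : Perm (Fin 6)) (x : A6) : (conjA σ x).1 = σ * x.1 * σ⁻¹ := rfl

/-- An embedding of the Sylow normaliser is the restriction of an automorphism. -/
theorem exists_normalize {x y z : A6} (hx : x ^ 3 = 1) (hx1 : x ≠ 1) (hy : y ^ 3 = 1) (hxy : x * y = y * x)
    (hne : ∀ i : Fin 3, x ^ (i : ℕ) ≠ y) (h1 : z * x * z⁻¹ = y) (h2 : z * y * z⁻¹ = x⁻¹) :
    ∃ θ : A6 ≃* A6, θ x = a6 ∧ θ y = b6 ∧ θ z = w6 := by
  obtain ⟨θ₁, hθ₁⟩ : ∃ θ : A6 ≃* A6, θ x = a6 := by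
    obtain ⟨σ, hσ | hσ⟩ := cube_types x hx hx1
    · exact ⟨conjA σ, Subtype.ext hσ⟩
    · obtain ⟨o, ho, ho3⟩ := exists_outer
      let θ₀ : A6 ≃* A6 := (conjA σ).trans (MulEquiv.ofBijective o ho)
      have e : θ₀ x = o (a6 * b6) := by
        show o (conjA σ x) = _
        rw [show conjA σ x = a6 * b6 from Subtype.ext hσ]
      obtain ⟨τ, hτ⟩ := fixed_cube (θ₀ x) (by rw [← map_pow, hx, map_one])
        (fun e1 => hx1 (θ₀.injective (e1.trans (map_one _).symm))) (e ▸ ho3)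
      exact ⟨θ₀.trans (conjA τ), Subtype.ext hτ⟩
  obtain ⟨p, hp⟩ := fixes_point (θ₁ y) (θ₁ z) (by rw [← map_pow, hy, map_one])
    (by rw [← hθ₁, ← map_mul, ← map_mul, hxy]) (by rw [← hθ₁, ← map_inv, ← map_mul, ← map_mul, h1])
  obtain ⟨σ, hσa, hσb⟩ := second_cycle (θ₁ y) (by rw [← map_pow, hy, map_one])
    (by rw [← hθ₁, ← map_mul, ← map_mul, hxy])
    (fun i e => hne i (θ₁.injective (by rw [map_pow, hθ₁, e]))) p hp
  let θ₂ : A6 ≃* A6 := θ₁.trans (conjA σ)
  have e2a : θ₂ x = a6 := Subtype.ext (by show σ * (θ₁ x).1 * σ⁻¹ = a6.1; rw [hθ₁]; exact hσa)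
  have e2b : θ₂ y = b6 := Subtype.ext hσb
  obtain ⟨τ, hτa, hτb, hτw⟩ := third_element (θ₂ z)
    (by rw [← e2a, ← e2b, ← map_inv, ← map_mul, ← map_mul, h1])
    (by rw [← e2a, ← e2b, ← map_inv, ← map_inv, ← map_mul, ← map_mul, h2])
  refine ⟨θ₂.trans (conjA τ), Subtype.ext ?_, Subtype.ext ?_, Subtype.ext hτw⟩
  · show τ * (θ₂ x).1 * τ⁻¹ = a6.1; rw [e2a]; exact hτa
  · show τ * (θ₂ y).1 * τ⁻¹ = b6.1; rw [e2b]; exact hτb

end Cfsg.Agent.A9ThreeLocal
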