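import Cfsg.Agent.A9ThreeLocal.Centre
import Cfsg.Agent.A9ThreeLocal.SixAlt

/-!
The complement of a line in the large case, and the action of the model on it.
-/

set_option autoImplicit false
set_option synthInstance.maxSize 4000
set_option synthInstance.maxHeartbeats 400000

namespace Cfsg.Agent.A9ThreeLocal

open Equiv Equiv.Perm Subgroup ThreeFullWreath

universe u

/-- The points `3, …, 8`. -/
def e36 : Fin 6 ≃ {x : Fin 9 // 3 ≤ x.val} where
  toFun a := ⟨⟨a.val + 3, by omega⟩, by simp⟩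
  invFun x := ⟨x.1.val - 3, by omega⟩
  left_inv a := by apply Fin.ext; simp
  right_inv x := by apply Subtype.ext; apply Fin.ext; simp; omega

/-- The alternating group on the points `3, …, 8`. -/
def emb : A6 →* Perm (Fin 9) := (extendDomainHom e36).comp (alternatingGroup (Fin 6)).subtype

theorem emb_injective : Function.Injective emb :=
  (extendDomainHom_injective e36).comp Subtype.val_injective

/-- An element exchanging the last two blocks and fixing the first one. -/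
def wM : M := SemidirectProduct.inr (SemidirectProduct.inl (Multiplicative.ofAdd (1, 0)) * SemidirectProduct.inr (.sr 0))

/-- An element inverting the first line, acting by a transposition on the last block. -/
def hM : M :=
  SemidirectProduct.inl (Multiplicative.ofAdd (0, 0, 2)) *
    SemidirectProduct.inr (SemidirectProduct.inl (Multiplicative.ofAdd (1, 0)))

theorem hM_facts : perm hM = swap 0 1 * swap 7 8 ∧ hM * hM = 1 := by decide +kernel

/-- Stabilises the first block. -/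
def Stab0 (k : M) : Prop := (perm k 0).val < 3 ∧ (perm k 1).val < 3 ∧ (perm k 2).val < 3

instance : DecidablePred Stab0 := fun k => by unfold Stab0; infer_instance

theorem emb_gens : perm e2M = emb a6 ∧ perm e3M = emb b6 ∧ perm wM = emb w6 := by decide +kernel

theorem fix_word : ∀ m : M, perm m 0 = 0 → perm m 1 = 1 → perm m 2 = 2 →
    ∃ i j : Fin 3, ∃ k : Fin 4, m = e2M ^ (i : ℕ) * e3M ^ (j : ℕ) * wM ^ (k : ℕ) := by
  decide +kernel

theorem stab_word : ∀ k : M, Stab0 k → ∃ i : Fin 3, ∃ e : Fin 2,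
    ∀ p : Fin 3, perm ((e1M ^ (i : ℕ))⁻¹ * k * (hM ^ (e : ℕ))⁻¹) ⟨p.val, by omega⟩ = ⟨p.val, by omega⟩ := by
  decide +kernel

theorem emb_fix : ∀ x : A6, ∀ p : Fin 3, emb x ⟨p.val, by omega⟩ = ⟨p.val, by omega⟩ := by decide +kernel

theorem emb_e1 : ∀ x : A6, perm e1M * emb x = emb x * perm e1M := by decide +kernel

theorem emb_h : ∀ x : A6, ∀ p : Fin 9,
    (perm hM * emb x * (perm hM)⁻¹) p =
      (extendDomainHom e36 (swap 4 5 * x.1 * (swap 4 5)⁻¹ : Perm (Fin 6))) p := by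
  decide +kernel

namespace Hyp

variable {G : Type u} [Group G] [Finite G] (h : Hyp G)

/-- The identification of the complement. -/
structure Big where
  ψ : A6 →* G
  inj : Function.Injective ψ
  map_a : ψ a6 = h.φ e2M
  map_b : ψ b6 = h.φ e3M
  map_w : ψ w6 = h.φ wM
  cent : ∀ x, ψ x * h.φ e1M = h.φ e1M * ψ x
  dec : ∀ g : G, g * h.φ e1M = h.φ e1M * g → ∃ z ∈ zpowers (h.φ e1M), z⁻¹ * g ∈ ψ.range

theorem big_model : wM ^ 4 = 1 ∧ wM * e1M = e1M * wM ∧ wM * e2M * wM⁻¹ = e3M ∧ wM * e3M * wM⁻¹ = e2M⁻¹ ∧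
    e2M ^ 3 = 1 ∧ e2M ≠ 1 ∧ e3M ^ 3 = 1 ∧ e2M * e3M = e3M * e2M ∧ ∀ i : Fin 3, e2M ^ (i : ℕ) ≠ e3M := by
  decide +kernel

/-- Either the centraliser of the first line is small or it is identified. -/
theorem centre_big : centralizer ({h.φ e1M} : Set G) ≤ h.φ.range ∨ Nonempty h.Big := by
  rcases h.centre_cases with hc | ⟨A1, hA, ⟨eA⟩, -, h2, h3, h4, hdec⟩
  · exact Or.inl hc
  right
  obtain ⟨w4, we, w2, w3, p2, n2, p3, pc, pne⟩ := big_model
  have hwA : h.φ wM ∈ A1 := h4 _ (mem_centralizer_singleton_iff.2 (by rw [← map_mul, ← map_mul, we]))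
    (by rw [← map_pow, w4, map_one])
  set X : A1 := ⟨h.φ e2M, h2⟩ with hX
  set Y : A1 := ⟨h.φ e3M, h3⟩ with hY
  set W : A1 := ⟨h.φ wM, hwA⟩ with hW
  obtain ⟨θ, t1, t2, t3⟩ := exists_normalize (x := eA X) (y := eA Y) (z := eA W)
    (by rw [← map_pow, show X ^ 3 = 1 from Subtype.ext (by simp [hX, ← map_pow, p2]), map_one])
    (fun e => n2 (h.inj (by
      have := congrArg Subtype.val (eA.injective (e.trans (map_one _).symm))
      exact this.trans (map_one _).symm)))
    (by rw [← map_pow, show Y ^ 3 = 1 from Subtype.ext (by simp [hY, ← map_pow, p3]), map_one])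
    (by rw [← map_mul, ← map_mul, show X * Y = Y * X from Subtype.ext (by simp [hX, hY, ← map_mul, pc])])
    (fun i e => pne i (h.inj (by
      rw [← map_pow] at e
      have := congrArg Subtype.val (eA.injective e)
      rw [map_pow]
      exact this)))
    (by rw [← map_inv, ← map_mul, ← map_mul,
      show W * X * W⁻¹ = Y from Subtype.ext (by simp [hX, hY, hW, ← map_mul, ← map_inv, w2])])
    (by rw [← map_inv, ← map_inv, ← map_mul, ← map_mul,
      show W * Y * W⁻¹ = X⁻¹ from Subtype.ext (by simp [hX, hY, hW, ← map_mul, ← map_inv, w3])])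
  let e := eA.trans θ
  refine ⟨{ ψ := A1.subtype.comp e.symm.toMonoidHom
            inj := Subtype.val_injective.comp e.symm.injective
            map_a := ?_, map_b := ?_, map_w := ?_, cent := ?_, dec := ?_ }⟩
  · show ((e.symm a6 : A1) : G) = h.φ e2M
    rw [show e.symm a6 = X from e.symm_apply_eq.2 t1.symm]
  · show ((e.symm b6 : A1) : G) = h.φ e3M
    rw [show e.symm b6 = Y from e.symm_apply_eq.2 t2.symm]
  · show ((e.symm w6 : A1) : G) = h.φ wM
    rw [show e.symm w6 = W from e.symm_apply_eq.2 t3.symm]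
  · exact fun x => mem_centralizer_singleton_iff.1 (hA (e.symm x).2)
  · intro g hg
    obtain ⟨z, hz, hzg⟩ := hdec g (mem_centralizer_singleton_iff.2 hg)
    refine ⟨z, hz, e ⟨_, hzg⟩, ?_⟩
    show ((e.symm (e ⟨_, hzg⟩) : A1) : G) = _
    rw [e.symm_apply_apply]

namespace Big

variable {h}
variable (B : h.Big)

/-- The line is outside the complement. -/
theorem eq_one_of_mem {z : G} (hz : z ∈ zpowers (h.φ e1M)) (hzr : z ∈ B.ψ.range) : z = 1 := by
  obtain ⟨x, rfl⟩ := hzr
  obtain ⟨n, hn⟩ := mem_zpowers_iff.1 hz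
  have key : ∀ x : A6, x * a6 = a6 * x → x * b6 = b6 * x → x * w6 = w6 * x → x = 1 := by decide +kernel
  have hc : ∀ y, x * y = y * x := fun y => B.inj (by
    rw [map_mul, map_mul, ← hn]
    exact (((show Commute (B.ψ y) (h.φ e1M) from B.cent y).zpow_right n).eq).symm)
  rw [key x (hc _) (hc _) (hc _), map_one]

/-- The translation identified with an element of the complement. -/
theorem map_eq {m : M} {x : A6} (e : perm m = emb x) : h.φ m = B.ψ x := by
  obtain ⟨i, j, k, rfl⟩ := fix_word m (by rw [e]; exact emb_fix x 0) (by rw [e]; exact emb_fix x 1)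
    (by rw [e]; exact emb_fix x 2)
  have hx : x = a6 ^ (i : ℕ) * b6 ^ (j : ℕ) * w6 ^ (k : ℕ) := emb_injective (by
    rw [← e, map_mul, map_mul, map_mul, map_mul, map_pow, map_pow, map_pow, map_pow, map_pow, map_pow,
      emb_gens.1, emb_gens.2.1, emb_gens.2.2])
  rw [hx, map_mul, map_mul, map_mul, map_mul, map_pow, map_pow, map_pow, map_pow, map_pow, map_pow,
    B.map_a, B.map_b, B.map_w]

/-- Conjugation by the reversing element. -/
theorem conj_h (x : A6) : h.φ hM * B.ψ x * (h.φ hM)⁻¹ = B.ψ (conjA (swap 4 5) x) := by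
  set f : A6 →* G := B.ψ.comp (conjA (swap 4 5)).toMonoidHom with hf
  set g : A6 →* G := (MulAut.conj (h.φ hM)).toMonoidHom.comp B.ψ with hg
  have key : ∀ (m : M) (y : A6), perm m = emb y →
      h.φ hM * B.ψ y * (h.φ hM)⁻¹ = B.ψ (conjA (swap 4 5) y) := by
    intro m y e
    rw [← B.map_eq e, ← map_inv, ← map_mul, ← map_mul]
    refine B.map_eq ?_
    rw [map_mul, map_mul, map_inv, e]
    exact Equiv.ext fun p => (emb_h y p).trans rfl
  have hinv : h.φ hM * h.φ e1M * (h.φ hM)⁻¹ = (h.φ e1M)⁻¹ := by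
    rw [← map_inv, ← map_inv, ← map_mul, ← map_mul,
      show hM * e1M * hM⁻¹ = e1M⁻¹ by decide +kernel]
  have hrange : ∀ y, g y ∈ f.range := by
    have hs : g s6 ∈ f.range := by
      have hc : g s6 * h.φ e1M = h.φ e1M * g s6 := by
        have h1 := congrArg (MulAut.conj (h.φ hM)) (show B.ψ s6 * (h.φ e1M)⁻¹ = (h.φ e1M)⁻¹ * B.ψ s6 from
          ((show Commute (B.ψ s6) (h.φ e1M) from B.cent s6).inv_right).eq)
        rw [map_mul, map_mul, map_inv, MulAut.conj_apply (h.φ hM) (h.φ e1M), hinv, inv_inv] at h1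
        exact h1
      obtain ⟨z, hz, y, hy⟩ := B.dec _ hc
      have e2 : g s6 = z * B.ψ y := by rw [hy, mul_inv_cancel_left]
      have hzc : Commute z (B.ψ y) := by
        obtain ⟨n, rfl⟩ := mem_zpowers_iff.1 hz
        exact ((show Commute (B.ψ y) (h.φ e1M) from B.cent y).zpow_right n).symm
      have h2 : z * z * (B.ψ y * B.ψ y) = 1 := by
        rw [hzc.mul_mul_mul_comm, ← e2, ← map_mul, six_gens.2.2.2.2.2.2.2.2.2.1, map_one]
      have hzz : z * z = 1 := B.eq_one_of_mem (mul_mem hz hz) ⟨(y * y)⁻¹, by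
        rw [map_inv, map_mul, ← eq_inv_of_mul_eq_one_left h2]⟩
      have hz3 : z * (z * z) = 1 := by
        obtain ⟨n, rfl⟩ := mem_zpowers_iff.1 hz
        rw [← pow_three, ← zpow_natCast, ← zpow_mul, mul_comm, zpow_mul, zpow_natCast, ← map_pow,
          e1M_facts.1, map_one, one_zpow]
      rw [hzz, mul_one] at hz3
      rw [e2, hz3, one_mul]
      refine ⟨(conjA (swap 4 5)).symm y, ?_⟩
      simp [hf]
    intro y
    have : (⊤ : Subgroup A6) ≤ f.range.comap g := by
      rw [← closure_six, closure_le]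
      rintro z (rfl | rfl | rfl | rfl)
      · exact ⟨_, (key e2M a6 emb_gens.1).symm⟩
      · exact ⟨_, (key e3M b6 emb_gens.2.1).symm⟩
      · exact ⟨_, (key wM w6 emb_gens.2.2).symm⟩
      · exact hs
    exact this (mem_top y)
  have hfg : f = g := six_unique (B.inj.comp (conjA (swap 4 5)).injective) hrange
    ((MulAut.conj (h.φ hM)).injective.comp B.inj) (key e2M a6 emb_gens.1).symm (key e3M b6 emb_gens.2.1).symm
    (key wM w6 emb_gens.2.2).symm
  exact (DFunLike.congr_fun hfg x).symm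

/-- Elements stabilising the first block act on the complement as on the points. -/
theorem equiv_base {k : M} (hk : Stab0 k) {x y : A6} (he : perm k * emb x * (perm k)⁻¹ = emb y) :
    h.φ k * B.ψ x * (h.φ k)⁻¹ = B.ψ y := by
  obtain ⟨i, e, hw⟩ := stab_word k hk
  set m := (e1M ^ (i : ℕ))⁻¹ * k * (hM ^ (e : ℕ))⁻¹ with hm
  have hk' : k = e1M ^ (i : ℕ) * m * hM ^ (e : ℕ) := by rw [hm]; group
  clear_value m
  obtain ⟨a, b, c, habc⟩ := fix_word m (hw 0) (hw 1) (hw 2)
  set z := a6 ^ (a : ℕ) * b6 ^ (b : ℕ) * w6 ^ (c : ℕ) with hz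
  have hmz : perm m = emb z := by
    rw [habc, hz, map_mul, map_mul, map_mul, map_mul, map_pow, map_pow, map_pow, map_pow, map_pow, map_pow,
      emb_gens.1, emb_gens.2.1, emb_gens.2.2]
  obtain ⟨x', hx', hx''⟩ : ∃ x', perm (hM ^ (e : ℕ)) * emb x * (perm (hM ^ (e : ℕ)))⁻¹ = emb x' ∧
      h.φ (hM ^ (e : ℕ)) * B.ψ x * (h.φ (hM ^ (e : ℕ)))⁻¹ = B.ψ x' := by
    rcases (show e.val = 0 ∨ e.val = 1 by omega) with e0 | e0 <;> rw [e0]
    · exact ⟨x, by simp, by simp⟩
    · refine ⟨conjA (swap 4 5) x, ?_, by rw [pow_one]; exact B.conj_h x⟩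
      rw [pow_one]
      exact Equiv.ext fun p => (emb_h x p).trans rfl
  have hy : y = z * x' * z⁻¹ := by
    refine emb_injective ?_
    rw [← he, hk', map_mul, map_mul, map_mul, map_mul, map_inv, ← hx', hmz]
    have hc : Commute (perm (e1M ^ (i : ℕ))) (emb (z * x' * z⁻¹)) := by
      rw [map_pow]; exact (show Commute _ _ from emb_e1 _).pow_left _
    rw [map_mul, map_mul, map_inv, ← hx'] at hc
    calc perm (e1M ^ (i : ℕ)) * emb z * perm (hM ^ (e : ℕ)) * emb x *
          (perm (e1M ^ (i : ℕ)) * emb z * perm (hM ^ (e : ℕ)))⁻¹ =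
        perm (e1M ^ (i : ℕ)) * (emb z * (perm (hM ^ (e : ℕ)) * emb x * (perm (hM ^ (e : ℕ)))⁻¹) * (emb z)⁻¹) *
          (perm (e1M ^ (i : ℕ)))⁻¹ := by group
      _ = _ := by rw [hc.eq, mul_inv_cancel_right]
  have hc : Commute (h.φ (e1M ^ (i : ℕ))) (B.ψ (z * x' * z⁻¹)) := by
    rw [map_pow]; exact ((show Commute _ _ from B.cent _).symm).pow_left _
  rw [map_mul, map_mul, map_inv] at hc
  rw [hy, map_mul, map_mul, map_inv, hk', map_mul, map_mul, B.map_eq hmz]
  calc h.φ (e1M ^ (i : ℕ)) * B.ψ z * h.φ (hM ^ (e : ℕ)) * B.ψ x *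
        (h.φ (e1M ^ (i : ℕ)) * B.ψ z * h.φ (hM ^ (e : ℕ)))⁻¹ =
      h.φ (e1M ^ (i : ℕ)) * (B.ψ z * (h.φ (hM ^ (e : ℕ)) * B.ψ x * (h.φ (hM ^ (e : ℕ)))⁻¹) * (B.ψ z)⁻¹) *
        (h.φ (e1M ^ (i : ℕ)))⁻¹ := by group
    _ = _ := by rw [hx'', hc.eq, mul_inv_cancel_right]

/-- The complement of the line of a block. -/
def psi (j : Fin 3) : A6 →* G := (MulAut.conj (h.φ (gc ^ (j : ℕ)))).toMonoidHom.comp B.ψ

theorem psi_apply (j : Fin 3) (x : A6) :
    B.psi j x = h.φ (gc ^ (j : ℕ)) * B.ψ x * (h.φ (gc ^ (j : ℕ)))⁻¹ := rfl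

end Big

end Hyp

/-- The alternating group missing a block. -/
def embJ (j : Fin 3) (x : A6) : Perm (Fin 9) := perm (gc ^ (j : ℕ)) * emb x * (perm (gc ^ (j : ℕ)))⁻¹

theorem Hyp.Big.equiv {G : Type u} [Group G] [Finite G] {h : Hyp G} (B : h.Big) {k : M} {i j : Fin 3}
    (hk : Stab0 ((gc ^ (j : ℕ))⁻¹ * k * gc ^ (i : ℕ))) {x y : A6}
    (he : perm k * embJ i x * (perm k)⁻¹ = embJ j y) : h.φ k * B.psi i x * (h.φ k)⁻¹ = B.psi j y := by
  have hb := B.equiv_base hk (x := x) (y := y) (by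
    calc perm ((gc ^ (j : ℕ))⁻¹ * k * gc ^ (i : ℕ)) * emb x * (perm ((gc ^ (j : ℕ))⁻¹ * k * gc ^ (i : ℕ)))⁻¹ =
        (perm (gc ^ (j : ℕ)))⁻¹ * (perm k * embJ i x * (perm k)⁻¹) * perm (gc ^ (j : ℕ)) := by
          simp only [embJ, map_mul, map_inv]; group
      _ = emb y := by rw [he, embJ]; group)
  rw [B.psi_apply, B.psi_apply, ← hb, map_mul, map_mul, map_inv]
  group

end Cfsg.Agent.A9ThreeLocal
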