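import Cfsg.Agent.A9ThreeLocal.Basic
import Mathlib.GroupTheory.Transfer

/-!
Normal complements of self-centralising abelian Sylow subgroups.
-/

set_option autoImplicit false

namespace Cfsg.Agent.A9ThreeLocal

open Subgroup

universe u

variable {G : Type u} [Group G] [Finite G]

/-- A subgroup with an abelian Sylow `3`-subgroup central in its normaliser has a normal complement,
invariant under every automorphism. -/
theorem exists_central_complement (K J : Subgroup G) (hJK : J ≤ K)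
    (hc : ∀ g ∈ K, g ∈ normalizer (J : Set G) → ∀ x ∈ J, g * x = x * g) (hJ : IsPGroup 3 J)
    (hmax : ∀ P : Subgroup G, IsPGroup 3 P → J ≤ P → P ≤ K → P ≤ J) :
    ∃ T : Subgroup G, T ≤ K ∧ ¬ 3 ∣ Nat.card T ∧ (∀ x ∈ K, ∃ t ∈ T, ∃ j ∈ J, x = t * j) ∧
      ∀ g : G, (∀ x ∈ K, g * x * g⁻¹ ∈ K) → ∀ t ∈ T, g * t * g⁻¹ ∈ T := by
  classical
  haveI : Fact (Nat.Prime 3) := ⟨Nat.prime_three⟩
  obtain ⟨P, hP⟩ := (hJ.comap_subtype (K := K)).exists_le_sylow
  have hPJ : (P : Subgroup K) = J.comap K.subtype := by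
    refine le_antisymm (fun x hx => ?_) hP
    exact hmax _ (P.2.map K.subtype) (fun y hy => ⟨⟨y, hJK hy⟩, hP hy, rfl⟩) (map_subtype_le _) ⟨x, hx, rfl⟩
  have hN : normalizer ((P : Subgroup K) : Set K) ≤ centralizer ((P : Subgroup K) : Set K) := by
    intro g hg
    rw [hPJ] at hg ⊢
    have hgN : (g : G) ∈ normalizer (J : Set G) := mem_normalizer_fintype fun x hx =>
      (mem_normalizer_iff.1 hg ⟨x, hJK hx⟩).1 hx
    exact mem_centralizer_iff.2 fun y hy => Subtype.ext (hc g g.2 hgN y hy).symm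
  have hcompl := MonoidHom.ker_transferSylow_isComplement' P hN
  have hnd := MonoidHom.not_dvd_card_ker_transferSylow P hN
  have hchar : ∀ x : K, x ∈ (MonoidHom.transferSylow P hN).ker ↔
      ¬ 3 ∣ orderOf x := by
    intro x
    rw [MonoidHom.mem_ker]
    refine ⟨fun hx hd => ?_, fun hd => ?_⟩
    · have := orderOf_dvd_natCard (⟨x, hx⟩ : (MonoidHom.transferSylow P hN).ker)
      exact hnd (hd.trans ((orderOf_coe (⟨x, hx⟩ : (MonoidHom.transferSylow P hN).ker)).symm ▸ this))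
    · rw [← orderOf_eq_one_iff]
      obtain ⟨k, hk⟩ := P.2 (MonoidHom.transferSylow P hN x)
      obtain ⟨i, -, hi⟩ := (Nat.dvd_prime_pow Nat.prime_three).1 (orderOf_dvd_of_pow_eq_one hk)
      cases i with
      | zero => rw [hi, pow_zero]
      | succ i =>
        refine absurd ((Dvd.intro _ (pow_succ' 3 i).symm).trans ?_) hd
        rw [← hi]
        exact orderOf_map_dvd _ x
  generalize (MonoidHom.transferSylow P hN).ker = T0 at hcompl hnd hchar
  refine ⟨T0.map K.subtype, map_subtype_le _, by rwa [card_map_of_injective K.subtype_injective], ?_, ?_⟩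
  · intro x hx
    obtain ⟨⟨⟨t, ht⟩, ⟨j, hj⟩⟩, e⟩ := hcompl.2 ⟨x, hx⟩
    refine ⟨t, ⟨t, ht, rfl⟩, j, ?_, (congrArg Subtype.val e).symm⟩
    rw [SetLike.mem_coe, hPJ] at hj; exact hj
  · rintro g hg _ ⟨t, ht, rfl⟩
    refine ⟨⟨g * (t : G) * g⁻¹, hg _ t.2⟩, ?_, rfl⟩
    rw [SetLike.mem_coe, hchar, ← orderOf_coe]
    show ¬ 3 ∣ orderOf (MulAut.conj g (t : G))
    rw [MulEquiv.orderOf_eq, orderOf_coe]
    exact (hchar t).1 ht

omit [Finite G] in
/-- A product with a trivial factor. -/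
theorem mem_of_mem_mul {T J : Subgroup G} (hT : T = ⊥) {x : G} (h : ∃ t ∈ T, ∃ j ∈ J, x = t * j) : x ∈ J := by
  obtain ⟨t, ht, j, hj, rfl⟩ := h
  rw [hT, mem_bot] at ht
  rwa [ht, one_mul]

end Cfsg.Agent.A9ThreeLocal
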