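import Cfsg.Agent.A9ThreeLocal.Setup
import Cfsg.Agent.A9ThreeLocal.Central
import Cfsg.Agent.S4226
import Cfsg.Prelude.Def_BaumannBlocks

/-!
The centraliser of an element of the third kind is the Sylow subgroup.
-/

set_option autoImplicit false
set_option synthInstance.maxSize 4000
set_option synthInstance.maxHeartbeats 400000

namespace Cfsg.Agent.A9ThreeLocal

open Subgroup ThreeFullWreath
open scoped commutatorElement

universe u

/-- The elements of the Sylow subgroup. -/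
def sm (t : A) (i : Fin 3) : M := SemidirectProduct.inl t * gc ^ (i : ℕ)

/-- Translations with sum zero. -/
def SumZero (m : M) : Prop :=
  m.right = 1 ∧ m.left.toAdd.1 + m.left.toAdd.2.1 + m.left.toAdd.2.2 = 0

instance : DecidablePred SumZero := fun m => by unfold SumZero; infer_instance

theorem S_param : ∀ m : M, m * aM = aM * m → ∃ t i, m = sm t i := by decide +kernel

theorem comm_S : ∀ (t : A) (i : Fin 3) (t' : A) (i' : Fin 3), SumZero ⁅sm t i, sm t' i'⁆ := by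
  decide +kernel

theorem comm_W : ∀ (t : A) (t' : A) (i' : Fin 3),
    (SemidirectProduct.inl t : M).left.toAdd.1 + t.toAdd.2.1 + t.toAdd.2.2 = 0 →
    ⁅(SemidirectProduct.inl t : M), sm t' i'⁆ = 1 ∨ ⁅(SemidirectProduct.inl t : M), sm t' i'⁆ = aM ∨
      ⁅(SemidirectProduct.inl t : M), sm t' i'⁆ = aM⁻¹ := by
  decide +kernel

theorem a_cube : aM ^ 3 = 1 ∧ aM ≠ 1 := by decide +kernel

theorem pResidual_eq_bot {P : Type*} [Group P] {p : ℕ} [Fact p.Prime] (hP : IsPGroup p P) :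
    Cfsg.pResidual p P = ⊥ := by
  refine eq_bot_iff.2 ((closure_le _).2 fun g hg => mem_bot.2 ?_)
  obtain ⟨k, hk⟩ := hP g
  exact orderOf_eq_one_iff.1 (Nat.Coprime.eq_one_of_dvd (Nat.Coprime.pow_right k hg)
    (orderOf_dvd_of_pow_eq_one hk))

namespace Hyp

variable {G : Type u} [Group G] [Finite G] (h : Hyp G)

theorem S_le_range : h.S ≤ h.φ.range := by rintro _ ⟨m, -, rfl⟩; exact ⟨m, rfl⟩

theorem cent_a : centralizer ({h.φ aM} : Set G) = h.S := by
  classical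
  haveI : Fact (Nat.Prime 3) := ⟨Nat.prime_three⟩
  set C := centralizer ({h.φ aM} : Set G) with hC
  have hSC : h.S ≤ C := by
    intro x hx
    obtain ⟨m, hm, rfl⟩ := h.mem_S.1 hx
    rw [hC, mem_centralizer_singleton_iff, ← map_mul, ← map_mul, hm]
  have ha3 : h.φ aM ^ 3 = 1 := by rw [← map_pow, a_cube.1, map_one]
  have ha1 : h.φ aM ≠ 1 := fun e => a_cube.2 (h.inj (e.trans (map_one _).symm))
  set aC : C := ⟨h.φ aM, mem_centralizer_singleton_iff.2 rfl⟩ with haC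
  set Z := zpowers aC with hZ
  haveI hZn : Z.Normal := ⟨fun x hx g => by
    obtain ⟨n, rfl⟩ := mem_zpowers_iff.1 hx
    have hc : Commute g aC := Subtype.ext (mem_centralizer_singleton_iff.1 g.2)
    rw [(hc.zpow_right n).eq, mul_inv_cancel_right]
    exact zpow_mem (mem_zpowers _) n⟩
  have hZ3 : IsPGroup 3 Z := IsPGroup.of_card (n := 1) (by
    rw [Nat.card_zpowers, haC, orderOf_mk, orderOf_eq_prime ha3 ha1, pow_one])
  set π : C →* C ⧸ Z := QuotientGroup.mk' Z with hπ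
  have hπs : Function.Surjective π := QuotientGroup.mk'_surjective Z
  have hker : π.ker = Z := QuotientGroup.ker_mk' Z
  have haS : h.φ aM ∈ h.S := h.mem_S.2 ⟨aM, rfl, rfl⟩
  have hZS : Z ≤ h.S.subgroupOf C := zpowers_le.2 haS
  have hS3 : IsPGroup 3 ((h.S.subgroupOf C).map π) := (h.S_isPGroup.comap_subtype).map π
  obtain ⟨P, hP⟩ := hS3.exists_le_sylow
  have hpre3 : IsPGroup 3 ((P : Subgroup (C ⧸ Z)).comap π) := by
    rintro ⟨x, hx⟩
    obtain ⟨k, hk⟩ := P.2 ⟨π x, hx⟩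
    have hxk : x ^ 3 ^ k ∈ Z := by
      rw [← hker, MonoidHom.mem_ker, map_pow]
      exact congrArg Subtype.val hk
    obtain ⟨l, hl⟩ := hZ3 ⟨_, hxk⟩
    refine ⟨k + l, Subtype.ext ?_⟩
    show x ^ 3 ^ (k + l) = 1
    rw [pow_add, pow_mul]
    exact congrArg Subtype.val hl
  have hcard81 : Nat.card (h.S.subgroupOf C) = 81 := by
    rw [Nat.card_congr (subgroupOfEquivOfLe hSC).toEquiv, h.S_card]
  have small : ∀ R : Subgroup C, IsPGroup 3 R → Nat.card R ≤ 81 := by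
    intro R hR
    obtain ⟨k, hk⟩ := h.exists_conj_S (hR.map C.subtype)
    rw [← h.S_card, ← card_map_of_injective (K := R) C.subtype_injective]
    exact Nat.card_le_card_of_injective (fun x => (⟨k * (x : G) * k⁻¹, hk _ x.2⟩ : h.S))
      fun x y e => Subtype.ext (mul_left_cancel (mul_right_cancel (congrArg Subtype.val e)))
  have hPpre : (P : Subgroup (C ⧸ Z)).comap π = h.S.subgroupOf C := by
    refine (eq_of_le_of_card_ge (map_le_iff_le_comap.1 hP) ?_).symm
    rw [hcard81]; exact small _ hpre3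
  have hPmap : (P : Subgroup (C ⧸ Z)) = (h.S.subgroupOf C).map π := by
    rw [← hPpre, map_comap_eq_self_of_surjective hπs]
  have hN : normalizer ((P : Subgroup (C ⧸ Z)) : Set (C ⧸ Z)) = P := by
    refine le_antisymm (fun q hq => ?_) le_normalizer
    obtain ⟨g, rfl⟩ := hπs q
    have hg : (g : G) ∈ normalizer (h.S : Set G) := mem_normalizer_fintype fun x hx => by
      have h1 : π ⟨x, hSC hx⟩ ∈ (P : Subgroup (C ⧸ Z)) := hPmap ▸ ⟨_, hx, rfl⟩
      have h2 := (mem_normalizer_iff.1 hq _).1 h1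
      rw [← map_inv, ← map_mul, ← map_mul] at h2
      exact (hPpre ▸ h2 : g * ⟨x, hSC hx⟩ * g⁻¹ ∈ h.S.subgroupOf C)
    obtain ⟨m, hm⟩ := h.S_norm hg
    rw [hPmap]
    refine ⟨g, ?_, rfl⟩
    show (g : G) ∈ h.S
    refine h.mem_S.2 ⟨m, h.inj ?_, hm⟩
    rw [map_mul, map_mul, hm]
    exact mem_centralizer_singleton_iff.1 g.2
  -- class less than three
  let W : Subgroup (C ⧸ Z) := ((h.J.subgroupOf C ⊓ h.S.subgroupOf C) ⊓
    { carrier := {x : C | ∃ m : M, SumZero m ∧ h.φ m = x}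
      one_mem' := ⟨1, by decide +kernel, map_one _⟩
      mul_mem' := by
        rintro x y ⟨m, hm, em⟩ ⟨m', hm', em'⟩
        refine ⟨m * m', ⟨by simp [hm.1, hm'.1], ?_⟩, by rw [map_mul, em, em']; rfl⟩
        have : (m * m').left = m.left * m'.left := by simp [hm.1]
        rw [this, toAdd_mul, Prod.fst_add, Prod.snd_add, Prod.fst_add, Prod.snd_add]
        linear_combination hm.2 + hm'.2
      inv_mem' := by
        rintro x ⟨m, hm, em⟩
        refine ⟨m⁻¹, ⟨by simp [hm.1], ?_⟩, by rw [map_inv, em]; rfl⟩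
        have : m⁻¹.left = m.left⁻¹ := by simp [hm.1]
        rw [this, toAdd_inv, Prod.fst_neg, Prod.snd_neg, Prod.fst_neg, Prod.snd_neg]
        linear_combination -hm.2 }).map π
  have hcl : (P : Subgroup (C ⧸ Z)).lowerCentralSeries (3 - 1) = ⊥ := by
    show ⁅⁅(P : Subgroup (C ⧸ Z)), (P : Subgroup (C ⧸ Z))⁆, (P : Subgroup (C ⧸ Z))⁆ = ⊥
    have h1 : ⁅(P : Subgroup (C ⧸ Z)), (P : Subgroup (C ⧸ Z))⁆ ≤ W := by
      rw [commutator_le, hPmap]
      rintro _ ⟨x, hx, rfl⟩ _ ⟨y, hy, rfl⟩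
      obtain ⟨m, hm, ex⟩ := h.mem_S.1 hx
      obtain ⟨m', hm', ey⟩ := h.mem_S.1 hy
      obtain ⟨t, i, rfl⟩ := S_param m hm
      obtain ⟨t', i', rfl⟩ := S_param m' hm'
      have hz := comm_S t i t' i'
      have e : h.φ ⁅sm t i, sm t' i'⁆ = ((⁅x, y⁆ : C) : G) := by
        simp only [commutatorElement_def, map_mul, map_inv, ex, ey]; rfl
      refine ⟨⁅x, y⁆, ⟨⟨?_, ?_⟩, ⟨_, hz, e⟩⟩, map_commutatorElement π x y⟩
      · exact ⟨_, hz.1, e⟩
      · exact (h.S.subgroupOf C).mul_mem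
          ((h.S.subgroupOf C).mul_mem ((h.S.subgroupOf C).mul_mem hx hy) ((h.S.subgroupOf C).inv_mem hx))
          ((h.S.subgroupOf C).inv_mem hy)
    rw [eq_bot_iff]
    refine (commutator_mono h1 le_rfl).trans ?_
    rw [commutator_le, hPmap]
    rintro _ ⟨x, ⟨-, ⟨m, hm, ex⟩⟩, rfl⟩ _ ⟨y, hy, rfl⟩
    obtain ⟨m', hm', ey⟩ := h.mem_S.1 hy
    obtain ⟨t', i', rfl⟩ := S_param m' hm'
    obtain ⟨c1, c2, c3, rfl⟩ := right_el m hm.1
    rw [mem_bot, ← map_commutatorElement, ← MonoidHom.mem_ker, hker]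
    have e : h.φ ⁅el c1 c2 c3, sm t' i'⁆ = ((⁅x, y⁆ : C) : G) := by
      simp only [commutatorElement_def, map_mul, map_inv, ex, ey]; rfl
    rcases comm_W (Multiplicative.ofAdd (c1, c2, c3)) t' i' hm.2 with e1 | e1 | e1
    · rw [show el c1 c2 c3 = SemidirectProduct.inl (Multiplicative.ofAdd (c1, c2, c3)) from rfl, e1, map_one] at e
      rw [show ⁅x, y⁆ = 1 from Subtype.ext e.symm]; exact one_mem _
    · rw [show el c1 c2 c3 = SemidirectProduct.inl (Multiplicative.ofAdd (c1, c2, c3)) from rfl, e1] at e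
      rw [show ⁅x, y⁆ = aC from Subtype.ext e.symm]; exact mem_zpowers _
    · rw [show el c1 c2 c3 = SemidirectProduct.inl (Multiplicative.ofAdd (c1, c2, c3)) from rfl, e1, map_inv] at e
      rw [show ⁅x, y⁆ = aC⁻¹ from Subtype.ext e.symm]; exact inv_mem (mem_zpowers _)
  have hres := Cfsg.Agent.S4226.result P hcl
  rw [hN] at hres
  rw [Cfsg.pResidualOf, pResidual_eq_bot P.2, Subgroup.map_bot] at hres
  set R := Cfsg.pResidual 3 (C ⧸ Z) with hR
  have hRn : R.Normal := by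
    refine ⟨fun x hx g => ?_⟩
    have hle : R ≤ R.comap (MulAut.conj g).toMonoidHom := by
      rw [hR, Cfsg.pResidual]
      refine (closure_le _).2 fun y hy => subset_closure ?_
      show Nat.Coprime (orderOf (MulAut.conj g y)) 3
      rw [MulEquiv.orderOf_eq]; exact hy
    exact hle hx
  have hR3 : ¬ 3 ∣ Nat.card R := fun hd => by
    obtain ⟨x, hx⟩ := exists_prime_orderOf_dvd_card' 3 hd
    have hxp : IsPGroup 3 (zpowers (x : C ⧸ Z)) := IsPGroup.of_card (n := 1) (by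
      rw [Nat.card_zpowers, orderOf_coe, hx, pow_one])
    obtain ⟨Q, hQ⟩ := hxp.exists_le_sylow
    obtain ⟨k, hk⟩ := MulAction.exists_smul_eq (C ⧸ Z) Q P
    have h1 : k * (x : C ⧸ Z) * k⁻¹ ∈ (P : Subgroup (C ⧸ Z)) := by
      rw [← hk, Sylow.coe_subgroup_smul]
      exact ⟨x, hQ (mem_zpowers _), rfl⟩
    have h2 : k * (x : C ⧸ Z) * k⁻¹ ∈ (⊥ : Subgroup (C ⧸ Z)) := hres ▸ ⟨hRn.conj_mem _ x.2 k, h1⟩
    rw [mem_bot, conj_eq_one_iff] at h2
    rw [show x = 1 from Subtype.ext h2, orderOf_one] at hx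
    omega
  -- the preimage of the residual
  set K := (R.comap π).map C.subtype with hK
  have hZK : zpowers (h.φ aM) ≤ K := zpowers_le.2 ⟨aC, by
    show π aC ∈ R
    rw [show π aC = 1 from (QuotientGroup.eq_one_iff aC).2 (mem_zpowers _)]
    exact one_mem R, rfl⟩
  have hKC : K ≤ C := map_subtype_le _
  obtain ⟨T, hTK, hT3, hTdec, hTinv⟩ := exists_central_complement K (zpowers (h.φ aM)) hZK
    (fun g hg _ x hx => by
      obtain ⟨n, rfl⟩ := mem_zpowers_iff.1 hx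
      exact ((show Commute g (h.φ aM) from mem_centralizer_singleton_iff.1 (hKC hg)).zpow_right n).eq)
    (IsPGroup.of_card (n := 1) (by rw [Nat.card_zpowers, orderOf_eq_prime ha3 ha1, pow_one]))
    (fun Q hQ hQZ hQK x hx => by
      obtain ⟨c, hc, rfl⟩ := hQK hx
      obtain ⟨k, hk⟩ := hQ ⟨_, hx⟩
      have hck : c ^ 3 ^ k = 1 := Subtype.ext (congrArg (fun w : Q => (w : G)) hk)
      have hcZ : c ∈ Z := by
        rw [← hker, MonoidHom.mem_ker, ← orderOf_eq_one_iff]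
        have d1 : orderOf (π c) ∣ 3 ^ k := orderOf_dvd_of_pow_eq_one (by rw [← map_pow, hck, map_one])
        have d2 : orderOf (π c) ∣ Nat.card R := by
          have := orderOf_dvd_natCard (⟨π c, hc⟩ : R)
          rwa [← orderOf_coe] at this
        exact Nat.eq_one_of_dvd_coprimes
          (Nat.Coprime.pow_left k ((Nat.prime_three.coprime_iff_not_dvd).2 hR3)) d1 d2
      obtain ⟨n, hn⟩ := mem_zpowers_iff.1 hcZ
      exact mem_zpowers_iff.2 ⟨n, congrArg Subtype.val hn⟩)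
  have hTbot : T = ⊥ := h.core aM rfl a_cube.2 T (hTK.trans hKC) (fun x hx k hk =>
    hTinv x (fun y hy => by
      obtain ⟨c, hc, rfl⟩ := hy
      refine ⟨⟨x, hx⟩ * c * (⟨x, hx⟩ : C)⁻¹, ?_, rfl⟩
      show π _ ∈ R
      rw [map_mul, map_mul, map_inv]
      exact hRn.conj_mem _ hc _) k hk) hT3
  have hRbot : R = ⊥ := by
    rw [eq_bot_iff]
    intro q hq
    obtain ⟨c, rfl⟩ := hπs q
    obtain ⟨n, hn⟩ := mem_zpowers_iff.1 (mem_of_mem_mul hTbot (hTdec c ⟨c, hq, rfl⟩))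
    rw [mem_bot]
    exact (QuotientGroup.eq_one_iff c).2 (mem_zpowers_iff.2 ⟨n, Subtype.ext hn⟩)
  have hQ3 : IsPGroup 3 (C ⧸ Z) := by
    intro q
    refine ⟨(orderOf q).factorization 3, ?_⟩
    have hne : orderOf q ≠ 0 := (orderOf_pos q).ne'
    have hmem : q ^ 3 ^ (orderOf q).factorization 3 ∈ R := subset_closure (by
      show Nat.Coprime (orderOf (q ^ 3 ^ (orderOf q).factorization 3)) 3
      rw [orderOf_pow_of_dvd (by positivity) (Nat.ordProj_dvd _ _)]
      exact ((Nat.prime_three.coprime_iff_not_dvd).2 (Nat.not_dvd_ordCompl Nat.prime_three hne)).symm)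
    rw [hRbot, mem_bot] at hmem
    exact hmem
  refine le_antisymm (fun x hx => ?_) hSC
  have hPtop : (P : Subgroup (C ⧸ Z)) = ⊤ := (P.3 (hQ3.to_subgroup ⊤) le_top).symm
  have : (⟨x, hx⟩ : C) ∈ h.S.subgroupOf C := hPpre ▸ (show π ⟨x, hx⟩ ∈ (P : Subgroup (C ⧸ Z)) by rw [hPtop]; exact mem_top _)
  exact this

theorem cent_a_conj (k : M) : centralizer ({h.φ (k * aM * k⁻¹)} : Set G) ≤ h.φ.range := by
  rw [map_mul, map_mul, map_inv, centralizer_conj, h.cent_a]
  rintro _ ⟨x, hx, rfl⟩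
  obtain ⟨m, rfl⟩ := h.S_le_range hx
  exact ⟨k * m * k⁻¹, by simp⟩

end Hyp

end Cfsg.Agent.A9ThreeLocal
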