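import Mathlib.GroupTheory.QuotientGroup.Basic
import Mathlib.GroupTheory.Sylow
import Mathlib.GroupTheory.FixedPointFree
import Mathlib.GroupTheory.Nilpotent
import Mathlib.GroupTheory.GroupAction.ConjAct

/-!
Quotients by a central involution, and nilpotent normal subgroups.
-/

set_option autoImplicit false

namespace Cfsg.Agent.A9ThreeLocal

open Subgroup

variable {C Q : Type*} [Group C] [Group Q]

/-- A representative of odd order. -/
theorem exists_odd_rep (π : C →* Q) (hπ : Function.Surjective π) {t : C} (ht : t * t = 1)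
    (hker : ∀ x, π x = 1 ↔ x = 1 ∨ x = t) {k : ℕ} (hk : Odd k) {x : Q} (hx : x ^ k = 1) :
    ∃ n : C, π n = x ∧ n ^ k = 1 := by
  obtain ⟨n, rfl⟩ := hπ x
  refine ⟨n ^ (k + 1), by rw [map_pow, pow_succ, hx, one_mul], ?_⟩
  obtain ⟨j, rfl⟩ := hk
  rcases (hker (n ^ (2 * j + 1))).1 (by rw [map_pow, hx]) with e | e <;> rw [← pow_mul, mul_comm, pow_mul, e]
  · exact one_pow _
  · rw [show 2 * j + 1 + 1 = 2 * (j + 1) by ring, pow_mul, pow_two, ht, one_pow]

/-- An element of odd order commuting modulo a central involution commutes. -/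
theorem commute_of_odd (π : C →* Q) {t : C} (ht : t * t = 1) (hc : ∀ x : C, Commute x t)
    (hker : ∀ x, π x = 1 ↔ x = 1 ∨ x = t) {k : ℕ} (hk : Odd k) {a n : C} (hn : n ^ k = 1)
    (h : Commute (π n) (π a)) : Commute n a := by
  have h0 : π (n * a * n⁻¹ * a⁻¹) = 1 := by
    simp only [map_mul, map_inv]; rw [h.eq, mul_inv_cancel_right, mul_inv_cancel]
  rcases (hker _).1 h0 with e | e
  · exact mul_inv_eq_iff_eq_mul.1 (mul_inv_eq_one.1 e)
  · have e2 : n * a * n⁻¹ = t * a := mul_inv_eq_iff_eq_mul.1 e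
    have e3 : Commute (n ^ 2) a := by
      refine mul_inv_eq_iff_eq_mul.1 ?_
      calc n ^ 2 * a * (n ^ 2)⁻¹ = n * (n * a * n⁻¹) * n⁻¹ := by rw [pow_two]; group
        _ = n * (t * a) * n⁻¹ := by rw [e2]
        _ = n * t * n⁻¹ * (n * a * n⁻¹) := by group
        _ = a := by rw [(hc n).eq, mul_inv_cancel_right, e2, ← mul_assoc, ht, one_mul]
    obtain ⟨j, rfl⟩ := hk
    have e4 : n = (n ^ 2) ^ (j + 1) := by
      rw [← pow_mul, show 2 * (j + 1) = 2 * j + 1 + 1 by ring, pow_succ, hn, one_mul]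
    rw [e4]
    exact e3.pow_left _

/-- A fixed-point-free involution of a normal subgroup of odd order inverts it. -/
theorem inv_of_fixedPointFree [Finite Q] {O : Subgroup Q} [O.Normal] {a : Q} (ha : a * a = 1)
    (hfix : ∀ x ∈ O, Commute x a → x = 1) : ∀ x ∈ O, a * x * a⁻¹ = x⁻¹ := by
  let θ : O →* O :=
    (((MulAut.conj a).toMonoidHom).comp O.subtype).codRestrict O fun x => ‹O.Normal›.conj_mem _ x.2 _
  have hθ : MonoidHom.FixedPointFree θ := fun x hx => by
    refine Subtype.ext (hfix x x.2 ?_)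
    have e : a * (x : Q) * a⁻¹ = x := congrArg Subtype.val hx
    exact (mul_inv_eq_iff_eq_mul.1 e).symm
  have hinvol : Function.Involutive θ := fun x => Subtype.ext (by
    show a * (a * (x : Q) * a⁻¹) * a⁻¹ = _
    rw [show a * (a * (x : Q) * a⁻¹) * a⁻¹ = (a * a) * x * (a * a)⁻¹ by group, ha]
    group)
  intro x hx
  exact congrArg Subtype.val (congrFun (hθ.coe_eq_inv_of_involutive hinvol) ⟨x, hx⟩)

/-- A normal nilpotent subgroup of a group without normal subgroups of odd order is a `2`-group. -/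
theorem isPGroup_two_of_nilpotent [Finite Q] {N : Subgroup Q} [N.Normal] [Group.IsNilpotent N]
    (hodd : ∀ K : Subgroup Q, K.Normal → Odd (Nat.card K) → K = ⊥) : IsPGroup 2 N := by
  refine IsPGroup.of_card (n := (Nat.card N).primeFactorsList.length) (Nat.eq_prime_pow_of_unique_prime_dvd
    Nat.card_pos.ne' fun {p} hp hd => ?_)
  by_contra hp2
  haveI : Fact p.Prime := ⟨hp⟩
  obtain ⟨P⟩ : Nonempty (Sylow p N) := inferInstance
  haveI : (P : Subgroup N).Characteristic := P.characteristic_of_normal inferInstance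
  have hK : ((P : Subgroup N).map N.subtype).Normal := ConjAct.normal_of_characteristic_of_normal
  have h1 := hodd _ hK (by
    obtain ⟨n, hn⟩ := IsPGroup.iff_card.1 P.2
    rw [card_map_of_injective N.subtype_injective, hn]
    exact (hp.odd_of_ne_two hp2).pow)
  rw [map_eq_bot_iff_of_injective _ N.subtype_injective] at h1
  have := P.dvd_card_of_dvd_card hd
  rw [h1, card_bot] at this
  exact hp.one_lt.ne' (Nat.dvd_one.1 this)

end Cfsg.Agent.A9ThreeLocal
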