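import Cfsg.Agent.A9ThreeLocal.CentT
import Cfsg.Agent.A9ThreeLocal.CentQuot
import Cfsg.Agent.Core.PCore

/-!
The centraliser of an involution moving eight points.
-/

set_option autoImplicit false
set_option synthInstance.maxSize 4000
set_option synthInstance.maxHeartbeats 400000

namespace Cfsg.Agent.A9ThreeLocal

open Equiv Equiv.Perm Subgroup ThreeFullWreath

universe u

theorem b_facts : bP * tP = rP ∧ bP * rP = tP ∧ bP ≠ 1 ∧ (uP * bP) ^ 3 ≠ 1 ∧
    sign (swap 0 4 * swap 1 5 : Perm (Fin 9)) = 1 ∧ sign (swap 0 7 * swap 1 8 : Perm (Fin 9)) = 1 ∧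
    cP * bP * cP⁻¹ = perm gt ∧ mov tP = 4 ∧ tP ≠ 1 := by
  decide +kernel

/-- An element of order three centralising `bA`. -/
def uA : A9 := nine uP nine_signs.2.2.2.2.2.2.2.2.2
/-- The element exchanging the halves. -/
def pA9 : A9 := nine pP nine_signs.2.2.2.2.2.2.2.1
/-- An element carrying `bA` into the model. -/
def cA : A9 := nine cP nine_signs.2.2.2.2.2.2.2.2.1

/-- The Sylow subgroup of the centraliser. -/
def TA : Subgroup A9 where
  carrier := {p | InT p.1}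
  one_mem' := ⟨by simp, Or.inl (by simp)⟩
  mul_mem' := by
    rintro p q ⟨hp, hpt⟩ ⟨hq, hqt⟩
    refine ⟨(show Commute p.1 bP from hp).mul_left hq, ?_⟩
    have hb : p.1 * bP * p.1⁻¹ = bP := mul_inv_eq_iff_eq_mul.2 hp
    have hr : p.1 * rP * p.1⁻¹ = bP * (p.1 * tP * p.1⁻¹) := by
      calc p.1 * rP * p.1⁻¹ = p.1 * (bP * tP) * p.1⁻¹ := by rw [b_facts.1]
        _ = (p.1 * bP * p.1⁻¹) * (p.1 * tP * p.1⁻¹) := by group
        _ = _ := by rw [hb]
    have e : (p * q).1 * tP * (p * q).1⁻¹ = p.1 * (q.1 * tP * q.1⁻¹) * p.1⁻¹ := by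
      rw [Subgroup.coe_mul]; group
    show _ ∨ _
    rw [e]
    rcases hqt with e1 | e1 <;> rw [e1]
    · exact hpt
    · rw [hr]
      rcases hpt with e2 | e2 <;> rw [e2]
      · exact Or.inr b_facts.1
      · exact Or.inl b_facts.2.1
  inv_mem' := by
    rintro p ⟨hp, hpt⟩
    refine ⟨(show Commute p.1 bP from hp).inv_left, ?_⟩
    rw [Subgroup.coe_inv, inv_inv]
    rcases hpt with e | e
    · left
      calc p.1⁻¹ * tP * p.1 = p.1⁻¹ * (p.1 * tP * p.1⁻¹) * p.1 := by rw [e]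
        _ = tP := by group
    · right
      have hb : p.1⁻¹ * bP * p.1 = bP := by rw [mul_assoc, ← hp, inv_mul_cancel_left]
      calc p.1⁻¹ * tP * p.1 = p.1⁻¹ * (bP * rP) * p.1 := by rw [b_facts.2.1]
        _ = (p.1⁻¹ * bP * p.1) * (p.1⁻¹ * rP * p.1) := by group
        _ = bP * (p.1⁻¹ * (p.1 * tP * p.1⁻¹) * p.1) := by rw [hb, e]
        _ = bP * tP := by group
        _ = rP := b_facts.1

theorem mem_TA {p : A9} : p ∈ TA ↔ InT p.1 := Iff.rfl

/-- The Sylow subgroup, by number. -/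
def tq (q : Fin 64) : A9 := nine (TP q) (T_list.1 q).2

theorem tq_mem (q : Fin 64) : tq q ∈ TA := (T_list.1 q).1

theorem tA_mem_TA : tA ∈ TA := T_tP.2

theorem pA9_mem_TA : pA9 ∈ TA := ⟨T_list.2.1, Or.inr T_list.2.2.1⟩

theorem TA_comm {p : A9} (hp : p ∈ TA) : p * bA = bA * p := Subtype.ext hp.1

theorem bA_sq : bA * bA = 1 := Subtype.ext conj_facts.2.2.2.2.2.2.1

theorem bA_ne : bA ≠ 1 := fun e => b_facts.2.2.1 (congrArg Subtype.val e)

variable {G : Type u} [Group G] [Finite G] {h : Hyp G}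

namespace Hyp.Big.Frame

variable {B : h.Big} (F : B.Frame)
include F

/-- The centraliser of `bA`. -/
abbrev CB : Subgroup G := centralizer ({F.Φ bA} : Set G)

theorem mem_CB {m : A9} (hm : m * bA = bA * m) : F.Φ m ∈ F.CB :=
  mem_centralizer_singleton_iff.2 (by rw [← map_mul, hm, map_mul])

theorem TA_cover {p : A9} (hp : p ∈ TA) : ∃ q, tq q = p := by
  obtain ⟨hb, ht⟩ := hp
  obtain ⟨k, hk⟩ : ∃ k : Fin 2, (pP ^ (k : ℕ) * p.1) * tP = tP * (pP ^ (k : ℕ) * p.1) := by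
    rcases ht with e | e
    · exact ⟨0, by rw [show ((0 : Fin 2) : ℕ) = 0 from rfl, pow_zero, one_mul]; exact mul_inv_eq_iff_eq_mul.1 e⟩
    · refine ⟨1, ?_⟩
      rw [show ((1 : Fin 2) : ℕ) = 1 from rfl, pow_one]
      refine mul_inv_eq_iff_eq_mul.1 ?_
      calc pP * p.1 * tP * (pP * p.1)⁻¹ = pP * (p.1 * tP * p.1⁻¹) * pP⁻¹ := by group
        _ = tP := by rw [e]; exact T_list.2.2.2.1
  set p' : A9 := pA9 ^ (k : ℕ) * p with hp'
  have hp'v : p'.1 = pP ^ (k : ℕ) * p.1 := by rw [hp', Subgroup.coe_mul, SubgroupClass.coe_pow]; rfl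
  obtain ⟨e, v, x, hv, hx, hm⟩ := F.cent_t (g := F.Φ p') (by
    rw [← F.Φ_tA, ← map_mul, ← map_mul]
    exact congrArg F.Φ (Subtype.ext (by show p'.1 * tP = tP * p'.1; rw [hp'v]; exact hk)))
  have hct : CT e v x = p'.1 := by rw [← ctA_val, F.inj hm]
  have hbct : CT e v x * bP = bP * CT e v x := by
    rw [hct, hp'v]
    exact (((show Commute pP bP from T_list.2.1).pow_left _).mul_left hb).eq
  obtain ⟨q, hq⟩ := T_cover e v hv x hx hbct k
  refine ⟨q, Subtype.ext ?_⟩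
  show TP q = p.1
  rw [← hq, hct, hp'v, ← mul_assoc, ← pow_add, ← two_mul, pow_mul, pow_two, T_list.2.2.2.2.1, one_pow, one_mul]

/-- The Sylow subgroup in the group. -/
def SG : Subgroup G := TA.map F.Φ

theorem TA_card : Nat.card TA = 64 := by
  have hbij : Function.Bijective (fun q => (⟨tq q, tq_mem q⟩ : TA)) := by
    refine ⟨fun a b e => T_inj a b (congrArg (fun z : TA => (z : A9).1) e), ?_⟩
    rintro ⟨p, hp⟩
    obtain ⟨q, hq⟩ := F.TA_cover hp
    exact ⟨q, Subtype.ext hq⟩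
  rw [← Nat.card_congr (Equiv.ofBijective _ hbij), Nat.card_fin]

theorem SG_card : Nat.card F.SG = 64 := by rw [SG, card_map_of_injective F.inj, F.TA_card]

theorem SG_le : F.SG ≤ F.CB := by
  rintro _ ⟨m, hm, rfl⟩
  exact F.mem_CB (TA_comm hm)

theorem SG_max (P : Subgroup G) (hP : IsPGroup 2 P) (hS : F.SG ≤ P) : P = F.SG := by
  classical
  by_contra hne
  have : Fact (Nat.Prime 2) := ⟨Nat.prime_two⟩
  have hlt : F.SG.subgroupOf P < ⊤ := lt_top_iff_ne_top.2 fun e => hne (le_antisymm (subgroupOf_eq_top.1 e) hS)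
  have : Group.IsNilpotent P := hP.isNilpotent
  obtain ⟨q, hqN, hqS⟩ := SetLike.exists_of_lt (Group.normalizerCondition_of_isNilpotent _ hlt)
  have hq : ∀ x ∈ F.SG, (q : G) * x * (q : G)⁻¹ ∈ F.SG := fun x hx =>
    (mem_normalizer_iff.1 hqN ⟨x, hS hx⟩).1 hx
  have hconj : ∀ j : Fin 64, ∃ j' : Fin 64, F.Φ (tq j') = (q : G) * F.Φ (tq j) * (q : G)⁻¹ := by
    intro j
    obtain ⟨m, hm, e⟩ := hq _ ⟨tq j, tq_mem j, rfl⟩
    obtain ⟨j', rfl⟩ := F.TA_cover hm
    exact ⟨j', e⟩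
  choose f hf using hconj
  obtain ⟨jt, hjt⟩ := F.TA_cover tA_mem_TA
  set s := tq (f jt) with hs
  have hse : F.Φ s = (q : G) * F.Φ tA * (q : G)⁻¹ := by rw [hs, hf, hjt]
  have tA2 : tA * tA = 1 := Subtype.ext conj_facts.2.2.2.2.1
  have hs2 : s * s = 1 := F.inj (by
    rw [map_mul, hse, show (q : G) * F.Φ tA * (q : G)⁻¹ * (q * F.Φ tA * (q : G)⁻¹) =
      q * (F.Φ tA * F.Φ tA) * (q : G)⁻¹ by group, ← map_mul, tA2, map_one]
    group)
  have hs1 : s ≠ 1 := fun e => b_facts.2.2.2.2.2.2.2.2 (congrArg Subtype.val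
    (F.inj ((conj_eq_one_iff.1 (hse.symm.trans (by rw [e, map_one]))).trans (map_one _).symm)))
  have hmov : mov s.1 = 4 := by
    rw [← F.isA_iff hs2 hs1, hse, F.Φ_tA]
    exact isConj_iff.2 ⟨(q : G), rfl⟩
  have h32 : 32 ≤ (Finset.univ.filter fun j' : Fin 64 => TP j' * TP (f jt) = TP (f jt) * TP j').card := by
    rw [← T_tP.1]
    refine Finset.card_le_card_of_injOn f (fun j hj => ?_) fun a _ b _ e => ?_
    · simp only [Finset.coe_filter, Finset.mem_univ, true_and, Set.mem_setOf_eq] at hj ⊢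
      refine congrArg Subtype.val (F.inj (?_ : F.Φ (tq (f j) * tq (f jt)) = F.Φ (tq (f jt) * tq (f j))))
      rw [map_mul, map_mul, hf, hf, hjt,
        show (q : G) * F.Φ (tq j) * (q : G)⁻¹ * (q * F.Φ tA * (q : G)⁻¹) = q * (F.Φ (tq j) * F.Φ tA) * (q : G)⁻¹ by
          group, ← map_mul, show tq j * tA = tA * tq j from Subtype.ext hj, map_mul]
      group
    · have h1 := congrArg (fun z => F.Φ (tq z)) e
      simp only [hf] at h1
      exact T_inj a b (congrArg Subtype.val (F.inj (mul_left_cancel (mul_right_cancel h1))))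
  have hsq : TP (f jt) * TP (f jt) = 1 := congrArg Subtype.val hs2
  have fin : ∀ r ∈ P, r ∉ F.SG → r * F.Φ tA = F.Φ tA * r → False := by
    intro r hr hrS hrc
    obtain ⟨e, v, x, -, -, hm⟩ := F.cent_t (g := r) (by rw [← F.Φ_tA]; exact hrc)
    set P1 : Subgroup A9 := P.comap F.Φ
    have hle : TA ≤ P1 := fun m hm' => hS ⟨m, hm', rfl⟩
    obtain ⟨n, hn⟩ := IsPGroup.iff_card.1 (hP.comap_of_injective F.Φ F.inj)
    have hd : Nat.card P1 ∣ 181440 := by
      have h9 : Nat.card A9 = 181440 := by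
        rw [nat_card_alternatingGroup, Nat.card_eq_fintype_card, Fintype.card_fin]; decide
      exact h9 ▸ card_subgroup_dvd_card P1
    rw [hn, show (181440 : ℕ) = 2 ^ 6 * 2835 by norm_num] at hd
    have hn6 : 2 ^ n ≤ 2 ^ 6 := Nat.le_of_dvd (by norm_num)
      (((Nat.coprime_two_left.2 (by decide : Odd 2835)).pow_left n).dvd_of_dvd_mul_right hd)
    have heq : TA = P1 := eq_of_le_of_card_ge hle (by rw [F.TA_card, hn]; simpa using hn6)
    refine hrS ⟨ctA e v x, ?_, hm⟩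
    rw [SetLike.mem_coe, heq, mem_comap, hm]
    exact hr
  rcases T_short (f jt) hsq hmov h32 with e | e
  · refine fin q q.2 (fun hm => hqS (mem_subgroupOf.2 hm)) (mul_inv_eq_iff_eq_mul.1 ?_)
    rw [← hse]
    exact congrArg F.Φ (Subtype.ext e)
  · have hp : F.Φ pA9 ∈ F.SG := ⟨pA9, pA9_mem_TA, rfl⟩
    refine fin _ (mul_mem (hS hp) q.2) (fun hm => hqS (mem_subgroupOf.2 ((F.SG.mul_mem_cancel_left hp).1 hm)))
      (mul_inv_eq_iff_eq_mul.1 ?_)
    rw [mul_inv_rev, show F.Φ pA9 * (q : G) * F.Φ tA * ((q : G)⁻¹ * (F.Φ pA9)⁻¹) =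
      F.Φ pA9 * (q * F.Φ tA * (q : G)⁻¹) * (F.Φ pA9)⁻¹ by group, ← hse, ← map_inv, ← map_mul, ← map_mul]
    refine congrArg F.Φ (Subtype.ext ?_)
    show pP * TP (f jt) * pP⁻¹ = tP
    rw [e]
    exact T_list.2.2.2.1

theorem CB_not_128 : ¬ 128 ∣ Nat.card F.CB := by
  intro hd
  have : Fact (Nat.Prime 2) := ⟨Nat.prime_two⟩
  have hp : IsPGroup 2 F.SG := IsPGroup.of_card (n := 6) (by rw [F.SG_card]; norm_num)
  obtain ⟨S, hS⟩ := (hp.comap_subtype (K := F.CB)).exists_le_sylow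
  have he := F.SG_max _ (S.2.map F.CB.subtype) (fun x hx => ⟨⟨x, F.SG_le hx⟩, hS hx, rfl⟩)
  have h1 : Nat.card (S : Subgroup F.CB) = 64 := by
    rw [← card_map_of_injective (f := F.CB.subtype) Subtype.val_injective, he, F.SG_card]
  have h2 := S.pow_dvd_card_of_pow_dvd_card (show 2 ^ 7 ∣ Nat.card F.CB by norm_num; exact hd)
  rw [h1] at h2
  norm_num at h2

theorem Φ_uA : F.Φ uA = (F.Φ cA)⁻¹ * h.φ uM * F.Φ cA := by
  rw [← F.map_model, ← map_inv, ← map_mul, ← map_mul]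
  refine congrArg F.Φ (Subtype.ext ?_)
  show uP = cP⁻¹ * perm uM * cP
  rw [← nine_perms.2.2.2.2.2.2.2.1]
  group

theorem Φ_bA : F.Φ bA = (F.Φ cA)⁻¹ * h.φ gt * F.Φ cA := by
  rw [← F.map_model, ← map_inv, ← map_mul, ← map_mul]
  refine congrArg F.Φ (Subtype.ext ?_)
  show bP = cP⁻¹ * perm gt * cP
  rw [← b_facts.2.2.2.2.2.2.1]
  group

theorem cent_u_b {g : G} (hu : g * F.Φ uA = F.Φ uA * g) (hb : g * F.Φ bA = F.Φ bA * g) :
    ∃ i : Fin 3, ∃ e : Fin 2, g = F.Φ uA ^ (i : ℕ) * F.Φ bA ^ (e : ℕ) := by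
  set c := F.Φ cA
  have conjc : ∀ a : G, g * (c⁻¹ * a * c) = c⁻¹ * a * c * g → c * g * c⁻¹ * a = a * (c * g * c⁻¹) := fun a ha =>
    calc c * g * c⁻¹ * a = c * (g * (c⁻¹ * a * c)) * c⁻¹ := by group
      _ = c * (c⁻¹ * a * c * g) * c⁻¹ := by rw [ha]
      _ = a * (c * g * c⁻¹) := by group
  rw [F.Φ_uA] at hu
  rw [F.Φ_bA] at hb
  obtain ⟨m, hm⟩ := h.cent_u (mem_centralizer_singleton_iff.2 (conjc _ hu))
  have h1 : m * uM = uM * m := h.inj (by rw [map_mul, map_mul, hm]; exact conjc _ hu)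
  have h2 : m * gt = gt * m := h.inj (by rw [map_mul, map_mul, hm]; exact conjc _ hb)
  obtain ⟨i, e, rfl⟩ := self_cent m h1 h2
  refine ⟨i, e, ?_⟩
  rw [map_mul, map_pow, map_pow] at hm
  have hp : ∀ (a : G) (n : ℕ), (c⁻¹ * a * c) ^ n = c⁻¹ * a ^ n * c := fun a n => by
    have := conj_pow (a := c⁻¹) (b := a) (i := n)
    rwa [inv_inv] at this
  rw [F.Φ_uA, F.Φ_bA, hp, hp]
  calc g = c⁻¹ * (c * g * c⁻¹) * c := by group
    _ = _ := by rw [← hm]; group

theorem cent_bt {c : A9} (hc : c * bA = bA * c) {g : G} (hb : g * F.Φ bA = F.Φ bA * g)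
    (hg : g * F.Φ (c * tA * c⁻¹) = F.Φ (c * tA * c⁻¹) * g) : g ^ 8 = 1 := by
  set d := F.Φ c
  have hcb : Commute d (F.Φ bA) := by rw [Commute, SemiconjBy, ← map_mul, hc, map_mul]
  have hg1 : (d⁻¹ * g * d) * h.φ tM = h.φ tM * (d⁻¹ * g * d) := by
    simp only [map_mul, map_inv, F.Φ_tA] at hg
    calc d⁻¹ * g * d * h.φ tM = d⁻¹ * (g * (d * h.φ tM * d⁻¹)) * d := by group
      _ = d⁻¹ * (d * h.φ tM * d⁻¹ * g) * d := by rw [hg]
      _ = _ := by group
  obtain ⟨e, v, x, hv, hx, hm⟩ := F.cent_t hg1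
  have hcm : ctA e v x * bA = bA * ctA e v x := F.inj (by
    rw [map_mul, map_mul, hm]; exact ((hcb.inv_left.mul_left hb).mul_left hcb).eq)
  have h8 : ctA e v x ^ 8 = 1 := Subtype.ext (by
    rw [SubgroupClass.coe_pow, ctA_val]
    exact t_b e v hv x hx (by
      rw [← ctA_val]; exact congrArg Subtype.val hcm))
  have : (d⁻¹ * g * d) ^ 8 = 1 := by rw [← hm, ← map_pow, h8, map_one]
  rw [show d⁻¹ * g * d = d⁻¹ * g * d⁻¹⁻¹ by rw [inv_inv], conj_pow] at this
  exact conj_eq_one_iff.1 this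

set_option maxHeartbeats 1000000 in
/-- The centraliser of an involution moving eight points lies in the subgroup. -/
theorem cent_b : F.CB ≤ F.H := by
  classical
  haveI : Fact (Nat.Prime 2) := ⟨Nat.prime_two⟩
  haveI : Fact (Nat.Prime 3) := ⟨Nat.prime_three⟩
  let bK : F.CB := ⟨F.Φ bA, mem_centralizer_singleton_iff.2 rfl⟩
  have hb2 : bK * bK = 1 := Subtype.ext (by show F.Φ bA * F.Φ bA = 1; rw [← map_mul, bA_sq, map_one])
  have hb1 : bK ≠ 1 := fun e => bA_ne (F.inj ((congrArg Subtype.val e).trans (map_one _).symm))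
  have hbc : ∀ x : F.CB, Commute x bK := fun x => Subtype.ext (mem_centralizer_singleton_iff.1 x.2)
  haveI hNn : (zpowers bK).Normal := ⟨fun x hx g => by
    obtain ⟨n, rfl⟩ := mem_zpowers_iff.1 hx
    rw [((hbc g).zpow_right n).eq, mul_inv_cancel_right]
    exact zpow_mem (mem_zpowers _) n⟩
  set π : F.CB →* F.CB ⧸ zpowers bK := QuotientGroup.mk' _
  have hπs : Function.Surjective π := QuotientGroup.mk'_surjective _
  have hker : ∀ x : F.CB, π x = 1 ↔ x = 1 ∨ x = bK := by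
    intro x
    rw [QuotientGroup.mk'_apply, QuotientGroup.eq_one_iff, mem_zpowers_iff]
    constructor
    · rintro ⟨n, rfl⟩
      rw [← zpow_mod_orderOf, orderOf_eq_prime (p := 2) (by rw [pow_two, hb2]) hb1]
      rcases Int.emod_two_eq n with e | e
      · left; push_cast; rw [e, zpow_zero]
      · right; push_cast; rw [e, zpow_one]
    · rintro (e | e)
      · exact ⟨0, by rw [e, zpow_zero]⟩
      · exact ⟨1, by rw [e, zpow_one]⟩
  -- no normal subgroups of odd order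
  have hodd : ∀ O : Subgroup (F.CB ⧸ zpowers bK), O.Normal → Odd (Nat.card O) → O = ⊥ := by
    intro O hO hOo
    rw [eq_bot_iff]
    intro x hx
    have hrep : ∀ y ∈ O, ∃ n : F.CB, π n = y ∧ n ^ Nat.card O = 1 := fun y hy =>
      exists_odd_rep π hπs hb2 hker hOo (congrArg Subtype.val (_root_.pow_card_eq_one' (x := (⟨y, hy⟩ : O))))
    have hinv : ∀ (a : A9) (ha : a * bA = bA * a), a * a = 1 → (∃ c : A9, c * bA = bA * c ∧ c * tA * c⁻¹ = a) →
        ∀ y ∈ O, π ⟨F.Φ a, F.mem_CB ha⟩ * y * (π ⟨F.Φ a, F.mem_CB ha⟩)⁻¹ = y⁻¹ := by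
      rintro a ha ha2 ⟨c, hc, hca⟩
      haveI := hO
      refine inv_of_fixedPointFree ?_ fun y hy hcom => ?_
      · rw [← map_mul, show (⟨F.Φ a, F.mem_CB ha⟩ : F.CB) * ⟨F.Φ a, F.mem_CB ha⟩ = 1 from Subtype.ext (by
          show F.Φ a * F.Φ a = 1
          rw [← map_mul, ha2, map_one]), map_one]
      obtain ⟨n, rfl, hn⟩ := hrep y hy
      have hna := commute_of_odd π hb2 hbc hker hOo (a := ⟨F.Φ a, F.mem_CB ha⟩) hn hcom
      have h8 : (n : G) ^ 8 = 1 := F.cent_bt hc (mem_centralizer_singleton_iff.1 n.2) (by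
        rw [hca]; exact congrArg Subtype.val hna.eq)
      have h1 := (pow_gcd_eq_one (a := n)).2 ⟨hn, (Subtype.ext h8 : n ^ 8 = 1)⟩
      rw [show Nat.gcd (Nat.card O) 8 = 1 from ((Nat.coprime_two_left.2 hOo).pow_left 3).symm, pow_one] at h1
      rw [h1, map_one]
    have ht : tA * bA = bA * tA := Subtype.ext conj_facts.2.2.2.2.2.2.2.1
    have hh : hA * bA = bA * hA := Subtype.ext conj_facts.2.2.2.2.2.2.2.2.1
    have hth : (tA * hA) * bA = bA * (tA * hA) := Subtype.ext (by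
      rw [Subgroup.coe_mul, Subgroup.coe_mul, Subgroup.coe_mul]
      show tP * hP * bP = bP * (tP * hP)
      rw [conj_facts.2.2.2.2.2.2.2.2.2.2.1]
      exact conj_facts.2.2.2.2.2.2.2.2.2.1)
    have htA2 : tA * tA = 1 := Subtype.ext conj_facts.2.2.2.2.1
    have hhA2 : hA * hA = 1 := Subtype.ext conj_facts.2.2.2.2.2.1
    have hthA2 : (tA * hA) * (tA * hA) = 1 := by
      rw [mul_assoc, ← mul_assoc hA tA, hA_tA, mul_assoc, hhA2, mul_one, htA2]
    obtain ⟨-, -, -, -, c04, c07, -⟩ := b_facts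
    obtain ⟨-, -, -, -, -, -, -, -, -, -, ekP, cf1, cf2, cf3, cf4⟩ := conj_facts
    have i1 := hinv tA ht htA2 ⟨1, by simp, by simp⟩ x hx
    have i2 := hinv hA hh hhA2 ⟨nine _ c04, Subtype.ext cf1, Subtype.ext cf2⟩
    have i3 := hinv (tA * hA) hth hthA2 ⟨nine _ c07, Subtype.ext cf3, Subtype.ext (cf4.trans ekP.symm)⟩ x hx
    rw [show (⟨F.Φ (tA * hA), F.mem_CB hth⟩ : F.CB) = ⟨F.Φ tA, F.mem_CB ht⟩ * ⟨F.Φ hA, F.mem_CB hh⟩ from
      Subtype.ext (map_mul F.Φ _ _), map_mul] at i3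
    set a := π ⟨F.Φ tA, F.mem_CB ht⟩
    set b := π ⟨F.Φ hA, F.mem_CB hh⟩
    have e : a * b * x * (a * b)⁻¹ = x := by
      calc a * b * x * (a * b)⁻¹ = a * (b * x * b⁻¹) * a⁻¹ := by group
        _ = (a * x * a⁻¹)⁻¹ := by rw [i2 x hx]; group
        _ = x := by rw [i1, inv_inv]
    rw [e] at i3
    obtain ⟨n, hn, hnk⟩ := hrep x hx
    rw [mem_bot]
    have hx2 : x * x = 1 := mul_eq_one_iff_eq_inv.2 i3
    have h1 := (pow_gcd_eq_one (a := x)).2 ⟨(pow_two x).trans hx2, congrArg Subtype.val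
      (_root_.pow_card_eq_one' (x := (⟨x, hx⟩ : O)))⟩
    rwa [show Nat.gcd 2 (Nat.card O) = 1 from Nat.coprime_two_left.2 hOo, pow_one] at h1
  -- the self-centralising subgroup of order three
  let uK : F.CB := ⟨F.Φ uA, F.mem_CB (Subtype.ext nine_perms.2.2.2.2.2.2.2.2.1)⟩
  have hu3 : uK ^ 3 = 1 := Subtype.ext (by
    show F.Φ uA ^ 3 = 1
    rw [← map_pow, show uA ^ 3 = 1 from Subtype.ext nine_perms.2.2.2.2.2.2.2.2.2.1, map_one])
  have hu1 : π uK ≠ 1 := by
    intro e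
    rcases (hker _).1 e with e1 | e1
    · exact nine_perms.2.2.2.2.2.2.2.2.2.2 (congrArg Subtype.val (F.inj ((congrArg Subtype.val e1).trans (map_one _).symm)))
    · have e3 := hu3
      rw [e1, pow_succ, pow_two, hb2, one_mul] at e3
      exact hb1 e3
  set X := zpowers (π uK) with hX
  have hX3 : Nat.card X = 3 := by
    rw [hX, Nat.card_zpowers, orderOf_eq_prime (by rw [← map_pow, hu3, map_one]) hu1]
  have hfix : ∀ y, Commute y (π uK) → y ∈ X := by
    intro y hy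
    obtain ⟨g, rfl⟩ := hπs y
    have h0 : π (g * uK * g⁻¹ * uK⁻¹) = 1 := by
      simp only [map_mul, map_inv]; rw [hy.eq, mul_inv_cancel_right, mul_inv_cancel]
    have hgu : g * uK = uK * g := by
      rcases (hker _).1 h0 with e | e
      · exact mul_inv_eq_iff_eq_mul.1 (mul_inv_eq_one.1 e)
      · exfalso
        have e2 : g * uK * g⁻¹ = bK * uK := mul_inv_eq_iff_eq_mul.1 e
        have e3 : (bK * uK) ^ 3 = 1 := by rw [← e2, conj_pow, hu3]; group
        rw [(hbc uK).symm.mul_pow, hu3, mul_one, pow_succ, pow_two, hb2, one_mul] at e3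
        exact hb1 e3
    obtain ⟨i, e, he⟩ := F.cent_u_b (congrArg Subtype.val hgu) (mem_centralizer_singleton_iff.1 g.2)
    have : g = uK ^ (i : ℕ) * bK ^ (e : ℕ) := Subtype.ext he
    rw [this, map_mul, map_pow, map_pow, (hker bK).2 (Or.inr rfl), one_pow, mul_one]
    exact pow_mem (mem_zpowers _) _
  have hXC : centralizer (X : Set (F.CB ⧸ zpowers bK)) = X := by
    refine le_antisymm (fun y hy => hfix y (mem_centralizer_iff.1 hy _ (mem_zpowers _)).symm) fun y hy => ?_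
    obtain ⟨n, rfl⟩ := mem_zpowers_iff.1 hy
    refine mem_centralizer_iff.2 fun r hr => ?_
    obtain ⟨m, rfl⟩ := mem_zpowers_iff.1 hr
    rw [← zpow_add, ← zpow_add, add_comm]
  have hN2 : Nat.card (zpowers bK) = 2 := by
    rw [Nat.card_zpowers, orderOf_eq_prime (p := 2) (by rw [pow_two, hb2]) hb1]
  have hcard : Nat.card F.CB = Nat.card (F.CB ⧸ zpowers bK) * 2 := by
    rw [card_eq_card_quotient_mul_card_subgroup (zpowers bK), hN2]
  have h64 : 64 ∣ Nat.card F.CB := F.SG_card ▸ card_dvd_of_le F.SG_le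
  have h128 := F.CB_not_128
  have hCB : Nat.card F.CB ∣ 192 := by
    rcases S3331.result X hX3 hXC with ⟨N, hN, hNn', -, hQ⟩ | ⟨N, hN, -, hNe, ⟨eQ⟩⟩ | ⟨⟨eQ⟩⟩
    · haveI := hN; haveI := hNn'
      obtain ⟨k, hk⟩ := IsPGroup.iff_card.1 (isPGroup_two_of_nilpotent hodd : IsPGroup 2 N)
      have hq : Nat.card ((F.CB ⧸ zpowers bK) ⧸ N) = 3 ∨ Nat.card ((F.CB ⧸ zpowers bK) ⧸ N) = 6 := by
        rcases hQ with e | ⟨⟨e⟩⟩
        · exact Or.inl e
        · right
          rw [Nat.card_congr e.toEquiv, Nat.card_eq_fintype_card, Fintype.card_perm, Fintype.card_fin]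
          decide
      rw [card_eq_card_quotient_mul_card_subgroup N, hk] at hcard
      rcases hq with e | e <;> rw [e] at hcard
      · have h2 : ¬ 7 ≤ k + 1 := fun h7 => h128 (by
          rw [hcard, show 3 * 2 ^ k * 2 = 3 * 2 ^ (k + 1) by ring]
          exact Dvd.dvd.mul_left ((pow_dvd_pow 2 h7)) 3)
        rw [hcard, show 3 * 2 ^ k * 2 = 3 * 2 ^ (k + 1) by ring, show (192 : ℕ) = 3 * 2 ^ 6 by norm_num]
        exact mul_dvd_mul_left 3 (pow_dvd_pow 2 (by omega))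
      · have h2 : ¬ 7 ≤ k + 2 := fun h7 => h128 (by
          rw [hcard, show 6 * 2 ^ k * 2 = 3 * 2 ^ (k + 2) by ring]
          exact Dvd.dvd.mul_left ((pow_dvd_pow 2 h7)) 3)
        rw [hcard, show 6 * 2 ^ k * 2 = 3 * 2 ^ (k + 2) by ring, show (192 : ℕ) = 3 * 2 ^ 6 by norm_num]
        exact mul_dvd_mul_left 3 (pow_dvd_pow 2 (by omega))
    · exfalso
      haveI := hN
      have hp : IsPGroup 2 N := fun x => ⟨1, Subtype.ext (by
        rw [SubmonoidClass.coe_pow, pow_one]; exact hNe x x.2)⟩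
      obtain ⟨k, hk⟩ := IsPGroup.iff_card.1 hp
      have h60 : Nat.card (alternatingGroup (Fin 5)) = 60 := by
        rw [nat_card_alternatingGroup, Nat.card_eq_fintype_card, Fintype.card_fin]; decide
      rw [card_eq_card_quotient_mul_card_subgroup N, hk, Nat.card_congr eQ.toEquiv, h60] at hcard
      have hk3 : k = 3 := by
        have e1 : 60 * 2 ^ k * 2 = 15 * 2 ^ (k + 3) := by ring
        rw [hcard, e1] at h64 h128
        have a : 6 ≤ k + 3 := by
          rw [show (64 : ℕ) = 2 ^ 6 by norm_num] at h64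
          exact (Nat.pow_dvd_pow_iff_le_right (by norm_num)).1
            (((Nat.coprime_two_left.2 (by decide : Odd 15)).pow_left 6).dvd_of_dvd_mul_left h64)
        have b : ¬ 7 ≤ k + 3 := fun h7 => h128 (Dvd.dvd.mul_left ((pow_dvd_pow 2 h7)) 15)
        omega
      -- the element of order three acts without fixed points
      let ρ : X →* MulAut N := (MulAut.conjNormal (H := N)).comp X.subtype
      letI : MulAction X N := MulAction.compHom N ρ
      have hX : IsPGroup 3 X := IsPGroup.of_card (n := 1) (by rw [hX3, pow_one])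
      have hmod := hX.card_modEq_card_fixedPoints N
      have hfp : Nat.card (MulAction.fixedPoints X N) = 1 := by
        rw [Nat.card_eq_one_iff_exists]
        refine ⟨⟨1, fun x => map_one (ρ x)⟩, fun y => Subtype.ext (Subtype.ext ?_)⟩
        have hc := congrArg Subtype.val (y.2 ⟨π uK, mem_zpowers _⟩)
        change π uK * ((y.1 : N) : F.CB ⧸ zpowers bK) * (π uK)⁻¹ = _ at hc
        have hyX := hfix _ (mul_inv_eq_iff_eq_mul.1 hc).symm
        set z := ((y.1 : N) : F.CB ⧸ zpowers bK)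
        have h2 : z ^ 2 = 1 := hNe _ y.1.2
        have h3 : z ^ 3 = 1 := by
          have := congrArg Subtype.val (_root_.pow_card_eq_one' (x := (⟨z, hyX⟩ : X)))
          rwa [hX3] at this
        rw [pow_succ, h2, one_mul] at h3
        exact h3
      rw [hfp, hk, hk3] at hmod
      exact absurd hmod (by decide)
    · exfalso
      rw [Nat.card_congr eQ.toEquiv, SelfCentThree.psl_seven.2] at hcard
      rw [hcard] at h64
      norm_num at h64
  have hI : 192 ∣ Nat.card (F.CB ⊓ F.H : Subgroup G) := by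
    have a : 64 ∣ Nat.card (F.CB ⊓ F.H : Subgroup G) :=
      F.SG_card ▸ card_dvd_of_le (le_inf F.SG_le (by rintro _ ⟨m, -, rfl⟩; exact F.mem_H m))
    have b : 3 ∣ Nat.card (F.CB ⊓ F.H : Subgroup G) := by
      have ho : orderOf (F.Φ uA) = 3 := orderOf_eq_prime (congrArg Subtype.val hu3) fun e =>
        hu1 (by rw [show uK = 1 from Subtype.ext e, map_one])
      have := _root_.orderOf_dvd_natCard (⟨F.Φ uA, uK.2, F.mem_H uA⟩ : (F.CB ⊓ F.H : Subgroup G))
      rw [← Subgroup.orderOf_coe] at this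
      change orderOf (F.Φ uA) ∣ _ at this
      rwa [ho] at this
    exact (show Nat.Coprime 64 3 by norm_num).mul_dvd_of_dvd_of_dvd a b
  have heq : F.CB ⊓ F.H = F.CB := eq_of_le_of_card_ge inf_le_left
    (Nat.le_of_dvd Nat.card_pos (hCB.trans hI))
  exact inf_eq_left.1 heq

end Hyp.Big.Frame

end Cfsg.Agent.A9ThreeLocal
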