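import Cfsg.Agent.A9ThreeLocal.SmallFacts
import Mathlib.GroupTheory.Perm.Cycle.Type

/-!
Facts on involutions of the alternating group of degree nine.
-/

set_option autoImplicit false
set_option synthInstance.maxSize 4000
set_option synthInstance.maxHeartbeats 400000

namespace Cfsg.Agent.A9ThreeLocal

open Equiv Equiv.Perm ThreeFullWreath

/-- The number of moved points. -/
def mov (p : Perm (Fin 9)) : ℕ := (Finset.univ.filter fun i => p i ≠ i).card

theorem mov_eq_support (p : Perm (Fin 9)) : mov p = p.support.card := by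
  rfl

/-- The involution `(4 5)(7 8)`. -/
def tP : Perm (Fin 9) := swap 4 5 * swap 7 8
/-- The involution `(4 7)(5 8)`. -/
def vP : Perm (Fin 9) := swap 4 7 * swap 5 8
/-- The involution `(0 1)(7 8)`. -/
def hP : Perm (Fin 9) := swap 0 1 * swap 7 8
/-- The involution `(3 6)(7 8)`. -/
def xP : Perm (Fin 9) := swap 3 6 * swap 7 8
/-- The involution `(0 1)(3 6)`. -/
def rP : Perm (Fin 9) := swap 0 1 * swap 3 6
/-- The involution `(0 1)(4 5)`. -/
def kP : Perm (Fin 9) := swap 0 1 * swap 4 5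
/-- The involution with four transpositions. -/
def bP : Perm (Fin 9) := swap 0 1 * swap 3 6 * (swap 4 5 * swap 7 8)
/-- The element carrying one four-group to the other. -/
def G0 : Perm (Fin 9) := swap 0 6 * swap 6 5 * swap 5 1 * swap 1 7 * swap 7 2 * swap 2 8 * swap 8 3 * swap 3 4
/-- An element exchanging the two halves. -/
def pP : Perm (Fin 9) := swap 0 4 * swap 1 5 * (swap 3 7 * swap 6 8)
/-- An element carrying `bP` to an element of the model. -/
def cP : Perm (Fin 9) := swap 0 2 * swap 2 8 * swap 8 4 * (swap 1 5 * swap 5 3 * swap 3 7)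
/-- An element of order three centralising `bP`. -/
def uP : Perm (Fin 9) := swap 0 4 * swap 4 7 * (swap 1 5 * swap 5 8)

/-- The four-group on `{4, 5, 7, 8}`, in local names. -/
def InU (v : A6) : Prop := v = 1 ∨ v = v6 ∨ v = v7 ∨ v = v6 * v7

instance : DecidablePred InU := fun v => by unfold InU; infer_instance

/-- The elements of the centraliser of `tP`. -/
def CT (e : Fin 2) (v x : A6) : Perm (Fin 9) := hP ^ (e : ℕ) * (emb v * (G0⁻¹ * emb x * G0))

theorem nine_perms : perm (gc ^ 2) * emb c0 = G0 ∧ perm tM = tP ∧ emb v6 = tP ∧ emb v7 = vP ∧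
    perm hM = hP ∧ emb x6 = xP ∧ cP * bP * cP⁻¹ = perm gt ∧ cP * uP * cP⁻¹ = perm uM ∧
    uP * bP = bP * uP ∧ uP ^ 3 = 1 ∧ uP ≠ 1 := by
  decide +kernel

theorem nine_movs : mov tP = 4 ∧ mov vP = 4 ∧ mov (tP * vP) = 4 ∧ mov bP = 8 ∧ mov (perm h0M) = 8 ∧
    mov hP = 4 ∧ mov kP = 4 := by
  decide +kernel

theorem nine_signs : sign tP = 1 ∧ sign hP = 1 ∧ sign xP = 1 ∧ sign rP = 1 ∧ sign kP = 1 ∧ sign bP = 1 ∧
    sign G0 = 1 ∧ sign pP = 1 ∧ sign cP = 1 ∧ sign uP = 1 := by
  decide +kernel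

/-- The involutions of the centraliser pairing with `tP` into a four-group. -/
theorem t_pair : ∀ e : Fin 2, ∀ v : A6, InU v → ∀ x : A6, Fix0 x → CT e v x * CT e v x = 1 →
    mov (CT e v x) = 4 → mov (tP * CT e v x) = 4 →
    CT e v x = vP ∨ CT e v x = tP * vP ∨
      ∃ e' : Fin 2, ∃ v' : A6, InU v' ∧ ∃ x' : A6, Fix0 x' ∧ CT e' v' x' * xP * (CT e' v' x')⁻¹ = CT e v x := by
  decide +kernel

theorem t_b : ∀ e : Fin 2, ∀ v : A6, InU v → ∀ x : A6, Fix0 x →
    CT e v x * bP = bP * CT e v x → CT e v x ^ 8 = 1 := by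
  decide +kernel

theorem conj_facts : swap 0 3 * swap 1 6 * tP = tP * (swap 0 3 * swap 1 6) ∧
    swap 0 3 * swap 1 6 * xP * (swap 0 3 * swap 1 6)⁻¹ = hP ∧
    swap 2 3 * swap 7 8 * tP = tP * (swap 2 3 * swap 7 8) ∧
    hP * tP = tP * hP ∧ tP * tP = 1 ∧ hP * hP = 1 ∧ bP * bP = 1 ∧ tP * bP = bP * tP ∧ hP * bP = bP * hP ∧
    kP * bP = bP * kP ∧ tP * hP = kP ∧
    swap 0 4 * swap 1 5 * bP = bP * (swap 0 4 * swap 1 5) ∧
    swap 0 4 * swap 1 5 * tP * (swap 0 4 * swap 1 5)⁻¹ = hP ∧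
    swap 0 7 * swap 1 8 * bP = bP * (swap 0 7 * swap 1 8) ∧
    swap 0 7 * swap 1 8 * tP * (swap 0 7 * swap 1 8)⁻¹ = kP := by
  decide +kernel

theorem self_cent : ∀ m : M, m * uM = uM * m → m * gt = gt * m →
    ∃ i : Fin 3, ∃ e : Fin 2, m = uM ^ (i : ℕ) * gt ^ (e : ℕ) := by
  decide +kernel

/-- The Sylow subgroup, by number. -/
def TP (q : Fin 64) : Perm (Fin 9) :=
  pP ^ (q.val / 32) * (rP ^ (q.val % 2) * tP ^ (q.val / 2 % 2) * kP ^ (q.val / 4 % 2) *
    (swap 0 3 * swap 1 6) ^ (q.val / 8 % 2) * (swap 4 7 * swap 5 8) ^ (q.val / 16 % 2))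

/-- The condition cutting out the Sylow subgroup. -/
def InT (p : Perm (Fin 9)) : Prop := p * bP = bP * p ∧ (p * tP * p⁻¹ = tP ∨ p * tP * p⁻¹ = rP)

instance : DecidablePred InT := fun p => by unfold InT; infer_instance

theorem T_list : (∀ q : Fin 64, InT (TP q) ∧ sign (TP q) = 1) ∧ pP * bP = bP * pP ∧
    pP * tP * pP⁻¹ = rP ∧ pP * rP * pP⁻¹ = tP ∧ pP * pP = 1 ∧ rP * bP = bP * rP ∧ tP * bP = bP * tP := by
  decide +kernel

theorem T_inj : ∀ q q' : Fin 64, TP q = TP q' → q = q' := by decide +kernel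

theorem T_cover : ∀ e : Fin 2, ∀ v : A6, InU v → ∀ x : A6, Fix0 x → CT e v x * bP = bP * CT e v x →
    ∀ k : Fin 2, ∃ q : Fin 64, pP ^ (k : ℕ) * CT e v x = TP q := by
  decide +kernel

theorem T_short : ∀ q : Fin 64, TP q * TP q = 1 → mov (TP q) = 4 →
    32 ≤ (Finset.univ.filter fun q' : Fin 64 => TP q' * TP q = TP q * TP q').card → TP q = tP ∨ TP q = rP := by
  decide +kernel

theorem T_tP : (Finset.univ.filter fun q' : Fin 64 => TP q' * tP = tP * TP q').card = 32 ∧ InT tP := by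
  decide +kernel

/-- The involutions of the alternating group are of two kinds. -/
theorem nine_class {p q : Perm (Fin 9)} (hp : p * p = 1) (hq : q * q = 1) (hp1 : p ≠ 1) (hq1 : q ≠ 1)
    (e : mov p = mov q) : IsConj p q := by
  have key : ∀ {r : Perm (Fin 9)}, r * r = 1 → r ≠ 1 →
      r.cycleType = Multiset.replicate (mov r / 2) 2 := by
    intro r hr hr1
    haveI : Fact (Nat.Prime 2) := ⟨Nat.prime_two⟩
    have ho : orderOf r = 2 := orderOf_eq_prime (by rw [pow_two, hr]) hr1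
    obtain ⟨n, hn⟩ := cycleType_prime_order (σ := r) (by rw [ho]; exact Nat.prime_two)
    have hs := sum_cycleType r
    rw [hn, ho, Multiset.sum_replicate, smul_eq_mul, ← mov_eq_support] at hs
    rw [hn, ho, ← hs, Nat.mul_div_cancel _ (by norm_num)]
  rw [isConj_iff_cycleType_eq, key hp hp1, key hq hq1, e]

/-- An involution of the alternating group moves four or eight points. -/
theorem nine_mov {p : Perm (Fin 9)} (hp : p * p = 1) (hp1 : p ≠ 1) (hs : sign p = 1) : mov p = 4 ∨ mov p = 8 := by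
  haveI : Fact (Nat.Prime 2) := ⟨Nat.prime_two⟩
  have ho : orderOf p = 2 := orderOf_eq_prime (by rw [pow_two, hp]) hp1
  obtain ⟨n, hn⟩ := cycleType_prime_order (σ := p) (by rw [ho]; exact Nat.prime_two)
  have hsum := sum_cycleType p
  have hle := sum_cycleType_le p
  rw [hn, ho, Multiset.sum_replicate, smul_eq_mul] at hsum hle
  rw [Fintype.card_fin] at hle
  rw [sign_of_cycleType, hn, ho, Multiset.sum_replicate, Multiset.card_replicate, smul_eq_mul] at hs
  rw [mov_eq_support, ← hsum]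
  obtain ⟨k, rfl | rfl⟩ := Nat.even_or_odd' n
  · exfalso
    rw [show (2 * k + 1) * 2 + (2 * k + 1) = 2 * (3 * k + 1) + 1 by ring, pow_succ, pow_mul] at hs
    simp at hs
  · omega

end Cfsg.Agent.A9ThreeLocal
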