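import Cfsg.Agent.A9ThreeLocal.Embed
import Cfsg.Agent.A9ThreeLocal.NineFacts
import Cfsg.Agent.A9ThreeLocal.CentQuot
import Cfsg.Agent.Invol.ZStar
import Mathlib.GroupTheory.FixedPointFree

/-!
The centraliser of an involution moving four points.
-/

set_option autoImplicit false
set_option synthInstance.maxSize 4000
set_option synthInstance.maxHeartbeats 400000

namespace Cfsg.Agent.A9ThreeLocal

open Equiv Equiv.Perm Subgroup ThreeFullWreath

universe u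

/-- An even permutation, as an element of the alternating group. -/
def nine (p : Perm (Fin 9)) (hs : sign p = 1) : A9 := ⟨p, mem_alternatingGroup.2 hs⟩

/-- The involution `(4 5)(7 8)`. -/
def tA : A9 := nine tP nine_signs.1
/-- The involution `(0 1)(7 8)`. -/
def hA : A9 := nine hP nine_signs.2.1
/-- The involution `(3 6)(7 8)`. -/
def xA : A9 := nine xP nine_signs.2.2.1
/-- The involution with four transpositions. -/
def bA : A9 := nine bP nine_signs.2.2.2.2.2.1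
/-- The element carrying one four-group to the other. -/
def gA : A9 := nine G0 nine_signs.2.2.2.2.2.2.1

/-- The elements of the centraliser of `tA`. -/
def ctA (e : Fin 2) (v x : A6) : A9 := hA ^ (e : ℕ) * (embA 0 v * (gA⁻¹ * embA 0 x * gA))

theorem embJ_zero (x : A6) : embJ 0 x = emb x := by
  rw [embJ, show ((0 : Fin 3) : ℕ) = 0 from rfl, pow_zero, map_one, one_mul, inv_one, mul_one]

theorem embA_zero (x : A6) : (embA 0 x : Perm (Fin 9)) = emb x := embJ_zero x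

theorem ctA_val (e : Fin 2) (v x : A6) : (ctA e v x : Perm (Fin 9)) = CT e v x := by
  rw [ctA, CT, Subgroup.coe_mul, Subgroup.coe_mul, Subgroup.coe_mul, Subgroup.coe_mul, SubgroupClass.coe_pow,
    Subgroup.coe_inv, embA_zero, embA_zero]
  rfl

theorem six_comm : v7 * v6 = v6 * v7 := by decide +kernel

theorem six_v7 : v7 * v7 = 1 ∧ v7 ≠ 1 ∧ v6 * v7 * (v6 * v7) = 1 ∧ v6 * v7 ≠ 1 := by decide +kernel

theorem six_v7_ne : v7 ≠ v6 := by decide +kernel

theorem four_facts : mov (emb v7) = 4 ∧ mov (emb (v6 * v7)) = 4 ∧ emb v7 * emb v7 = 1 ∧ emb v7 ≠ 1 ∧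
    emb (v6 * v7) * emb (v6 * v7) = 1 ∧ emb (v6 * v7) ≠ 1 := by decide +kernel

theorem c1_facts : sign (swap 0 3 * swap 1 6 : Perm (Fin 9)) = 1 ∧ sign (swap 2 3 * swap 7 8 : Perm (Fin 9)) = 1 := by
  decide +kernel

theorem cent_t_facts : (∀ u : A6, InV u → ∃ v : A6, InU v ∧ c0 * v * c0⁻¹ = u) ∧
    (∀ v : A6, InU v → v * v6 = v6 * v ∧ v * v7 = v7 * v) ∧
    (∀ x : A6, x * v6 = v6 * x → x ^ 4 = 1) ∧
    embJ 2 (a6 * pA) ≠ 1 ∧ embJ 2 (a6 * pA) ≠ tP ∧
    swap 2 3 * swap 7 8 * embJ 2 a6 * (swap 2 3 * swap 7 8)⁻¹ = embJ 2 pA ∧ perm e1M = embJ 2 a6 := by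
  decide +kernel

theorem hA_tA : hA * tA = tA * hA := Subtype.ext conj_facts.2.2.2.1

theorem conj_perm {p : A9} {q : Perm (Fin 9)} (hc : IsConj q p.1) (hs : sign q = 1)
    (hodd : swap 0 1 * q = q * swap 0 1) : ∃ c : A9, c * nine q hs * c⁻¹ = p := by
  obtain ⟨σ, hσ⟩ := isConj_iff.1 hc
  rcases Int.units_eq_one_or (sign σ) with e | e
  · exact ⟨nine σ e, Subtype.ext hσ⟩
  · refine ⟨nine (σ * swap 0 1) (by rw [map_mul, e, sign_swap (by decide)]; rfl), Subtype.ext ?_⟩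
    show σ * swap 0 1 * q * (σ * swap 0 1)⁻¹ = p.1
    rw [show σ * swap 0 1 * q * (σ * swap 0 1)⁻¹ = σ * (swap 0 1 * q * (swap 0 1)⁻¹) * σ⁻¹ by group, hodd,
      mul_inv_cancel_right, hσ]

theorem class_cases {m : A9} (hm : m * m = 1) (hm1 : m ≠ 1) :
    (mov m.1 = 4 ∧ ∃ c : A9, c * tA * c⁻¹ = m) ∨ (mov m.1 = 8 ∧ ∃ c : A9, c * bA * c⁻¹ = m) := by
  have h2 : m.1 * m.1 = 1 := congrArg Subtype.val hm
  have h1 : m.1 ≠ 1 := fun e => hm1 (Subtype.ext e)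
  obtain ⟨m4, -, -, m8, -⟩ := nine_movs
  have facts : (tP * tP = 1 ∧ tP ≠ 1 ∧ swap 0 1 * tP = tP * swap 0 1) ∧
      (bP * bP = 1 ∧ bP ≠ 1 ∧ swap 0 1 * bP = bP * swap 0 1) := by decide +kernel
  obtain ⟨⟨t2, t1, t01⟩, b2, b1, b01⟩ := facts
  rcases nine_mov h2 h1 (mem_alternatingGroup.1 m.2) with e | e
  · exact Or.inl ⟨e, conj_perm (nine_class t2 h2 t1 h1 (m4.trans e.symm)) _ t01⟩
  · exact Or.inr ⟨e, conj_perm (nine_class b2 h2 b1 h1 (m8.trans e.symm)) _ b01⟩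

theorem pA_conj : nine (swap 2 3 * swap 7 8) c1_facts.2 * embA 2 a6 * (nine (swap 2 3 * swap 7 8) c1_facts.2)⁻¹ =
    embA 2 pA := by
  refine Subtype.ext ?_
  rw [Subgroup.coe_mul, Subgroup.coe_mul, Subgroup.coe_inv, embA_val, embA_val]
  exact cent_t_facts.2.2.2.2.2.1

variable {G : Type u} [Group G] [Finite G] {h : Hyp G}

theorem Hyp.Big.t_eq (B : h.Big) : h.φ tM = B.ψ v6 := B.map_eq klein_model.1

theorem Hyp.Big.g0_inv_mem (B : h.Big) {x : A6} (hx : Fix0 x) : B.g0⁻¹ * B.ψ x * B.g0 ∈ B.CV := by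
  rw [B.mem_CV_iff, show B.g0 * (B.g0⁻¹ * B.ψ x * B.g0) * B.g0⁻¹ = B.ψ x by group]
  exact B.fix_mem hx

namespace Hyp.Big.Frame

variable {B : h.Big} (F : B.Frame)
include F

/-- The subgroup. -/
abbrev H : Subgroup G := F.Φ.range

theorem mem_H (m : A9) : F.Φ m ∈ F.H := ⟨m, rfl⟩

theorem psi_emb (x : A6) : F.Φ (embA 0 x) = B.ψ x := by
  rw [F.map_embA, B.psi_apply, show ((0 : Fin 3) : ℕ) = 0 from rfl, pow_zero, map_one]
  simp

theorem map_perm {m : M} {a : A9} (e : perm m = a.1) : F.Φ a = h.φ m := by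
  rw [← F.map_model, show permA m = a from Subtype.ext e]

theorem Φ_tA : F.Φ tA = h.φ tM := F.map_perm nine_perms.2.1

theorem Φ_hA : F.Φ hA = h.φ hM := F.map_perm nine_perms.2.2.2.2.1

theorem Φ_xA : F.Φ xA = B.ψ x6 := by
  rw [← F.psi_emb]; exact congrArg F.Φ (Subtype.ext (((embA_zero x6).trans nine_perms.2.2.2.2.2.1).symm))

theorem Φ_vA : F.Φ (embA 0 v7) = B.ψ v7 := F.psi_emb v7

theorem Φ_gA : F.Φ gA = B.g0 := by
  have e : gA = permA (gc ^ 2) * embA 0 c0 :=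
    Subtype.ext (by rw [Subgroup.coe_mul, embA_zero]; exact nine_perms.1.symm)
  rw [e, map_mul, F.map_model, F.psi_emb]
  rfl

theorem Φ_ctA (e : Fin 2) (v x : A6) :
    F.Φ (ctA e v x) = h.φ hM ^ (e : ℕ) * (B.ψ v * (B.g0⁻¹ * B.ψ x * B.g0)) := by
  rw [ctA, map_mul, map_mul, map_mul, map_mul, map_pow, map_inv, F.Φ_hA, F.psi_emb, F.psi_emb, F.Φ_gA]

theorem ct_mem_CV {v x : A6} (hv : InU v) (hx : Fix0 x) : B.ψ v * (B.g0⁻¹ * B.ψ x * B.g0) ∈ B.CV := by
  refine mul_mem (B.mem_CV.2 ⟨?_, ?_⟩) (B.g0_inv_mem hx) <;> rw [← map_mul, ← map_mul]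
  · rw [(cent_t_facts.2.1 v hv).1]
  · rw [(cent_t_facts.2.1 v hv).2]

theorem ct_comm {v x : A6} (hv : InU v) (hx : Fix0 x) (e : Fin 2) : ctA e v x * tA = tA * ctA e v x := by
  refine F.inj ?_
  have h1 : Commute (h.φ hM) (F.Φ tA) := by
    rw [← F.Φ_hA, Commute, SemiconjBy, ← map_mul, hA_tA, map_mul]
  have h2 : Commute (B.ψ v * (B.g0⁻¹ * B.ψ x * B.g0)) (F.Φ tA) := by
    rw [F.Φ_tA, B.t_eq]; exact (B.mem_CV.1 (F.ct_mem_CV hv hx)).1
  rw [map_mul, map_mul, F.Φ_ctA]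
  exact ((h1.pow_left _).mul_left h2).eq

theorem cent_CV {g : G} (hg : g ∈ B.CV) :
    ∃ v x : A6, InU v ∧ Fix0 x ∧ g = B.ψ v * (B.g0⁻¹ * B.ψ x * B.g0) := by
  obtain ⟨u, x, hu, hx, e⟩ := B.W_decomp (B.mem_CV_iff.1 hg)
  obtain ⟨v, hv, rfl⟩ := cent_t_facts.1 u hu
  rw [← B.g0_conj] at e
  refine ⟨v, x, hv, hx, ?_⟩
  calc g = B.g0⁻¹ * (B.g0 * g * B.g0⁻¹) * B.g0 := by group
    _ = _ := by rw [e]; group

/-- An element of the centraliser normalising the four-group lies in the subgroup. -/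
theorem cent_pair {g : G} (hg : g * B.ψ v6 = B.ψ v6 * g)
    (he : g * B.ψ v7 * g⁻¹ = B.ψ v7 ∨ g * B.ψ v7 * g⁻¹ = B.ψ v6 * B.ψ v7) :
    ∃ e : Fin 2, ∃ v x : A6, InU v ∧ Fix0 x ∧ F.Φ (ctA e v x) = g := by
  rcases he with he | he
  · obtain ⟨v, x, hv, hx, e⟩ := F.cent_CV (B.mem_CV.2 ⟨hg, mul_inv_eq_iff_eq_mul.1 he⟩)
    exact ⟨0, v, x, hv, hx, by rw [F.Φ_ctA, e]; simp⟩
  · have h6 : Commute (h.φ hM) (B.ψ v6) := by
      rw [← B.t_eq, ← F.Φ_tA, ← F.Φ_hA, Commute, SemiconjBy, ← map_mul, hA_tA, map_mul]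
    have hc : h.φ hM * g ∈ B.CV := by
      refine B.mem_CV.2 ⟨(h6.mul_left hg).eq, mul_inv_eq_iff_eq_mul.1 ?_⟩
      calc h.φ hM * g * B.ψ v7 * (h.φ hM * g)⁻¹ = h.φ hM * (g * B.ψ v7 * g⁻¹) * (h.φ hM)⁻¹ := by group
        _ = h.φ hM * B.ψ (v6 * v7) * (h.φ hM)⁻¹ := by rw [he, map_mul]
        _ = B.ψ v7 := by
          rw [B.conj_h, map_mul (conjA (swap 4 5)), show conjA (swap 4 5) v6 = v6 from Subtype.ext rel_perms.1,
            show conjA (swap 4 5) v7 = v6 * v7 from Subtype.ext rel_perms.2.1, ← mul_assoc, six_base.2.1, one_mul]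
    obtain ⟨v, x, hv, hx, e⟩ := F.cent_CV hc
    refine ⟨1, v, x, hv, hx, ?_⟩
    rw [F.Φ_ctA, ← e, show ((1 : Fin 2) : ℕ) = 1 from rfl, pow_one, ← mul_assoc, ← map_mul, hM_facts.2, map_one,
      one_mul]

theorem not_isConj_bA : ¬ IsConj (h.φ tM) (F.Φ bA) := by
  intro e
  have facts : perm h0M * perm h0M = 1 ∧ perm h0M ≠ 1 := by decide +kernel
  have hm : permA h0M * permA h0M = 1 := Subtype.ext facts.1
  rcases class_cases hm (fun e => facts.2 (congrArg Subtype.val e)) with ⟨e4, -⟩ | ⟨-, c, hc⟩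
  · exact absurd (e4.symm.trans nine_movs.2.2.2.2.1) (by norm_num)
  · refine h.not_isConj_h0 (e.trans (isConj_iff.2 ⟨F.Φ c, ?_⟩))
    rw [← map_inv, ← map_mul, ← map_mul, hc, F.map_model]

/-- The involutions fused to `tA`. -/
theorem isA_iff {m : A9} (hm : m * m = 1) (hm1 : m ≠ 1) : IsConj (h.φ tM) (F.Φ m) ↔ mov m.1 = 4 := by
  rcases class_cases hm hm1 with ⟨e, c, rfl⟩ | ⟨e, c, rfl⟩
  · refine iff_of_true (isConj_iff.2 ⟨F.Φ c, ?_⟩) e
    rw [map_mul, map_mul, map_inv, F.Φ_tA]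
  · refine iff_of_false (fun hc => F.not_isConj_bA (hc.trans (isConj_iff.2 ⟨F.Φ c⁻¹, ?_⟩))) (by omega)
    rw [← map_inv, ← map_mul, ← map_mul]
    exact congrArg F.Φ (by group)

/-- The centraliser of a four-group of the other kind is small. -/
theorem order_pair {c : A9} (hc : c * tA = tA * c) {g : G} (h1 : g * h.φ tM = h.φ tM * g)
    (h2 : g * F.Φ (c * xA * c⁻¹) = F.Φ (c * xA * c⁻¹) * g) : g ^ 24 = 1 := by
  have key : ((F.Φ c)⁻¹ * g * F.Φ c) ∈ B.XP := by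
    have hct : Commute (F.Φ c) (h.φ tM) := by
      rw [← F.Φ_tA, Commute, SemiconjBy, ← map_mul, hc, map_mul]
    refine B.mem_XP.2 ⟨?_, ?_⟩
    · rw [← B.t_eq]
      exact ((hct.inv_left.mul_left h1).mul_left hct).eq
    · rw [← F.Φ_xA]
      simp only [map_mul, map_inv] at h2
      calc (F.Φ c)⁻¹ * g * F.Φ c * F.Φ xA = (F.Φ c)⁻¹ * (g * (F.Φ c * F.Φ xA * (F.Φ c)⁻¹)) * F.Φ c := by group
        _ = (F.Φ c)⁻¹ * (F.Φ c * F.Φ xA * (F.Φ c)⁻¹ * g) * F.Φ c := by rw [h2]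
        _ = _ := by group
  have h24 := B.XP_order key
  rw [show ((F.Φ c)⁻¹ * g * F.Φ c) = (F.Φ c)⁻¹ * g * ((F.Φ c)⁻¹)⁻¹ by rw [inv_inv], conj_pow] at h24
  exact conj_eq_one_iff.1 h24

theorem exists_five : ∃ y ∈ B.CV, y ^ 5 = 1 ∧ y ≠ 1 := by
  refine ⟨B.g0⁻¹ * B.ψ f6 * B.g0, B.g0_inv_mem (f6_apply 0), ?_, fun e => ?_⟩
  · rw [show B.g0⁻¹ * B.ψ f6 * B.g0 = B.g0⁻¹ * B.ψ f6 * (B.g0⁻¹)⁻¹ by rw [inv_inv], conj_pow, ← map_pow,
      six_base.2.2.2.2.2.2.1, map_one]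
    group
  · refine six_base.2.2.2.2.2.2.2.1 (B.inj ?_)
    rw [map_one]
    calc B.ψ f6 = B.g0 * (B.g0⁻¹ * B.ψ f6 * B.g0) * B.g0⁻¹ := by group
      _ = 1 := by rw [e]; group

/-- The conjugates of `ψ v7` commuting with it modulo `t`. -/
theorem pair_isolated {c : G} (hc : c * h.φ tM = h.φ tM * c) {w : G} (hw : w = c * B.ψ v7 * c⁻¹)
    (he : w * B.ψ v7 * w⁻¹ = B.ψ v7 ∨ w * B.ψ v7 * w⁻¹ = B.ψ v6 * B.ψ v7) :
    w = B.ψ v7 ∨ w = B.ψ v6 * B.ψ v7 := by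
  have hct : Commute c (B.ψ v6) := by rw [← B.t_eq]; exact hc
  obtain ⟨f1, f2, f3, f4, f5, f6'⟩ := four_facts
  have hvt : Commute (B.ψ v7) (B.ψ v6) := by rw [Commute, SemiconjBy, ← map_mul, ← map_mul, six_comm]
  have hwt : Commute w (B.ψ v6) := by rw [hw]; exact (hct.mul_left hvt).mul_left hct.inv_left
  obtain ⟨e, v', x', hv', hx', hm⟩ := F.cent_pair hwt.eq he
  have hv7 : (embA 0 v7 : Perm (Fin 9)) = emb v7 := embA_zero v7
  have hv67 : (embA 0 (v6 * v7) : Perm (Fin 9)) = emb (v6 * v7) := embA_zero _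
  have hA1 : IsConj (h.φ tM) (F.Φ (ctA e v' x')) := by
    rw [hm, hw]
    refine IsConj.trans ?_ (isConj_iff.2 ⟨c, rfl⟩)
    rw [← F.psi_emb, F.isA_iff (Subtype.ext (by rw [Subgroup.coe_mul, hv7]; exact f3))
      (fun e1 => f4 (by rw [← hv7, e1]; rfl)), hv7]
    exact f1
  have htm : F.Φ (tA * ctA e v' x') = c * B.ψ (v6 * v7) * c⁻¹ := by
    rw [map_mul, F.Φ_tA, B.t_eq, hm, hw, map_mul]
    calc B.ψ v6 * (c * B.ψ v7 * c⁻¹) = (B.ψ v6 * c) * B.ψ v7 * c⁻¹ := by group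
      _ = _ := by rw [← hct.eq]; group
  have hA2 : IsConj (h.φ tM) (F.Φ (tA * ctA e v' x')) := by
    rw [htm]
    refine IsConj.trans ?_ (isConj_iff.2 ⟨c, rfl⟩)
    rw [← F.psi_emb, F.isA_iff (Subtype.ext (by rw [Subgroup.coe_mul, hv67]; exact f5))
      (fun e1 => f6' (by rw [← hv67, e1]; rfl)), hv67]
    exact f2
  have inv : ∀ {a : A9} {y : G}, F.Φ a = c * y * c⁻¹ → y * y = 1 → y ≠ 1 → a * a = 1 ∧ a ≠ 1 := by
    intro a y e1 y2 y1
    refine ⟨F.inj ?_, fun e2 => y1 ?_⟩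
    · rw [map_mul, e1, map_one, show c * y * c⁻¹ * (c * y * c⁻¹) = c * (y * y) * c⁻¹ by group, y2]
      group
    · rw [e2, map_one] at e1
      exact conj_eq_one_iff.1 e1.symm
  obtain ⟨m2, m1⟩ := inv (hm.trans hw) (by rw [← map_mul, six_v7.1, map_one])
    (fun e1 => six_v7.2.1 (B.inj (e1.trans (map_one _).symm)))
  obtain ⟨n2, n1⟩ := inv htm (by rw [← map_mul, six_v7.2.2.1, map_one])
    (fun e1 => six_v7.2.2.2 (B.inj (e1.trans (map_one _).symm)))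
  rw [F.isA_iff m2 m1, ctA_val] at hA1
  rw [F.isA_iff n2 n1, Subgroup.coe_mul, ctA_val] at hA2
  have hm2' : CT e v' x' * CT e v' x' = 1 := by rw [← ctA_val]; exact congrArg Subtype.val m2
  rcases t_pair e v' hv' x' hx' hm2' hA1 hA2 with e1 | e1 | ⟨e', v'', hv'', x'', hx'', e1⟩
  · left
    rw [← hm, ← F.psi_emb]
    refine congrArg F.Φ (Subtype.ext ?_)
    rw [ctA_val, e1, embA_zero, nine_perms.2.2.2.1]
  · right
    rw [← hm, ← B.t_eq, ← F.Φ_tA, ← F.psi_emb, ← map_mul]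
    refine congrArg F.Φ (Subtype.ext ?_)
    rw [ctA_val, e1, Subgroup.coe_mul, embA_zero, nine_perms.2.2.2.1]
    rfl
  · exfalso
    obtain ⟨y, hy, hy5, hy1⟩ := F.exists_five
    obtain ⟨y6, y7⟩ := B.mem_CV.1 hy
    have hyt : (c * y * c⁻¹) * h.φ tM = h.φ tM * (c * y * c⁻¹) := by
      rw [B.t_eq]; exact ((hct.mul_left (show Commute y _ from y6)).mul_left hct.inv_left).eq
    have hm' : ctA e' v'' x'' * xA * (ctA e' v'' x'')⁻¹ = ctA e v' x' := Subtype.ext (by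
      rw [Subgroup.coe_mul, Subgroup.coe_mul, Subgroup.coe_inv, ctA_val, ctA_val]; exact e1)
    have h24 : (c * y * c⁻¹) ^ 24 = 1 := F.order_pair (F.ct_comm hv'' hx'' e') hyt (by
      rw [hm', hm, hw]; exact ((show Commute y (B.ψ v7) from y7).conj c).eq)
    rw [conj_pow] at h24
    have h1 := (pow_gcd_eq_one (a := y)).2 ⟨conj_eq_one_iff.1 h24, hy5⟩
    norm_num at h1
    exact hy1 h1

/-- An element of order three centralising the four-group is conjugate to the first line. -/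
theorem exists_conj_e1 {n : G} (hn3 : n ^ 3 = 1) (hn1 : n ≠ 1) (hnt : n * h.φ tM = h.φ tM * n)
    (hnh : n * F.Φ hA = F.Φ hA * n) :
    ∃ g : G, Commute g (B.ψ v6) ∧ ∃ i : ℤ, h.φ e1M = g * n ^ i * g⁻¹ := by
  classical
  haveI : Fact (Nat.Prime 3) := ⟨Nat.prime_three⟩
  set c1 : A9 := nine (swap 0 3 * swap 1 6) c1_facts.1
  set d := F.Φ c1
  have hdt : Commute d (B.ψ v6) := by
    rw [← B.t_eq, ← F.Φ_tA, Commute, SemiconjBy, ← map_mul, ← map_mul]
    exact congrArg F.Φ (Subtype.ext conj_facts.1)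
  have hnX : d⁻¹ * n * d ∈ B.XP := by
    rw [B.t_eq] at hnt
    refine B.mem_XP.2 ⟨((hdt.inv_left.mul_left hnt).mul_left hdt).eq, ?_⟩
    rw [← F.Φ_xA]
    rw [show hA = c1 * xA * c1⁻¹ from (Subtype.ext conj_facts.2.1).symm, map_mul, map_mul, map_inv] at hnh
    calc d⁻¹ * n * d * F.Φ xA = d⁻¹ * (n * (d * F.Φ xA * d⁻¹)) * d := by group
      _ = d⁻¹ * (d * F.Φ xA * d⁻¹ * n) * d := by rw [hnh]
      _ = _ := by group
  let a : B.XP := ⟨_, hnX⟩
  let b : B.XP := ⟨h.φ e1M, B.e1_mem_XP⟩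
  have hd3 : (d⁻¹ * n * d) ^ 3 = 1 := by
    have := conj_pow (a := d⁻¹) (b := n) (i := 3)
    rw [inv_inv] at this
    rw [this, hn3, mul_one, inv_mul_cancel]
  have ha : orderOf a = 3 := by
    refine orderOf_eq_prime (Subtype.ext hd3) fun e => hn1 ?_
    have e' : d⁻¹ * n * d = 1 := congrArg Subtype.val e
    calc n = d * (d⁻¹ * n * d) * d⁻¹ := by group
      _ = 1 := by rw [e']; group
  have hb : orderOf b = 3 :=
    orderOf_eq_prime (Subtype.ext (e_cubes (h := h)).1) fun e =>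
      e1M_facts.2.1 (h.inj ((congrArg Subtype.val e).trans (map_one _).symm))
  have hcard : 3 ^ (Nat.card B.XP).factorization 3 = 3 := by
    have hC0 : Nat.card B.XP ≠ 0 := Nat.card_pos.ne'
    have h1 : 1 ≤ (Nat.card B.XP).factorization 3 :=
      (Nat.prime_three.dvd_iff_one_le_factorization hC0).1 (hb ▸ _root_.orderOf_dvd_natCard b)
    have h2 : ¬ 2 ≤ (Nat.card B.XP).factorization 3 := fun e => by
      have h9 := ((show 3 ^ 2 ∣ 3 ^ (Nat.card B.XP).factorization 3 from pow_dvd_pow 3 e).trans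
        (Nat.ordProj_dvd _ _)).trans B.XP_dvd
      norm_num at h9
    rw [show (Nat.card B.XP).factorization 3 = 1 by omega, pow_one]
  obtain ⟨PA, hPA⟩ : ∃ P : Sylow 3 B.XP, (P : Subgroup B.XP) = zpowers a :=
    ⟨Sylow.ofCard (zpowers a) (by rw [hcard, Nat.card_zpowers, ha]), rfl⟩
  obtain ⟨PB, hPB⟩ : ∃ P : Sylow 3 B.XP, (P : Subgroup B.XP) = zpowers b :=
    ⟨Sylow.ofCard (zpowers b) (by rw [hcard, Nat.card_zpowers, hb]), rfl⟩
  obtain ⟨s, hs⟩ := MulAction.exists_smul_eq B.XP PB PA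
  have hmem : s * b * s⁻¹ ∈ zpowers a := by
    rw [← hPA, ← hs, Sylow.coe_subgroup_smul, hPB]
    exact ⟨b, mem_zpowers b, rfl⟩
  obtain ⟨i, hi⟩ := mem_zpowers_iff.1 hmem
  have e : (d⁻¹ * n * d) ^ i = (s : G) * h.φ e1M * (s : G)⁻¹ := by
    simpa [a, b] using congrArg Subtype.val hi
  refine ⟨(s : G)⁻¹ * d⁻¹, ((show Commute (s : G) (B.ψ v6) from (B.mem_XP.1 s.2).1).inv_left).mul_left hdt.inv_left,
    i, ?_⟩
  have e2 : d⁻¹ * n ^ i * d = (d⁻¹ * n * d) ^ i := by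
    have := conj_zpow (a := d⁻¹) (b := n) (i := i)
    rw [inv_inv] at this
    exact this.symm
  calc h.φ e1M = (s : G)⁻¹ * ((s : G) * h.φ e1M * (s : G)⁻¹) * (s : G) := by group
    _ = (s : G)⁻¹ * (d⁻¹ * n ^ i * d) * (s : G) := by rw [← e, e2]
    _ = _ := by group

/-- The elements of odd order centralising the first line and `t`. -/
theorem odd_e1 {n : G} {k : ℕ} (hk : Odd k) (hnk : n ^ k = 1) (hnt : n * B.ψ v6 = B.ψ v6 * n)
    (hne : n * h.φ e1M = h.φ e1M * n) : ∃ i : Fin 3, n = h.φ e1M ^ (i : ℕ) := by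
  obtain ⟨z, hz, y, hy⟩ := B.dec n hne
  have he13 := (e_cubes (h := h)).1
  obtain ⟨i, rfl⟩ := three_pow he13 hz
  have hny : n = h.φ e1M ^ (i : ℕ) * B.ψ y := by rw [hy, mul_inv_cancel_left]
  have hey : Commute (h.φ e1M ^ (i : ℕ)) (B.ψ y) :=
    ((show Commute (h.φ e1M) (B.ψ y) from (B.cent y).symm)).pow_left _
  have hy6 : y * v6 = v6 * y := B.inj (by
    rw [map_mul, map_mul, hy]
    exact ((((show Commute (h.φ e1M) (B.ψ v6) from (B.cent v6).symm).pow_left _).inv_left).mul_left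
      (show Commute n _ from hnt)).eq)
  have he12 : (h.φ e1M ^ (i : ℕ)) ^ 3 = 1 := by rw [pow_right_comm, he13, one_pow]
  have hn12 : n ^ 12 = 1 := by
    rw [hny, hey.mul_pow, ← map_pow B.ψ, show y ^ 12 = (y ^ 4) ^ 3 by rw [← pow_mul],
      cent_t_facts.2.2.1 y hy6, one_pow, map_one, mul_one, show 12 = 3 * 4 from rfl, pow_mul, he12, one_pow]
  have hn3 : n ^ 3 = 1 := by
    have h1 := (pow_gcd_eq_one (a := n)).2 ⟨hnk, hn12⟩
    have hd : Nat.gcd k 12 ∣ 3 := by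
      rw [show (12 : ℕ) = 2 ^ 2 * 3 by norm_num,
        Nat.Coprime.gcd_mul_left_cancel_right 3 ((Nat.coprime_two_left.2 hk).pow_left 2)]
      exact Nat.gcd_dvd_right _ _
    obtain ⟨d, hd⟩ := hd
    rw [hd, pow_mul, h1, one_pow]
  refine ⟨i, ?_⟩
  have h3 := hn3
  rw [hny, hey.mul_pow, he12, one_mul, ← map_pow] at h3
  have y3 : y ^ 3 = 1 := B.inj (h3.trans (map_one _).symm)
  have y4 := cent_t_facts.2.2.1 y hy6
  rw [pow_succ, y3, one_mul] at y4
  rw [hny, y4, map_one, mul_one]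

set_option maxHeartbeats 1000000 in
/-- The centraliser of an involution moving four points lies in the subgroup. -/
theorem cent_t {g : G} (hg : g * h.φ tM = h.φ tM * g) :
    ∃ e : Fin 2, ∃ v x : A6, InU v ∧ Fix0 x ∧ F.Φ (ctA e v x) = g := by
  classical
  haveI : Fact (Nat.Prime 2) := ⟨Nat.prime_two⟩
  rw [B.t_eq] at hg
  let C := centralizer ({B.ψ v6} : Set G)
  obtain ⟨v72, v71, v67', v671⟩ := six_v7
  let tK : C := ⟨B.ψ v6, mem_centralizer_singleton_iff.2 rfl⟩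
  let vK : C := ⟨B.ψ v7, mem_centralizer_singleton_iff.2 (by rw [← map_mul, ← map_mul, six_comm])⟩
  let eK : C := ⟨h.φ e1M, mem_centralizer_singleton_iff.2 (B.cent v6).symm⟩
  have memC : ∀ a : A9, a * tA = tA * a → F.Φ a ∈ C := fun a ha => mem_centralizer_singleton_iff.2 (by
    rw [← B.t_eq, ← F.Φ_tA, ← map_mul, ha, map_mul])
  let hK : C := ⟨F.Φ hA, memC hA hA_tA⟩
  have ht2 : tK * tK = 1 := Subtype.ext (by show B.ψ v6 * B.ψ v6 = 1; rw [← map_mul, six_base.2.1, map_one])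
  have ht1 : tK ≠ 1 := fun e => six_base.2.2.1 (B.inj ((congrArg Subtype.val e).trans (map_one _).symm))
  have hv2 : vK * vK = 1 := Subtype.ext (by show B.ψ v7 * B.ψ v7 = 1; rw [← map_mul, v72, map_one])
  have htc : ∀ x : C, Commute x tK := fun x => Subtype.ext (mem_centralizer_singleton_iff.1 x.2)
  haveI hNn : (zpowers tK).Normal := ⟨fun x hx g => by
    obtain ⟨n, rfl⟩ := mem_zpowers_iff.1 hx
    rw [((htc g).zpow_right n).eq, mul_inv_cancel_right]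
    exact zpow_mem (mem_zpowers _) n⟩
  obtain ⟨π, hπs, hker⟩ : ∃ π : C →* C ⧸ zpowers tK, Function.Surjective π ∧ ∀ x, π x = 1 ↔ x = 1 ∨ x = tK := by
    refine ⟨QuotientGroup.mk' _, QuotientGroup.mk'_surjective _, fun x => ?_⟩
    rw [QuotientGroup.mk'_apply, QuotientGroup.eq_one_iff, mem_zpowers_iff]
    constructor
    · rintro ⟨n, rfl⟩
      rw [← zpow_mod_orderOf, orderOf_eq_prime (p := 2) (by rw [pow_two, ht2]) ht1]
      rcases Int.emod_two_eq n with e | e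
      · left; push_cast; rw [e, zpow_zero]
      · right; push_cast; rw [e, zpow_one]
    · rintro (e | e)
      · exact ⟨0, by rw [e, zpow_zero]⟩
      · exact ⟨1, by rw [e, zpow_one]⟩
  have hv1 : π vK ≠ 1 := fun e => by
    rcases (hker _).1 e with e1 | e1
    · exact v71 (B.inj ((congrArg Subtype.val e1).trans (map_one _).symm))
    · exact six_v7_ne (B.inj (congrArg Subtype.val e1))
  have hvo : orderOf (π vK) = 2 := orderOf_eq_prime (by rw [pow_two, ← map_mul, hv2, map_one]) hv1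
  have hvinv : vK⁻¹ = vK := inv_eq_of_mul_eq_one_right hv2
  have two : ∀ z : C, π (vK * z * vK⁻¹ * z⁻¹) = 1 →
      (z : G) * B.ψ v7 * (z : G)⁻¹ = B.ψ v7 ∨ (z : G) * B.ψ v7 * (z : G)⁻¹ = B.ψ v6 * B.ψ v7 := by
    intro z hz
    rcases (hker _).1 hz with e | e
    · left
      have e' : vK * z = z * vK := mul_inv_eq_iff_eq_mul.1 (mul_inv_eq_one.1 e)
      exact congrArg Subtype.val (show z * vK * z⁻¹ = vK by rw [← e', mul_inv_cancel_right])
    · right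
      refine congrArg Subtype.val (show z * vK * z⁻¹ = tK * vK from ?_)
      rw [← (htc vK).eq, ← e, hvinv]
      calc z * vK * z⁻¹ = vK * vK * (z * vK * z⁻¹) := by rw [hv2, one_mul]
        _ = _ := by group
  -- the involution is isolated
  have hisol : Cfsg.IsIsolatedInvolution (π vK) := by
    refine ⟨hvo, fun q hq => ?_⟩
    obtain ⟨c, rfl⟩ := hπs q
    rw [← map_inv, ← map_mul, ← map_mul] at hq ⊢
    have h0 : π (vK * (c * vK * c⁻¹) * vK⁻¹ * (c * vK * c⁻¹)⁻¹) = 1 := by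
      rw [map_mul, map_mul π _ vK⁻¹, map_mul π vK, hq.eq, ← map_mul, ← map_mul, ← map_mul,
        mul_inv_cancel_right, mul_inv_cancel, map_one]
    rcases F.pair_isolated (c := (c : G)) (by rw [B.t_eq]; exact mem_centralizer_singleton_iff.1 c.2) rfl
        (two _ h0) with e | e
    · exact congrArg π (Subtype.ext e)
    · rw [show c * vK * c⁻¹ = tK * vK from Subtype.ext e, map_mul, (hker tK).2 (Or.inr rfl), one_mul]
  -- the odd core is trivial
  have hOodd : Odd (Nat.card (Cfsg.oddCore (C ⧸ zpowers tK))) :=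
    Nat.odd_iff.2 (Nat.two_dvd_ne_zero.1 Core.not_dvd_card_pPrimeCore)
  obtain ⟨O, hO, hOn⟩ : ∃ O : Subgroup (C ⧸ zpowers tK), O = Cfsg.oddCore (C ⧸ zpowers tK) ∧ O.Normal :=
    ⟨_, rfl, inferInstance⟩
  rw [← hO] at hOodd
  have hxk : ∀ x ∈ O, x ^ Nat.card O = 1 := fun x hx =>
    congrArg Subtype.val (_root_.pow_card_eq_one' (x := (⟨x, hx⟩ : O)))
  -- the translation is outside
  have heO : π eK ∉ O := by
    intro he
    let cK : C := ⟨F.Φ (nine (swap 2 3 * swap 7 8) c1_facts.2), memC _ (Subtype.ext conj_facts.2.2.1)⟩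
    have hp : π (eK * (cK * eK * cK⁻¹)) ∈ O := by
      simp only [map_mul, map_inv]; exact mul_mem he (hOn.conj_mem _ he _)
    have hval : ((eK * (cK * eK * cK⁻¹) : C) : G) = F.Φ (embA 2 (a6 * pA)) := by
      rw [map_mul (embA 2), map_mul F.Φ (embA 2 a6), ← pA_conj, map_mul F.Φ, map_mul F.Φ, map_inv F.Φ, F.map_embA,
        ← B.psi2_e1]
      rfl
    have hsq : (eK * (cK * eK * cK⁻¹)) ^ 2 = 1 := Subtype.ext (by
      rw [SubgroupClass.coe_pow, hval, ← map_pow, ← map_pow, rel_model.2.2.2.2.2.2.1, map_one, map_one]; rfl)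
    have h1 : π (eK * (cK * eK * cK⁻¹)) = 1 := by
      have := (pow_gcd_eq_one (a := π (eK * (cK * eK * cK⁻¹)))).2
        ⟨(by rw [← map_pow, hsq, map_one] : π (eK * (cK * eK * cK⁻¹)) ^ 2 = 1), hxk _ hp⟩
      rwa [show Nat.gcd 2 (Nat.card O) = 1 from Nat.coprime_two_left.2 hOodd, pow_one] at this
    rcases (hker _).1 h1 with e | e
    · exact cent_t_facts.2.2.2.1 (congrArg Subtype.val (F.inj
        ((hval.symm.trans (congrArg Subtype.val e)).trans (map_one _).symm)))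
    · exact cent_t_facts.2.2.2.2.1 (congrArg Subtype.val (F.inj
        ((hval.symm.trans (congrArg Subtype.val e)).trans (B.t_eq.symm.trans F.Φ_tA.symm))))
  -- no fixed points
  have hfix : ∀ x ∈ O, Commute x (π hK) → x = 1 := by
    intro x hx hc
    obtain ⟨n, rfl, hnk⟩ := exists_odd_rep π hπs ht2 hker hOodd (hxk x hx)
    have hnc : Commute n hK := commute_of_odd π ht2 htc hker hOodd hnk hc
    have hn24 : (n : G) ^ 24 = 1 := F.order_pair (c := nine (swap 0 3 * swap 1 6) c1_facts.1)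
      (Subtype.ext conj_facts.1) (by rw [B.t_eq]; exact mem_centralizer_singleton_iff.1 n.2) (by
        rw [show nine (swap 0 3 * swap 1 6) c1_facts.1 * xA * (nine (swap 0 3 * swap 1 6) c1_facts.1)⁻¹ = hA from
          Subtype.ext conj_facts.2.1]
        exact congrArg Subtype.val hnc.eq)
    have hn3 : n ^ 3 = 1 := by
      have h1 := (pow_gcd_eq_one (a := n)).2 ⟨hnk, (Subtype.ext hn24 : n ^ 24 = 1)⟩
      have hd : Nat.gcd (Nat.card O) 24 ∣ 3 := by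
        rw [show (24 : ℕ) = 2 ^ 3 * 3 by norm_num,
          Nat.Coprime.gcd_mul_left_cancel_right 3 ((Nat.coprime_two_left.2 hOodd).pow_left 3)]
        exact Nat.gcd_dvd_right _ _
      obtain ⟨d, hd⟩ := hd
      rw [hd, pow_mul, h1, one_pow]
    by_contra hne
    have hn1 : (n : G) ≠ 1 := fun e => hne ((hker n).2 (Or.inl (Subtype.ext e)))
    obtain ⟨g', hg', i, hi⟩ := F.exists_conj_e1 (congrArg Subtype.val hn3) hn1
      (by rw [B.t_eq]; exact mem_centralizer_singleton_iff.1 n.2) (congrArg Subtype.val hnc.eq)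
    refine heO ?_
    let gK : C := ⟨g', mem_centralizer_singleton_iff.2 hg'.eq⟩
    rw [show eK = gK * n ^ i * gK⁻¹ from Subtype.ext (by
      show h.φ e1M = _
      simp only [Subgroup.coe_mul, Subgroup.coe_inv, Subgroup.coe_zpow]
      exact hi), map_mul, map_mul, map_inv, map_zpow]
    exact hOn.conj_mem _ (zpow_mem hx _) _
  have hh2 : π hK * π hK = 1 := by
    rw [← map_mul, show hK * hK = 1 from Subtype.ext (by
      show F.Φ hA * F.Φ hA = 1
      rw [← map_mul, show hA * hA = 1 from Subtype.ext conj_facts.2.2.2.2.2.1, map_one]), map_one]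
  haveI := hOn
  have hinv := inv_of_fixedPointFree hh2 hfix
  have heinv : π hK * π eK * (π hK)⁻¹ = (π eK)⁻¹ := by
    rw [← map_inv, ← map_inv, ← map_mul, ← map_mul]
    refine congrArg π (Subtype.ext ?_)
    show F.Φ hA * h.φ e1M * (F.Φ hA)⁻¹ = (h.φ e1M)⁻¹
    rw [F.Φ_hA, ← map_inv, ← map_inv, ← map_mul, ← map_mul, rel_model.2.2.2.2.2.2.2.2.2.2.2]
  have he3 : π eK ^ 3 = 1 := by
    rw [← map_pow, show eK ^ 3 = 1 from Subtype.ext (e_cubes (h := h)).1, map_one]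
  have hObot : ∀ x ∈ O, x = 1 := by
    intro x hx
    have h1 := hinv _ (hOn.conj_mem _ hx (π eK))
    have h2 : π hK * (π eK * x * (π eK)⁻¹) * (π hK)⁻¹ = (π eK)⁻¹ * x⁻¹ * π eK := by
      calc π hK * (π eK * x * (π eK)⁻¹) * (π hK)⁻¹ =
          (π hK * π eK * (π hK)⁻¹) * (π hK * x * (π hK)⁻¹) * (π hK * π eK * (π hK)⁻¹)⁻¹ := by group
        _ = _ := by rw [heinv, hinv x hx, inv_inv]
    rw [h2, show (π eK * x * (π eK)⁻¹)⁻¹ = π eK * x⁻¹ * (π eK)⁻¹ by group] at h1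
    have h3 : Commute (π eK ^ 2) x⁻¹ := by
      refine mul_inv_eq_iff_eq_mul.1 ?_
      calc π eK ^ 2 * x⁻¹ * (π eK ^ 2)⁻¹ = π eK * (π eK * x⁻¹ * (π eK)⁻¹) * (π eK)⁻¹ := by rw [pow_two]; group
        _ = π eK * ((π eK)⁻¹ * x⁻¹ * π eK) * (π eK)⁻¹ := by rw [h1]
        _ = x⁻¹ := by group
    have e4 : π eK = (π eK ^ 2) ^ 2 := by
      rw [← pow_mul, show (2 * 2 : ℕ) = 3 + 1 from rfl, pow_succ, he3, one_mul]
    have hce : Commute x (π eK) := by
      rw [e4]; exact ((Commute.inv_right_iff.1 h3).pow_left 2).symm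
    obtain ⟨n, rfl, hnk⟩ := exists_odd_rep π hπs ht2 hker hOodd (hxk x hx)
    have hnc : Commute n eK := commute_of_odd π ht2 htc hker hOodd hnk hce
    obtain ⟨i, hi⟩ := F.odd_e1 hOodd (congrArg Subtype.val hnk) (mem_centralizer_singleton_iff.1 n.2)
      (congrArg Subtype.val hnc.eq)
    rw [show n = eK ^ (i : ℕ) from Subtype.ext hi, map_pow] at hx ⊢
    obtain ⟨i, hi'⟩ := i
    interval_cases i
    · rw [pow_zero]
    · exact absurd (by simpa using hx) heO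
    · refine absurd ?_ heO
      have := mul_mem hx hx
      rwa [← pow_add, show (2 + 2 : ℕ) = 3 + 1 from rfl, pow_succ, he3, one_mul] at this
  let gK : C := ⟨g, mem_centralizer_singleton_iff.2 hg⟩
  have hz := hObot _ (hO ▸ Invol.zstar hisol (π gK))
  exact F.cent_pair hg (two gK (by simp only [map_mul, map_inv]; exact hz))

end Hyp.Big.Frame

end Cfsg.Agent.A9ThreeLocal
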