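import Cfsg.Agent.A9ThreeLocal.Basic
import Cfsg.Agent.ThreeTINine.Count
import Cfsg.Agent.ThreeTINine.Arith
import Cfsg.Agent.Coprime.Generation
import Mathlib.GroupTheory.Transfer
import Mathlib.GroupTheory.Complement

/-!
A group with a Sylow subgroup of order nine inverted by an involution, in which at most one line
has a large centraliser: that centraliser has index two.
-/

set_option autoImplicit false
set_option maxHeartbeats 800000

namespace Cfsg.Agent.A9ThreeLocal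

open Cfsg Cfsg.Agent Subgroup
open scoped ComplexConjugate Pointwise

universe u

variable {Y : Type u} [Group Y]

/-- The configuration. -/
structure Lone (E : Subgroup Y) (e v t : Y) : Prop where
  comm : ∀ x ∈ E, ∀ y ∈ E, x * y = y * x
  cube : ∀ x ∈ E, x ^ 3 = 1
  card : Nat.card E = 9
  e_mem : e ∈ E
  v_mem : v ∈ E
  e_ne : e ≠ 1
  v_not : v ∉ zpowers e
  inv : ∀ x ∈ E, t * x * t⁻¹ = x⁻¹
  norm : ∀ g ∈ normalizer (E : Set Y), g ∈ E ∨ g * t ∈ E
  cent : ∀ x ∈ E, x ∉ zpowers e → centralizer ({x} : Set Y) = E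
  cover : ∀ Q : Subgroup Y, IsPGroup 3 Q → ∃ k : Y, ∀ a ∈ Q, k * a * k⁻¹ ∈ E

variable {E : Subgroup Y} {e v t : Y}

namespace Lone

variable (h : Lone E e v t)

/-- The lines off `e`. -/
def ln (e v : Y) : Fin 3 → Y := ![v, v * e, v * e⁻¹]

include h

theorem ln_mem (i : Fin 3) : ln e v i ∈ E := by
  fin_cases i
  · exact h.v_mem
  · exact mul_mem h.v_mem h.e_mem
  · exact mul_mem h.v_mem (inv_mem h.e_mem)

theorem ln_not (i : Fin 3) : ln e v i ∉ zpowers e := by
  have he := mem_zpowers e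
  fin_cases i
  · exact h.v_not
  · intro hm
    have hm' : v * e ∈ zpowers e := hm
    exact h.v_not (by simpa using mul_mem hm' (inv_mem he))
  · intro hm
    have hm' : v * e⁻¹ ∈ zpowers e := hm
    exact h.v_not (by simpa using mul_mem hm' he)

theorem ln_ne (i : Fin 3) : ln e v i ≠ 1 := fun e1 => h.ln_not i (e1 ▸ one_mem _)

theorem ln_cent (i : Fin 3) : centralizer ({ln e v i} : Set Y) = E := h.cent _ (h.ln_mem i) (h.ln_not i)

theorem ln_sep (i j : Fin 3) (hij : i ≠ j) : ln e v i ≠ ln e v j ∧ ln e v i ≠ (ln e v j)⁻¹ := by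
  have he1 := h.e_ne
  have he3 : e * (e * e) = 1 := by rw [← pow_three]; exact h.cube e h.e_mem
  have he2 : e * e ≠ 1 := fun e2 => he1 (by rwa [e2, mul_one] at he3)
  have hmem : ∀ n m : ℤ, v * e ^ n ≠ (v * e ^ m)⁻¹ := by
    intro n m hq
    have hc : Commute v e := h.comm v h.v_mem e h.e_mem
    refine h.v_not ?_
    have hv3 : v * (v * v) = 1 := by rw [← pow_three]; exact h.cube v h.v_mem
    have e2 : v * v = e ^ (-(n + m)) := by
      rw [eq_inv_iff_mul_eq_one, mul_assoc, ← mul_assoc (e ^ n), ← (hc.zpow_right n).eq, mul_assoc,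
        ← zpow_add, ← mul_assoc] at hq
      rw [zpow_neg]
      exact eq_inv_of_mul_eq_one_left hq
    rw [e2] at hv3
    have : v = e ^ (n + m) := by
      rw [zpow_neg, mul_inv_eq_one] at hv3
      exact hv3
    exact this ▸ zpow_mem (mem_zpowers e) _
  have hp : ∀ k : Fin 3, ln e v k = v * e ^ ((![0, 1, -1] : Fin 3 → ℤ) k) := by
    intro k
    fin_cases k <;> simp [ln]
  refine ⟨fun hq => hij ?_, by rw [hp, hp]; exact hmem _ _⟩
  rw [hp, hp, mul_left_cancel_iff] at hq
  fin_cases i <;> fin_cases j <;> simp at hq <;>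
    first
      | rfl
      | exact absurd hq he1
      | exact absurd hq.symm he1
      | exact absurd (mul_eq_one_iff_eq_inv.2 hq) he2
      | exact absurd (mul_eq_one_iff_eq_inv.2 hq.symm) he2

theorem real {x : Y} (hx : x ∈ E) : IsConj x x⁻¹ := isConj_iff.2 ⟨t, h.inv x hx⟩

/-- Fusion of the special elements. -/
theorem fus {g x y : Y} (hx : x ∈ E) (hxe : x ∉ zpowers e) (hy : y ∈ E) (hye : y ∉ zpowers e)
    (hg : g * x * g⁻¹ = y) : y = x ∨ y = x⁻¹ := by
  have hgN : g ∈ normalizer (E : Set Y) := by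
    rw [mem_normalizer_iff]
    intro s
    conv_lhs => rw [← h.cent x hx hxe]
    conv_rhs => rw [← h.cent y hy hye, ← hg]
    rw [mem_centralizer_conj]
    simp [mul_assoc]
  rcases h.norm g hgN with hgE | hgE
  · left
    rw [← hg, h.comm g hgE x hx, mul_inv_cancel_right]
  · right
    have e1 := h.comm _ hgE x hx
    have e2 : g * (t * x * t⁻¹) * g⁻¹ = x := by
      calc g * (t * x * t⁻¹) * g⁻¹ = (g * t * x) * (g * t)⁻¹ := by group
        _ = x := by rw [e1, mul_inv_cancel_right]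
    rw [h.inv x hx, ← conj_inv, hg] at e2
    rw [← e2, inv_inv]

theorem not_isConj (i j : Fin 3) (hij : i ≠ j) : ¬ IsConj (ln e v i) (ln e v j) := fun hc => by
  obtain ⟨g, hg⟩ := isConj_iff.1 hc
  rcases h.fus (h.ln_mem i) (h.ln_not i) (h.ln_mem j) (h.ln_not j) hg with e1 | e1
  · exact (h.ln_sep i j hij).1 e1.symm
  · exact (h.ln_sep i j hij).2 (by rw [e1, inv_inv])

variable [Finite Y]

/-- A conjugate in `E` of a special element is special. -/
theorem conj_not {i : Fin 3} {p0 : Y} (hp0 : p0 ∈ E) (hc : IsConj (ln e v i) p0) : p0 ∉ zpowers e := by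
  intro hm
  obtain ⟨g, hg⟩ := isConj_iff.1 hc
  have hcard : Nat.card (centralizer ({p0} : Set Y)) = 9 := by
    rw [← hg, card_centralizer_conj, h.ln_cent, h.card]
  have hEC : E = centralizer ({p0} : Set Y) := eq_of_le_of_card_ge
    (fun x hx => mem_centralizer_singleton_iff.2 (h.comm x hx p0 hp0)) (by rw [hcard, h.card])
  have hgN : g ∈ normalizer (E : Set Y) := by
    rw [mem_normalizer_iff]
    intro x
    conv_rhs => rw [hEC, ← hg]
    conv_lhs => rw [← h.ln_cent i]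
    rw [mem_centralizer_conj]
    simp [mul_assoc]
  refine h.ln_not i ?_
  rcases h.norm g hgN with h1 | h1
  · rwa [← hg, h.comm g h1 _ (h.ln_mem i), mul_inv_cancel_right] at hm
  · have e2 := h.comm _ h1 _ (h.ln_mem i)
    have e3 : g * (t * ln e v i * t⁻¹) * g⁻¹ = ln e v i := by
      calc g * (t * ln e v i * t⁻¹) * g⁻¹ = (g * t * ln e v i) * (g * t)⁻¹ := by group
        _ = _ := by rw [e2, mul_inv_cancel_right]
    rw [h.inv _ (h.ln_mem i), ← conj_inv, hg] at e3
    exact e3 ▸ inv_mem hm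

theorem conj_eq {i : Fin 3} {p0 : Y} (hp0 : p0 ∈ E) (hc : IsConj (ln e v i) p0) :
    p0 = ln e v i ∨ p0 = (ln e v i)⁻¹ := by
  obtain ⟨g, hg⟩ := isConj_iff.1 hc
  exact h.fus (h.ln_mem i) (h.ln_not i) hp0 (h.conj_not hp0 hc) hg

theorem not_cyclic : ¬ IsCyclic E := fun hc => by
  obtain ⟨g, hg⟩ := hc.exists_ofOrder_eq_natCard (α := E)
  rw [h.card] at hg
  have := Nat.le_of_dvd (by norm_num)
    (orderOf_dvd_of_pow_eq_one (Subtype.ext (h.cube g g.2) : g ^ 3 = 1))
  omega

/-- A subgroup of order prime to three normalised by `E` lies in the centraliser of `e`. -/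
theorem le_cent {K : Subgroup Y} (hK : ¬ 3 ∣ Nat.card K) (hEK : E ≤ normalizer (K : Set Y)) :
    K ≤ centralizer ({e} : Set Y) := by
  haveI : IsMulCommutative E := ⟨⟨fun a b => Subtype.ext (h.comm a a.2 b b.2)⟩⟩
  conv_lhs => rw [← Coprime.iSup_centralizer_eq h.not_cyclic hEK (by
    rw [h.card, show (9 : ℕ) = 3 ^ 2 from rfl]
    exact Nat.Coprime.pow_left 2 ((Nat.prime_three.coprime_iff_not_dvd).2 hK))]
  refine iSup₂_le fun s hs x hx => ?_
  obtain ⟨hsE, hs1⟩ := hs
  by_cases hse : s ∈ zpowers e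
  · rcases zpowers_three_cases (h.cube e h.e_mem) hse with e1 | e1 | e1
    · exact absurd e1 hs1
    · exact e1 ▸ hx.2
    · have := hx.2; rw [e1, centralizer_inv] at this; exact this
  · have hxE : x ∈ E := h.cent s hsE hse ▸ hx.2
    have : x = 1 := by
      have d1 : orderOf x ∣ 3 := orderOf_dvd_of_pow_eq_one (h.cube x hxE)
      have d2 : orderOf x ∣ Nat.card K := by
        have := orderOf_dvd_natCard (⟨x, hx.1⟩ : K)
        rwa [orderOf_mk] at this
      rw [← orderOf_eq_one_iff]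
      rcases (Nat.dvd_prime Nat.prime_three).1 d1 with e1 | e1
      · exact e1
      · exact absurd (e1 ▸ d2) hK
    rw [this]; exact one_mem _

/-- Every element of a coset of a normalised subgroup is a conjugate. -/
theorem conj_of_coset {K : Subgroup Y} (hK : ¬ 3 ∣ Nat.card K) {x : Y} (hx : x ∈ E)
    (hxe : x ∉ zpowers e) (hxK : ∀ k ∈ K, x * k * x⁻¹ ∈ K) {k : Y} (hk : k ∈ K) :
    IsConj (k * x) x := by
  let f : K → K := fun m => ⟨(m : Y) * (x * (m : Y)⁻¹ * x⁻¹), mul_mem m.2 (hxK _ (inv_mem m.2))⟩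
  have hf : Function.Injective f := by
    rintro ⟨a, ha⟩ ⟨b, hb⟩ e1
    have e2 : a * (x * a⁻¹ * x⁻¹) = b * (x * b⁻¹ * x⁻¹) := congrArg Subtype.val e1
    have hc : b⁻¹ * a ∈ centralizer ({x} : Set Y) := by
      rw [mem_centralizer_singleton_iff]
      calc b⁻¹ * a * x = b⁻¹ * (a * (x * a⁻¹ * x⁻¹)) * x * a := by group
        _ = x * (b⁻¹ * a) := by rw [e2]; group
    rw [h.cent x hx hxe] at hc
    have d1 : orderOf (b⁻¹ * a) ∣ 3 := orderOf_dvd_of_pow_eq_one (h.cube _ hc)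
    have d2 : orderOf (b⁻¹ * a) ∣ Nat.card K := by
      have := orderOf_dvd_natCard (⟨_, mul_mem (inv_mem hb) ha⟩ : K)
      rwa [orderOf_mk] at this
    refine Subtype.ext (inv_mul_eq_one.1 (orderOf_eq_one_iff.1 ?_)).symm
    rcases (Nat.dvd_prime Nat.prime_three).1 d1 with e1 | e1
    · exact e1
    · exact absurd (e1 ▸ d2) hK
  obtain ⟨m, hm⟩ := (Finite.injective_iff_surjective.1 hf) ⟨k, hk⟩
  have e1 : (m : Y) * (x * (m : Y)⁻¹ * x⁻¹) = k := congrArg Subtype.val hm
  exact (isConj_iff.2 ⟨(m : Y), show (m : Y) * x * (m : Y)⁻¹ = k * x by rw [← e1]; group⟩).symm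

/-- The normal complement of `E` in the centraliser of `e`. -/
theorem exists_complement : ∃ K : Subgroup Y, ¬ 3 ∣ Nat.card K ∧ K ≤ centralizer ({e} : Set Y) ∧
    (∀ x ∈ centralizer ({e} : Set Y), ∀ k ∈ K, x * k * x⁻¹ ∈ K) ∧
    ∀ x ∈ centralizer ({e} : Set Y), ∃ k ∈ K, ∃ s ∈ E, x = k * s := by
  classical
  haveI : Fact (Nat.Prime 3) := ⟨Nat.prime_three⟩
  set C := centralizer ({e} : Set Y)
  have hEC : E ≤ C := fun x hx => mem_centralizer_singleton_iff.2 (h.comm x hx e h.e_mem)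
  have hp : IsPGroup 3 (E.subgroupOf C) := IsPGroup.of_card (n := 2) (by
    rw [Nat.card_congr (subgroupOfEquivOfLe hEC).toEquiv, h.card]; norm_num)
  obtain ⟨P, hP⟩ := hp.exists_le_sylow
  have hPE : (P : Subgroup C) = E.subgroupOf C := by
    obtain ⟨k, hk⟩ := h.cover ((P : Subgroup C).map C.subtype) (P.2.map _)
    refine (eq_of_le_of_card_ge hP ?_).symm
    rw [Nat.card_congr (subgroupOfEquivOfLe hEC).toEquiv, ← card_map_of_injective (K := (P : Subgroup C)) C.subtype_injective]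
    exact Nat.card_le_card_of_injective (fun a => (⟨k * (a : Y) * k⁻¹, hk _ a.2⟩ : E)) fun a b e1 =>
      Subtype.ext (mul_left_cancel (mul_right_cancel (congrArg Subtype.val e1)))
  have hN : normalizer ((P : Subgroup C) : Set C) ≤ centralizer ((P : Subgroup C) : Set C) := by
    intro g hg
    have hgN : (g : Y) ∈ normalizer (E : Set Y) := by
      refine mem_normalizer_fintype fun s hs => ?_
      exact (by
        have := (mem_normalizer_iff.1 hg ⟨s, hEC hs⟩).1 (hPE ▸ hs)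
        rw [hPE] at this
        exact this)
    have hgE : (g : Y) ∈ E := by
      rcases h.norm g hgN with h1 | h1
      · exact h1
      · exfalso
        have e1 : (g : Y) * t * e = e * ((g : Y) * t) := h.comm _ h1 e h.e_mem
        have e2 : (g : Y) * e = e * g := mem_centralizer_singleton_iff.1 g.2
        have e3 : t * e * t⁻¹ = e := by
          calc t * e * t⁻¹ = (g : Y)⁻¹ * ((g : Y) * t * e) * t⁻¹ := by group
            _ = (g : Y)⁻¹ * (e * g) := by rw [e1]; group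
            _ = e := by rw [← e2]; group
        rw [h.inv e h.e_mem] at e3
        refine h.e_ne ?_
        calc e = e * e⁻¹ * e := by group
          _ = e * (e * e) := by rw [e3]; group
          _ = 1 := by rw [← pow_three]; exact h.cube e h.e_mem
    rw [mem_centralizer_iff]
    intro s hs
    rw [hPE] at hs
    exact Subtype.ext (h.comm _ hs _ hgE)
  have hc := MonoidHom.ker_transferSylow_isComplement' P hN
  have hnd := MonoidHom.not_dvd_card_ker_transferSylow P hN
  have hnK := MonoidHom.normal_ker (MonoidHom.transferSylow P hN)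
  generalize (MonoidHom.transferSylow P hN).ker = K0 at hc hnd hnK
  refine ⟨K0.map C.subtype, ?_, map_subtype_le _, ?_, ?_⟩
  · rw [card_map_of_injective C.subtype_injective]
    exact hnd
  · rintro x hx _ ⟨k, hk, rfl⟩
    exact ⟨(⟨x, hx⟩ : C) * k * (⟨x, hx⟩ : C)⁻¹, hnK.conj_mem k hk _, rfl⟩
  · intro x hx
    obtain ⟨⟨⟨k, hk⟩, ⟨s, hs⟩⟩, e1⟩ := hc.2 ⟨x, hx⟩
    refine ⟨k, ⟨k, hk, rfl⟩, s, ?_, ?_⟩
    · rw [SetLike.mem_coe, hPE] at hs; exact hs
    · exact (congrArg Subtype.val e1).symm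

/-- Triangles among special elements. -/
theorem triangle {g : Y} (i j k : Fin 3) (hg : IsConj (g * ln e v i * g⁻¹ * ln e v j) (ln e v k)) :
    ∃ p0 ∈ E, ∃ r0 ∈ E, IsConj (ln e v i) p0 ∧ IsConj (ln e v k) r0 ∧ p0 * ln e v j = r0 ∧
      (p0 ∉ zpowers (ln e v j) →
        ∃ a ∈ centralizer ({e} : Set Y), g * ln e v i * g⁻¹ = a * p0 * a⁻¹) := by
  classical
  haveI : Fact (Nat.Prime 3) := ⟨Nat.prime_three⟩
  obtain ⟨w, hw⟩ := isConj_iff.1 hg
  set p := g * ln e v i * g⁻¹ with hp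
  set q := ln e v j with hq
  have p3 : p * (p * p) = 1 := by
    rw [← pow_three, hp, conj_pow, h.cube _ (h.ln_mem i)]; group
  have q3 : q * (q * q) = 1 := by rw [← pow_three, hq, h.cube _ (h.ln_mem j)]
  have pq3 : p * q * (p * q * (p * q)) = 1 := by
    rw [← pow_three]
    have := h.cube _ (h.ln_mem k)
    rwa [← hw, conj_pow, conj_eq_one_iff] at this
  have pi : p⁻¹ = p * p := inv_eq_of_mul_eq_one_right p3
  have qi : q * q = q⁻¹ := (inv_eq_of_mul_eq_one_right q3).symm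
  set a := p⁻¹ * q with ha
  set b := q * p⁻¹ with hb
  have hab' : a * b = (p * q * p)⁻¹ := by
    rw [ha, hb, show p⁻¹ * q * (q * p⁻¹) = p⁻¹ * (q * q) * p⁻¹ by group, qi]; group
  have hab : a * b = b * a := by
    have e2 : b * a = q * p * q := by
      rw [ha, hb, show q * p⁻¹ * (p⁻¹ * q) = q * (p * p)⁻¹ * q by group, ← pi, inv_inv]
    rw [hab', e2]
    exact inv_eq_of_mul_eq_one_right (by rw [← pq3]; group)
  set N : Subgroup Y := closure {a, b} with hN
  have hNc : ∀ x ∈ N, ∀ y ∈ N, x * y = y * x := by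
    have : N ≤ centralizer (N : Set Y) := by
      rw [hN, centralizer_closure]
      refine (closure_le _).2 ?_
      rintro x (rfl | rfl) y (rfl | rfl) <;> first | rfl | exact hab | exact hab.symm
    exact fun x hx y hy => (this hy x hx)
  have hNp : ∀ x ∈ N, p⁻¹ * x * p ∈ N := by
    have : N ≤ N.comap (MulAut.conj p⁻¹).toMonoidHom := by
      refine (closure_le _).2 ?_
      rintro x (rfl | rfl)
      · show p⁻¹ * a * p⁻¹⁻¹ ∈ N
        have : p⁻¹ * a * p⁻¹⁻¹ = a⁻¹ * b⁻¹ := by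
          rw [← mul_inv_rev, ← hab, hab', inv_inv, ha,
            show p⁻¹ * (p⁻¹ * q) * p = (p * p)⁻¹ * q * p by group, ← pi, inv_inv, inv_inv]
        rw [this]
        exact mul_mem (inv_mem (subset_closure (by simp))) (inv_mem (subset_closure (by simp)))
      · show p⁻¹ * b * p⁻¹⁻¹ ∈ N
        rw [show p⁻¹ * b * p⁻¹⁻¹ = a by rw [ha, hb]; group]
        exact subset_closure (by simp)
    intro x hx
    have := this hx
    simpa using this
  have hNp' : ∀ x ∈ N, p * x * p⁻¹ ∈ N := fun x hx => by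
    have := hNp _ (hNp x hx)
    have e1 : p⁻¹ * (p⁻¹ * x * p) * p = (p * p)⁻¹ * x * (p * p) := by group
    rwa [e1, ← pi, inv_inv] at this
  set m := Nat.card N / 3 ^ (Nat.card N).factorization 3
  have hm3 : ¬ 3 ∣ m := Nat.not_dvd_ordCompl Nat.prime_three Nat.card_pos.ne'
  let Nt : Subgroup Y :=
    { carrier := {x | x ∈ N ∧ x ^ m = 1}
      one_mem' := ⟨one_mem _, one_pow _⟩
      mul_mem' := fun {x y} hx hy => ⟨mul_mem hx.1 hy.1, by
        rw [(show Commute x y from hNc x hx.1 y hy.1).mul_pow, hx.2, hy.2, one_mul]⟩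
      inv_mem' := fun {x} hx => ⟨inv_mem hx.1, by rw [inv_pow, hx.2, inv_one]⟩ }
  have hNtp : ∀ x ∈ Nt, p * x * p⁻¹ ∈ Nt := fun x hx =>
    ⟨hNp' x hx.1, by rw [conj_pow, hx.2]; group⟩
  have hNt3 : ¬ 3 ∣ Nat.card Nt := fun hd => by
    obtain ⟨x, hx⟩ := exists_prime_orderOf_dvd_card' 3 hd
    have : orderOf (x : Y) ∣ m := orderOf_dvd_of_pow_eq_one x.2.2
    rw [orderOf_coe, hx] at this
    exact hm3 this
  -- the group generated by the triangle
  set L : Subgroup Y := N ⊔ zpowers p with hL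
  have hpn : zpowers p ≤ normalizer (N : Set Y) := zpowers_le.2 (mem_normalizer_fintype hNp')
  have hLcoe : ∀ y ∈ L, ∃ x ∈ N, ∃ z ∈ zpowers p, x * z = y := fun y hy => by
    have := Subgroup.coe_mul_of_right_le_normalizer_left N (zpowers p) hpn
    rw [← hL] at this
    have hy' : y ∈ (N : Set Y) * (zpowers p : Set Y) := this ▸ hy
    obtain ⟨x, hx, z, hz, e1⟩ := hy'
    exact ⟨x, hx, z, hz, e1⟩
  have hqL : q ∈ L := by
    have : q = p * a := by rw [ha]; group
    rw [this]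
    exact mul_mem (mem_sup_right (mem_zpowers p)) (mem_sup_left (subset_closure (by simp)))
  have hpL : p ∈ L := mem_sup_right (mem_zpowers p)
  have hNtn : ∀ y ∈ L, ∀ x ∈ Nt, y * x * y⁻¹ ∈ Nt := by
    intro y hy
    obtain ⟨c, hc, z, hz, rfl⟩ := hLcoe y hy
    intro x hx
    have hzx : z * x * z⁻¹ ∈ Nt := by
      rcases zpowers_three_cases (by rw [pow_three, p3]) hz with e1 | e1 | e1 <;> rw [e1]
      · simpa using hx
      · exact hNtp x hx
      · have := hNtp _ (hNtp x hx)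
        rw [show p⁻¹ * x * p⁻¹⁻¹ = (p * p) * x * (p * p)⁻¹ by rw [← pi]]
        rwa [show p * (p * x * p⁻¹) * p⁻¹ = (p * p) * x * (p * p)⁻¹ by group] at this
    have e1 : c * z * x * (c * z)⁻¹ = c * (z * x * z⁻¹) * c⁻¹ := by group
    rw [e1, hNc c hc _ hzx.1, mul_inv_cancel_right]
    exact hzx
  set N' : Subgroup L := Nt.subgroupOf L
  haveI hN'n : N'.Normal := ⟨fun x hx y => hNtn y y.2 _ hx⟩
  have hNtL : Nt ≤ L := fun x hx => mem_sup_left hx.1
  have hN'c : Nat.card N' = Nat.card Nt := Nat.card_congr (subgroupOfEquivOfLe hNtL).toEquiv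
  have hquot : IsPGroup 3 (L ⧸ N') := by
    intro yq
    obtain ⟨y, rfl⟩ := QuotientGroup.mk_surjective yq
    refine ⟨(Nat.card N).factorization 3 + 1, ?_⟩
    rw [← QuotientGroup.mk_pow, QuotientGroup.eq_one_iff]
    obtain ⟨c, hc, z, hz, e1⟩ := hLcoe y y.2
    have hy3 : (y : Y) ^ 3 ∈ N := by
      rw [← e1, pow_three]
      rcases zpowers_three_cases (by rw [pow_three, p3]) hz with e2 | e2 | e2 <;> rw [e2]
      · simpa using mul_mem hc (mul_mem hc hc)
      · rw [show c * p * (c * p * (c * p)) = c * (p * c * p⁻¹) * (p * (p * c * p⁻¹) * p⁻¹) * (p * (p * p)) by group,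
          p3, mul_one]
        exact mul_mem (mul_mem hc (hNp' _ hc)) (hNp' _ (hNp' _ hc))
      · rw [show c * p⁻¹ * (c * p⁻¹ * (c * p⁻¹)) = c * (p⁻¹ * c * p) * (p⁻¹ * (p⁻¹ * c * p) * p) * (p * (p * p))⁻¹ by group,
          p3, inv_one, mul_one]
        exact mul_mem (mul_mem hc (hNp _ hc)) (hNp _ (hNp _ hc))
    show (y : Y) ^ 3 ^ ((Nat.card N).factorization 3 + 1) ∈ Nt
    rw [pow_succ', pow_mul]
    refine ⟨pow_mem hy3 _, ?_⟩
    rw [← pow_mul ((y : Y) ^ 3), Nat.ordProj_mul_ordCompl_eq_self]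
    exact congrArg Subtype.val (pow_card_eq_one' (x := (⟨_, hy3⟩ : N)))
  have hzq : IsPGroup 3 (zpowers (⟨q, hqL⟩ : L)) := by
    refine IsPGroup.of_card (n := 1) ?_
    rw [Nat.card_zpowers, orderOf_mk, orderOf_eq_prime (by rw [pow_three, q3]) (h.ln_ne j), pow_one]
  obtain ⟨R, hR⟩ := hzq.exists_le_sylow
  have hRE : ∀ r ∈ (R : Subgroup L), (r : Y) ∈ E := by
    intro r hr
    obtain ⟨c, hc⟩ := h.cover ((R : Subgroup L).map L.subtype) (R.2.map _)
    have e1 := h.comm _ (hc r ⟨r, hr, rfl⟩) _ (hc q ⟨⟨q, hqL⟩, hR (mem_zpowers _), rfl⟩)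
    rw [← h.ln_cent j, mem_centralizer_singleton_iff]
    calc (r : Y) * q = c⁻¹ * ((c * r * c⁻¹) * (c * q * c⁻¹)) * c := by group
      _ = q * r := by rw [e1]; group
  -- `L` is the product of `N'` and `R`
  obtain ⟨n3, hn3⟩ := IsPGroup.iff_card.1 hquot
  have hRcard : Nat.card (R : Subgroup L) = 3 ^ n3 := by
    rw [R.card_eq_multiplicity]
    congr 1
    rw [card_eq_card_quotient_mul_card_subgroup N', hn3, Nat.factorization_mul (by positivity) Nat.card_pos.ne',
      Finsupp.add_apply, Nat.Prime.factorization_pow Nat.prime_three, Finsupp.single_eq_same,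
      Nat.factorization_eq_zero_of_not_dvd (by rwa [hN'c]), add_zero]
  have hcop : (Nat.card N').Coprime (Nat.card (R : Subgroup L)) := by
    rw [hN'c, hRcard]
    exact Nat.Coprime.pow_right _ ((Nat.prime_three.coprime_iff_not_dvd).2 hNt3).symm
  have hcompl : IsComplement' N' (R : Subgroup L) := isComplement'_of_coprime
    (by rw [card_eq_card_quotient_mul_card_subgroup N', hn3, hRcard, mul_comm]) hcop
  have hdisj : ∀ r : L, r ∈ N' → r ∈ (R : Subgroup L) → r = 1 := fun r h1 h2 =>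
    disjoint_def.1 hcompl.disjoint h1 h2
  have split : ∀ y : L, (y : Y) ^ 3 = 1 → (y : Y) ≠ 1 →
      ∃ c ∈ N', ∃ r ∈ (R : Subgroup L), y = c * r * c⁻¹ := by
    intro y hy hy1
    have hzy : IsPGroup 3 (zpowers y) := IsPGroup.of_card (n := 1) (by
      rw [Nat.card_zpowers, ← orderOf_coe, orderOf_eq_prime hy hy1, pow_one])
    obtain ⟨Q, hQ⟩ := hzy.exists_le_sylow
    obtain ⟨x, hx⟩ := MulAction.exists_smul_eq L R Q
    have hy' : y ∈ (Q : Subgroup L) := hQ (mem_zpowers y)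
    rw [← hx, Sylow.coe_subgroup_smul] at hy'
    obtain ⟨r, hr, e1⟩ := hy'
    obtain ⟨⟨⟨c, hc⟩, ⟨s, hs⟩⟩, e2⟩ := hcompl.2 x
    refine ⟨c, hc, s * r * s⁻¹, mul_mem (mul_mem hs hr) (inv_mem hs), ?_⟩
    rw [← e1, ← e2]
    show c * s * r * (c * s)⁻¹ = c * (s * r * s⁻¹) * c⁻¹
    group
  obtain ⟨c, hc, r, hr, e1⟩ := split ⟨p, hpL⟩ (by rw [pow_three, p3]) (fun e1 => by
    exact h.ln_ne i (conj_eq_one_iff.1 (show g * ln e v i * g⁻¹ = 1 from e1)))
  obtain ⟨d, hd, r', hr', e2⟩ := split ⟨p * q, mul_mem hpL hqL⟩ (by rw [pow_three, pq3]) (fun e2 => by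
    refine h.ln_ne k ?_
    rw [← hw, show (p * q : Y) = 1 from e2]; group)
  have hrr : r * ⟨q, hqL⟩ = r' := by
    refine mul_inv_eq_one.1 (hdisj _ ?_ (mul_mem (mul_mem hr (hR (mem_zpowers _))) (inv_mem hr')))
    rw [← QuotientGroup.eq_one_iff]
    have hc' : ((c : L) : L ⧸ N') = 1 := (QuotientGroup.eq_one_iff _).2 hc
    have hd' : ((d : L) : L ⧸ N') = 1 := (QuotientGroup.eq_one_iff _).2 hd
    have er : ((r : L) : L ⧸ N') = ((⟨p, hpL⟩ : L) : L ⧸ N') := by rw [e1]; simp [hc']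
    have er' : ((r' : L) : L ⧸ N') = ((⟨p * q, mul_mem hpL hqL⟩ : L) : L ⧸ N') := by rw [e2]; simp [hd']
    rw [QuotientGroup.mk_mul, QuotientGroup.mk_mul, QuotientGroup.mk_inv, er, er', ← QuotientGroup.mk_mul,
      ← QuotientGroup.mk_inv, ← QuotientGroup.mk_mul]
    exact (QuotientGroup.eq_one_iff _).2 (by
      rw [show (⟨p, hpL⟩ : L) * ⟨q, hqL⟩ = ⟨p * q, mul_mem hpL hqL⟩ from rfl, mul_inv_cancel]
      exact one_mem _)
  have e1' : p = (c : Y) * r * (c : Y)⁻¹ := congrArg Subtype.val e1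
  have e2' : p * q = (d : Y) * r' * (d : Y)⁻¹ := congrArg Subtype.val e2
  refine ⟨r, hRE r hr, r', hRE r' hr', ?_, ?_, congrArg Subtype.val hrr, fun hne => ?_⟩
  · exact (isConj_iff.2 ⟨g, rfl⟩ : IsConj (ln e v i) p).trans (isConj_iff.2 ⟨c, e1'.symm⟩ : IsConj (r : Y) p).symm
  · exact (hg.symm).trans (isConj_iff.2 ⟨d, e2'.symm⟩ : IsConj (r' : Y) (p * q)).symm
  · refine ⟨c, h.le_cent hNt3 ?_ hc, e1'⟩
    have hlt : zpowers q < (R : Subgroup L).map L.subtype := by
      refine lt_of_le_of_ne (zpowers_le.2 ⟨⟨q, hqL⟩, hR (mem_zpowers _), rfl⟩) fun e3 => hne ?_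
      rw [e3]; exact ⟨r, hr, rfl⟩
    have hEeq : (R : Subgroup L).map L.subtype = E := by
      refine eq_of_le_of_card_ge (by rintro _ ⟨x, hx, rfl⟩; exact hRE x hx) ?_
      rw [h.card]
      have h1 := card_dvd_of_le (show (R : Subgroup L).map L.subtype ≤ E by
        rintro _ ⟨x, hx, rfl⟩; exact hRE x hx)
      rw [h.card, show (9 : ℕ) = 3 ^ 2 from rfl] at h1
      obtain ⟨n, hn, e4⟩ := (Nat.dvd_prime_pow Nat.prime_three).1 h1
      rw [e4]
      by_contra hlt9
      have h3 : Nat.card ((R : Subgroup L).map L.subtype) ≤ 3 := by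
        rw [e4]; interval_cases n <;> omega
      refine hlt.ne (eq_of_le_of_card_ge hlt.le ?_)
      rw [Nat.card_zpowers, orderOf_eq_prime (by rw [pow_three, q3]) (h.ln_ne j)]
      exact h3
    rw [← hEeq]
    rintro _ ⟨x, -, rfl⟩
    exact mem_normalizer_fintype fun y hy => hNtn x x.2 y hy

end Lone

/-- The arithmetic of the three columns. -/
theorem index_arith {ι : Type u} [Fintype ι] (o : ι) (a : Fin 3 → ι → ℤ) (d : ι → ℤ) (hd : ∀ x, 0 < d x)
    (hdo : d o = 1) (hao : ∀ i, a i o = 1) (gram : ∀ i j, ∑ x, a i x * a j x = if i = j then 9 else 0)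
    (orth : ∀ i, ∑ x, a i x * d x = 0) (cong : ∀ i x, (3 : ℤ) ∣ d x - a i x)
    (h112 : ∑ x, (a 0 x : ℚ) * a 0 x * a 1 x / d x = 0)
    {c n : ℕ} (hc : 0 < c) (hn : 0 < n)
    (h123 : ∑ x, (a 0 x : ℚ) * a 1 x * a 2 x / d x = 9 * c / n) : n = 2 * c := by
  classical
  choose A hA using cong
  let B0 : ι → ℤ := fun x => d x - A 0 x - A 1 x - A 2 x
  let B1 : ι → ℤ := fun x => A 1 x - A 0 x
  let B2 : ι → ℤ := fun x => A 2 x - A 1 x
  have b0 : ∀ x, a 0 x + a 1 x + a 2 x = 3 * B0 x := fun x => by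
    have := hA 0 x; have := hA 1 x; have := hA 2 x; simp only [B0]; linarith
  have b1 : ∀ x, a 0 x - a 1 x = 3 * B1 x := fun x => by
    have := hA 0 x; have := hA 1 x; simp only [B1]; linarith
  have b2 : ∀ x, a 1 x - a 2 x = 3 * B2 x := fun x => by
    have := hA 1 x; have := hA 2 x; simp only [B2]; linarith
  have g : ∀ i j, ∑ x, a i x * a j x = if i = j then 9 else 0 := gram
  have e11 : ∑ x, B1 x * B1 x = 2 := by
    have : 9 * ∑ x, B1 x * B1 x =
        ∑ x, a 0 x * a 0 x + ∑ x, a 1 x * a 1 x - 2 * ∑ x, a 0 x * a 1 x := by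
      simp only [Finset.mul_sum, ← Finset.sum_add_distrib, ← Finset.sum_sub_distrib]
      exact Finset.sum_congr rfl fun x _ => by linear_combination (-(a 0 x - a 1 x) - 3 * B1 x) * b1 x
    rw [g, g, g, if_pos rfl, if_pos rfl, if_neg (by decide)] at this
    linarith
  have e22 : ∑ x, B2 x * B2 x = 2 := by
    have : 9 * ∑ x, B2 x * B2 x =
        ∑ x, a 1 x * a 1 x + ∑ x, a 2 x * a 2 x - 2 * ∑ x, a 1 x * a 2 x := by
      simp only [Finset.mul_sum, ← Finset.sum_add_distrib, ← Finset.sum_sub_distrib]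
      exact Finset.sum_congr rfl fun x _ => by linear_combination (-(a 1 x - a 2 x) - 3 * B2 x) * b2 x
    rw [g, g, g, if_pos rfl, if_pos rfl, if_neg (by decide)] at this
    linarith
  have e12 : ∑ x, B1 x * B2 x = -1 := by
    have : 9 * ∑ x, B1 x * B2 x =
        ∑ x, a 0 x * a 1 x - ∑ x, a 0 x * a 2 x - ∑ x, a 1 x * a 1 x + ∑ x, a 1 x * a 2 x := by
      simp only [Finset.mul_sum, ← Finset.sum_add_distrib, ← Finset.sum_sub_distrib]
      exact Finset.sum_congr rfl fun x _ => by linear_combination -(3 * B2 x) * b1 x - (a 0 x - a 1 x) * b2 x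
    rw [g, g, g, g, if_pos rfl, if_neg (by decide), if_neg (by decide), if_neg (by decide)] at this
    linarith
  have e00 : ∑ x, B0 x * B0 x = 3 := by
    have : 9 * ∑ x, B0 x * B0 x =
        ∑ x, a 0 x * a 0 x + ∑ x, a 1 x * a 1 x + ∑ x, a 2 x * a 2 x +
          2 * ∑ x, a 0 x * a 1 x + 2 * ∑ x, a 0 x * a 2 x + 2 * ∑ x, a 1 x * a 2 x := by
      simp only [Finset.mul_sum, ← Finset.sum_add_distrib]
      exact Finset.sum_congr rfl fun x _ => by
        linear_combination (-(a 0 x + a 1 x + a 2 x) - 3 * B0 x) * b0 x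
    rw [g, g, g, g, g, g, if_pos rfl, if_pos rfl, if_pos rfl, if_neg (by decide), if_neg (by decide),
      if_neg (by decide)] at this
    linarith
  have e01 : ∑ x, B0 x * B1 x = 0 := by
    have : 9 * ∑ x, B0 x * B1 x =
        ∑ x, a 0 x * a 0 x - ∑ x, a 1 x * a 1 x + ∑ x, a 0 x * a 2 x - ∑ x, a 1 x * a 2 x := by
      simp only [Finset.mul_sum, ← Finset.sum_add_distrib, ← Finset.sum_sub_distrib]
      exact Finset.sum_congr rfl fun x _ => by
        linear_combination -(3 * B1 x) * b0 x - (a 0 x + a 1 x + a 2 x) * b1 x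
    rw [g, g, g, g, if_pos rfl, if_pos rfl, if_neg (by decide), if_neg (by decide)] at this
    linarith
  have e02 : ∑ x, B0 x * B2 x = 0 := by
    have : 9 * ∑ x, B0 x * B2 x =
        ∑ x, a 1 x * a 1 x - ∑ x, a 2 x * a 2 x + ∑ x, a 0 x * a 1 x - ∑ x, a 0 x * a 2 x := by
      simp only [Finset.mul_sum, ← Finset.sum_add_distrib, ← Finset.sum_sub_distrib]
      exact Finset.sum_congr rfl fun x _ => by
        linear_combination -(3 * B2 x) * b0 x - (a 0 x + a 1 x + a 2 x) * b2 x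
    rw [g, g, g, g, if_pos rfl, if_pos rfl, if_neg (by decide), if_neg (by decide)] at this
    linarith
  have d1 : ∑ x, B1 x * d x = 0 := by
    have : 3 * ∑ x, B1 x * d x = ∑ x, a 0 x * d x - ∑ x, a 1 x * d x := by
      simp only [Finset.mul_sum, ← Finset.sum_sub_distrib]
      exact Finset.sum_congr rfl fun x _ => by linear_combination -(d x) * b1 x
    rw [orth, orth] at this; linarith
  have d2 : ∑ x, B2 x * d x = 0 := by
    have : 3 * ∑ x, B2 x * d x = ∑ x, a 1 x * d x - ∑ x, a 2 x * d x := by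
      simp only [Finset.mul_sum, ← Finset.sum_sub_distrib]
      exact Finset.sum_congr rfl fun x _ => by linear_combination -(d x) * b2 x
    rw [orth, orth] at this; linarith
  have d0 : ∑ x, B0 x * d x = 0 := by
    have : 3 * ∑ x, B0 x * d x = ∑ x, a 0 x * d x + ∑ x, a 1 x * d x + ∑ x, a 2 x * d x := by
      simp only [Finset.mul_sum, ← Finset.sum_add_distrib]
      exact Finset.sum_congr rfl fun x _ => by linear_combination -(d x) * b0 x
    rw [orth, orth, orth] at this; linarith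
  have bo : B0 o = 1 ∧ B1 o = 0 ∧ B2 o = 0 := by
    have := b0 o; have := b1 o; have := b2 o; have := hao 0; have := hao 1; have := hao 2; omega
  obtain ⟨p, q, hpq, hp, hq, dpq, hoff1⟩ := ThreeTINine.two_norm B1 d hd e11 d1
  obtain ⟨r, s, hrs, hr, hs, drs, hoff2⟩ := ThreeTINine.two_norm B2 d hd e22 d2
  have pair : ∀ f : ι → ℤ, ∑ x, B1 x * f x = f p - f q := fun f => by
    rw [← Finset.sum_subset (Finset.subset_univ ({p, q} : Finset ι)) fun x _ hx => by
      simp only [Finset.mem_insert, Finset.mem_singleton, not_or] at hx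
      rw [hoff1 x hx.1 hx.2, zero_mul], Finset.sum_pair hpq, hp, hq]
    ring
  -- coherence
  obtain ⟨η, x1, x2, x3, hη, n12, n23, n13, v1, v2, dz1, dz2⟩ :
      ∃ (η : ℤ) (x1 x2 x3 : ι), (η = 1 ∨ η = -1) ∧ x1 ≠ x2 ∧ x2 ≠ x3 ∧ x1 ≠ x3 ∧
        (B1 x1 = η ∧ B1 x2 = -η ∧ ∀ x, x ≠ x1 → x ≠ x2 → B1 x = 0) ∧
        (B2 x2 = η ∧ B2 x3 = -η ∧ ∀ x, x ≠ x2 → x ≠ x3 → B2 x = 0) ∧ d x1 = d x2 ∧ d x3 = d x2 := by
    have hb : B2 p - B2 q = -1 := (pair B2).symm.trans e12
    have vals : ∀ x, (B2 x = 1 ∧ x = r) ∨ (B2 x = -1 ∧ x = s) ∨ (B2 x = 0 ∧ x ≠ r ∧ x ≠ s) := fun x => by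
      by_cases h1 : x = r
      · exact Or.inl ⟨h1 ▸ hr, h1⟩
      by_cases h2 : x = s
      · exact Or.inr (Or.inl ⟨h2 ▸ hs, h2⟩)
      exact Or.inr (Or.inr ⟨hoff2 x h1 h2, h1, h2⟩)
    rcases vals p with ⟨vp, hpr⟩ | ⟨vp, hps⟩ | ⟨vp, hpr, hps⟩ <;>
      rcases vals q with ⟨vq, hqr⟩ | ⟨vq, hqs⟩ | ⟨vq, hqr, hqs⟩ <;> try omega
    · -- `p = s`
      subst hps
      exact ⟨-1, q, p, r, Or.inr rfl, hpq.symm, hrs.symm, hqr, ⟨hq, by simpa using hp, fun x h1 h2 => hoff1 x h2 h1⟩,
        ⟨hs, by simpa using hr, fun x h1 h2 => hoff2 x h2 h1⟩, dpq.symm, drs⟩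
    · subst hqr
      exact ⟨1, p, q, s, Or.inl rfl, hpq, hrs, hps, ⟨hp, hq, hoff1⟩, ⟨hr, hs, hoff2⟩, dpq, drs.symm⟩
  obtain ⟨v11, v12, o1⟩ := v1
  obtain ⟨v22, v23, o2⟩ := v2
  have ox : o ≠ x1 ∧ o ≠ x2 ∧ o ≠ x3 := by
    refine ⟨?_, ?_, ?_⟩ <;> rintro rfl <;> omega
  have two : ∀ (B : ι → ℤ) (y z : ι), y ≠ z → B y = η → B z = -η →
      (∀ x, x ≠ y → x ≠ z → B x = 0) → ∀ f : ι → ℤ, ∑ x, f x * B x = η * (f y - f z) := by
    intro B y z hyz hy hz hoff f
    rw [← Finset.sum_subset (Finset.subset_univ ({y, z} : Finset ι)) fun x _ hx => by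
      simp only [Finset.mem_insert, Finset.mem_singleton, not_or] at hx
      rw [hoff x hx.1 hx.2, mul_zero], Finset.sum_pair hyz, hy, hz]
    ring
  have q12 : B0 x1 = B0 x2 := by
    have := (two B1 x1 x2 n12 v11 v12 o1 B0).symm.trans e01
    rcases hη with e | e <;> rw [e] at this <;> linarith
  have q23 : B0 x2 = B0 x3 := by
    have := (two B2 x2 x3 n23 v22 v23 o2 B0).symm.trans e02
    rcases hη with e | e <;> rw [e] at this <;> linarith
  have z1 : B0 x1 = 0 := by
    by_contra hne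
    have h4 : ∑ x ∈ ({o, x1, x2, x3} : Finset ι), B0 x * B0 x ≤ 3 := by
      rw [← e00]
      exact Finset.sum_le_sum_of_subset_of_nonneg (Finset.subset_univ _) fun x _ _ => mul_self_nonneg _
    rw [Finset.sum_insert (by simp [ox]), Finset.sum_insert (by simp [n12, n13]), Finset.sum_pair n23,
      ← q23, ← q12, bo.1] at h4
    have : 0 < B0 x1 * B0 x1 := mul_self_pos.2 hne
    omega
  let f : ι → ℤ := Function.update B0 o 0
  have hfo : f o = 0 := Function.update_self _ _ _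
  have hf : ∀ x, x ≠ o → f x = B0 x := fun x hx => Function.update_of_ne hx _ _
  have f2 : ∑ x, f x * f x = 2 := by
    rw [← Finset.add_sum_erase _ _ (Finset.mem_univ o), hfo]
    rw [← Finset.add_sum_erase _ _ (Finset.mem_univ o), bo.1] at e00
    rw [Finset.sum_congr rfl fun x hx => by rw [hf x (Finset.ne_of_mem_erase hx)]]
    linarith
  have fd : ∑ x, f x * d x = -1 := by
    rw [← Finset.add_sum_erase _ _ (Finset.mem_univ o), hfo]
    rw [← Finset.add_sum_erase _ _ (Finset.mem_univ o), bo.1, hdo] at d0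
    rw [Finset.sum_congr rfl fun x hx => by rw [hf x (Finset.ne_of_mem_erase hx)]]
    linarith
  obtain ⟨X, W, hXW, hX, hW, hXo, hWo, hoff0, hdeg⟩ : ∃ X W, X ≠ W ∧ B0 X = 1 ∧ B0 W = -1 ∧
      X ≠ o ∧ W ≠ o ∧ (∀ x, x ≠ o → x ≠ X → x ≠ W → B0 x = 0) ∧ d W = d X + 1 := by
    set S := Finset.univ.filter fun x => f x ≠ 0
    have hS : ∑ x ∈ S, f x * f x = 2 := by
      rw [← f2]; exact Finset.sum_filter_of_ne fun x _ hx e => hx (by simp [e])
    have h1 : ∀ x ∈ S, f x = 1 ∨ f x = -1 := fun x hx => by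
      have hle : f x * f x ≤ 2 := hS ▸ Finset.single_le_sum (f := fun x => f x * f x)
        (fun y _ => mul_self_nonneg _) hx
      have hne := (Finset.mem_filter.1 hx).2
      have : -1 ≤ f x ∧ f x ≤ 1 := ⟨by nlinarith, by nlinarith⟩
      omega
    have hc2 : S.card = 2 := by
      have : ∑ x ∈ S, f x * f x = ∑ x ∈ S, (1 : ℤ) := Finset.sum_congr rfl fun x hx => by
        rcases h1 x hx with e | e <;> simp [e]
      rw [this, Finset.sum_const, nsmul_eq_mul, mul_one] at hS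
      exact_mod_cast hS
    obtain ⟨X, W, hXW, hSe⟩ := Finset.card_eq_two.1 hc2
    have hoff : ∀ x, x ≠ X → x ≠ W → f x = 0 := fun x hp hq => by
      by_contra hne
      have : x ∈ S := Finset.mem_filter.2 ⟨Finset.mem_univ _, hne⟩
      rw [hSe] at this
      simp [hp, hq] at this
    have hsum : f X * d X + f W * d W = -1 := by
      rw [← fd, ← Finset.sum_subset (Finset.subset_univ ({X, W} : Finset ι)), Finset.sum_pair hXW]
      intro x _ hx
      simp only [Finset.mem_insert, Finset.mem_singleton, not_or] at hx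
      simp [hoff x hx.1 hx.2]
    have hno : ∀ x ∈ S, x ≠ o := fun x hx e => (Finset.mem_filter.1 hx).2 (e ▸ hfo)
    have hXo := hno X (by simp [hSe])
    have hWo := hno W (by simp [hSe])
    have := hd X
    have := hd W
    rcases h1 X (by simp [hSe]) with ep | ep <;> rcases h1 W (by simp [hSe]) with eq | eq <;>
      rw [ep, eq] at hsum <;> rw [hf X hXo] at ep <;> rw [hf W hWo] at eq
    · omega
    · exact ⟨X, W, hXW, ep, eq, hXo, hWo, fun x h0 h1 h2 => hf x h0 ▸ hoff x h1 h2, by omega⟩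
    · exact ⟨W, X, hXW.symm, eq, ep, hWo, hXo, fun x h0 h1 h2 => hf x h0 ▸ hoff x h2 h1, by omega⟩
    · omega
  have nx : X ≠ x1 ∧ X ≠ x2 ∧ X ≠ x3 ∧ W ≠ x1 ∧ W ≠ x2 ∧ W ≠ x3 := by
    refine ⟨?_, ?_, ?_, ?_, ?_, ?_⟩ <;> intro e <;> subst e <;> omega
  have a0 : ∀ x, a 0 x = B0 x + 2 * B1 x + B2 x := fun x => by
    have := b0 x; have := b1 x; have := b2 x; omega
  have a1 : ∀ x, a 1 x = B0 x - B1 x + B2 x := fun x => by
    have := b0 x; have := b1 x; have := b2 x; omega
  have a2 : ∀ x, a 2 x = B0 x - B1 x - 2 * B2 x := fun x => by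
    have := b0 x; have := b1 x; have := b2 x; omega
  have off : ∀ x, x ∉ ({o, X, W, x1, x2, x3} : Finset ι) → a 0 x = 0 ∧ a 1 x = 0 ∧ a 2 x = 0 := by
    intro x hx
    simp only [Finset.mem_insert, Finset.mem_singleton, not_or] at hx
    obtain ⟨h0, hX', hW', h1, h2, h3⟩ := hx
    rw [a0, a1, a2, hoff0 x h0 hX' hW', o1 x h1 h2, o2 x h2 h3]
    simp
  have expand : ∀ i j k : Fin 3, ∑ x, (a i x : ℚ) * a j x * a k x / d x =
      (a i o : ℚ) * a j o * a k o / d o + ((a i X : ℚ) * a j X * a k X / d X +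
        ((a i W : ℚ) * a j W * a k W / d W + ((a i x1 : ℚ) * a j x1 * a k x1 / d x1 +
          ((a i x2 : ℚ) * a j x2 * a k x2 / d x2 + (a i x3 : ℚ) * a j x3 * a k x3 / d x3)))) := by
    intro i j k
    rw [← Finset.sum_subset (Finset.subset_univ ({o, X, W, x1, x2, x3} : Finset ι)) fun x _ hx => by
      obtain ⟨h0, h1, h2⟩ := off x hx
      fin_cases i <;> simp [h0, h1, h2],
      Finset.sum_insert (by simp [hXo.symm, hWo.symm, ox]), Finset.sum_insert (by simp [hXW, nx]),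
      Finset.sum_insert (by simp [nx]), Finset.sum_insert (by simp [n12, n13]), Finset.sum_pair n23]
  have c2x : B0 x2 = 0 := by omega
  have c3x : B0 x3 = 0 := by omega
  have u1 := o2 x1 n12 n13
  have u3 := o1 x3 n13.symm n23.symm
  have wX := And.intro (o1 X nx.1 nx.2.1) (o2 X nx.2.1 nx.2.2.1)
  have wW := And.intro (o1 W nx.2.2.2.1 nx.2.2.2.2.1) (o2 W nx.2.2.2.2.1 nx.2.2.2.2.2)
  rw [expand, dz1, dz2] at h112 h123
  simp only [a0, a1, a2, bo, hX, hW, wX.1, wX.2, wW.1, wW.2, z1, c2x, c3x, v11, v12, v22, v23, u1, u3,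
    hdo, hdeg] at h112 h123
  have hη3 : (η : ℚ) * η * η = η := by rcases hη with e | e <;> simp [e]
  have dX : (0 : ℚ) < d X := Int.cast_pos.2 (hd X)
  have dZ : (0 : ℚ) < d x2 := Int.cast_pos.2 (hd x2)
  push_cast at h112 h123
  set x : ℚ := (d X : ℚ) with hxdef
  set z : ℚ := (d x2 : ℚ) with hzdef
  have E1 : 1 + 1 / x - 1 / (x + 1) = 3 * η / z := by
    have : 1 + 1 / x - 1 / (x + 1) - 3 * (η * η * η : ℚ) / z = 0 := by
      rw [← h112]; ring
    rw [hη3] at this; linarith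
  have E2 : 9 * (η : ℚ) / z = 9 * c / n := by
    have : 1 + 1 / x - 1 / (x + 1) + 6 * (η * η * η : ℚ) / z = 9 * c / n := by
      rw [← h123]; ring
    rw [hη3, E1] at this; rw [← this]; ring
  have hη1 : η = 1 := by
    rcases hη with e | e
    · exact e
    · exfalso
      have h1 : (0 : ℚ) < 9 * c / n := by positivity
      rw [← E2, e] at h1
      push_cast at h1
      have : 9 * (-1 : ℚ) / z ≤ 0 := div_nonpos_of_nonpos_of_nonneg (by norm_num) dZ.le
      linarith
  subst hη1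
  push_cast at E1 E2
  have hxn : (0 : ℚ) < x + 1 := by linarith
  have E1' : z * (x * x + x + 1) = 3 * x * (x + 1) := by
    field_simp at E1
    linear_combination E1
  have key : d x2 * (d X * d X + d X + 1) = 3 * d X * (d X + 1) := by
    rw [hxdef, hzdef] at E1'
    exact_mod_cast E1'
  have hz2 : d x2 = 2 := by
    have h1 := hd X
    have h2 := hd x2
    have hp : 0 < d X * d X + d X + 1 := add_pos (add_pos (mul_pos h1 h1) h1) one_pos
    have hlt : d x2 < 3 := by
      by_contra hge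
      push Not at hge
      have := mul_le_mul_of_nonneg_right hge hp.le
      rw [key] at this
      linarith
    rcases (show d x2 = 1 ∨ d x2 = 2 by omega) with e | e
    · rw [e] at key
      have : 1 ≤ d X * d X := mul_pos h1 h1
      linarith
    · exact e
  have hn0 : (n : ℚ) ≠ 0 := Nat.cast_ne_zero.2 hn.ne'
  rw [hzdef, hz2] at E2
  field_simp at E2
  push_cast at E2
  have : (n : ℚ) = 2 * c := by linarith
  exact_mod_cast this

namespace Lone

variable {E : Subgroup Y} {e v t : Y} (h : Lone E e v t)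

include h

/-- The centraliser of `e` has index two. -/
theorem card_eq [Finite Y] : Nat.card Y = 2 * Nat.card (centralizer ({e} : Set Y)) := by
  classical
  haveI := Fintype.ofFinite Y
  have hv6 : ∀ i, ln e v i ^ 6 = 1 := fun i => by
    rw [show (6 : ℕ) = 3 * 2 from rfl, pow_mul, h.cube _ (h.ln_mem i), one_pow]
  have hval : ∀ (χ : IrrCharacter Y) (i : Fin 3), ∃ dd z : ℤ, (χ : Y → ℂ) 1 = dd ∧
      (χ : Y → ℂ) (ln e v i) = z ∧ (3 : ℤ) ∣ dd - z := fun χ i => by
    obtain ⟨dd, -, aa, -, h1, -, h4, -, hdvd, -, -⟩ :=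
      ThreeKlein.six_values (Char.IsIrr.isCharacter χ.2) (hv6 i) (h.real (h.ln_mem i))
    rw [show ln e v i ^ 4 = ln e v i by rw [pow_succ, h.cube _ (h.ln_mem i), one_mul]] at h4
    exact ⟨dd, aa, h1, h4, hdvd⟩
  choose dd a hd1 ha hdvd using hval
  choose n hn0 hn using fun χ : IrrCharacter Y => Char.IsIrr.degree χ.2
  set d : IrrCharacter Y → ℤ := fun χ => n χ with hd
  have hdv : ∀ χ : IrrCharacter Y, (χ : Y → ℂ) 1 = d χ := fun χ => by simp [hd, hn χ]
  have hdd : ∀ χ i, dd χ i = d χ := fun χ i => by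
    exact_mod_cast (hd1 χ i).symm.trans (hdv χ)
  let o : IrrCharacter Y := ⟨fun _ => 1, Char.isIrrCharacter_one⟩
  have hone : ∀ {z : ℤ} (g : Y), (o : Y → ℂ) g = z → z = 1 := fun {z} g e1 => by
    exact_mod_cast (show (z : ℂ) = 1 from e1.symm)
  have h9 : ∀ i, Nat.card (centralizer ({ln e v i} : Set Y)) = 9 := fun i => by rw [h.ln_cent, h.card]
  have gram : ∀ i j, ∑ χ : IrrCharacter Y, a χ i * a χ j = if i = j then 9 else 0 := fun i j => by
    have := ThreeTINine.sum_mul_conj (ln e v i) (ln e v j)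
    simp only [ha, map_intCast, h9] at this
    by_cases hij : i = j
    · rw [if_pos hij]
      rw [if_pos (by rw [hij])] at this
      exact_mod_cast this
    · rw [if_neg hij]
      rw [if_neg (h.not_isConj i j hij)] at this
      exact_mod_cast this
  have orth : ∀ i, ∑ χ : IrrCharacter Y, a χ i * d χ = 0 := fun i => by
    have := ThreeTINine.sum_mul_conj (ln e v i) 1
    rw [if_neg fun e1 => h.ln_ne i (isConj_one_left.1 e1)] at this
    simp only [ha, hdv, map_intCast] at this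
    exact_mod_cast this
  have triple : ∀ i j k : Fin 3, ∑ χ : IrrCharacter Y, (a χ i : ℚ) * a χ j * a χ k / d χ =
      9 * ((Finset.univ.filter fun g : Y =>
        IsConj (g * ln e v i * g⁻¹ * ln e v j) (ln e v k)).card : ℚ) / Nat.card Y := by
    intro i j k
    apply Rat.cast_injective (α := ℂ)
    push_cast
    have hG : (Nat.card Y : ℂ) ≠ 0 := Char.card_ne_zero
    have e1 : ∀ χ : IrrCharacter Y, (a χ i : ℂ) * a χ j * a χ k / d χ =
        (Nat.card Y : ℂ)⁻¹ * ∑ g, (χ : Y → ℂ) (g * ln e v i * g⁻¹ * ln e v j) *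
          conj ((χ : Y → ℂ) (ln e v k)) := fun χ => by
      have h1 := Char.IsIrr.one_ne_zero χ.2
      have h2 := CharArith.classMult χ.2 (ln e v i) (ln e v j)
      rw [← Finset.sum_mul]
      rw [hdv] at h1 h2
      simp only [ha, map_intCast] at h2 ⊢
      field_simp
      linear_combination (-(a χ k : ℂ)) * h2
    rw [Finset.sum_congr rfl fun χ _ => e1 χ, ← Finset.mul_sum, Finset.sum_comm]
    simp only [ThreeTINine.sum_mul_conj]
    simp only [Finset.sum_ite, Finset.sum_const_zero, add_zero, Finset.sum_const, nsmul_eq_mul, h9]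
    field_simp
    push_cast
    ring
  have hE0 : (Finset.univ.filter fun g : Y =>
      IsConj (g * ln e v 0 * g⁻¹ * ln e v 0) (ln e v 1)) = ∅ := by
    refine Finset.filter_eq_empty_iff.2 fun g _ hg => ?_
    obtain ⟨p0, hp0, r0, hr0, hc1, hc2, hprod, -⟩ := h.triangle 0 0 1 hg
    rcases h.conj_eq hp0 hc1 with e0 | e0 <;> rw [e0] at hprod
    · rw [show ln e v 0 * ln e v 0 = (ln e v 0)⁻¹ from eq_inv_of_mul_eq_one_left
        (by rw [mul_assoc, ← pow_three, h.cube _ (h.ln_mem 0)])] at hprod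
      rcases h.conj_eq hr0 hc2 with e1 | e1 <;> rw [← hprod] at e1
      · exact (h.ln_sep 1 0 (by decide)).2 e1.symm
      · exact (h.ln_sep 1 0 (by decide)).1 (inv_inj.1 e1).symm
    · rw [inv_mul_cancel] at hprod
      rcases h.conj_eq hr0 hc2 with e1 | e1 <;> rw [← hprod] at e1
      · exact h.ln_ne 1 e1.symm
      · exact h.ln_ne 1 (inv_eq_one.1 e1.symm)
  have hT : (Finset.univ.filter fun g : Y =>
      IsConj (g * ln e v 0 * g⁻¹ * ln e v 1) (ln e v 2)) =
      Finset.univ.filter fun g : Y => g ∈ centralizer ({e} : Set Y) := by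
    obtain ⟨K, hK3, hKC, hKn, hKE⟩ := h.exists_complement
    have hEC : ∀ x ∈ E, x ∈ centralizer ({e} : Set Y) := fun x hx =>
      mem_centralizer_singleton_iff.2 (h.comm x hx e h.e_mem)
    have hce : Commute v e := h.comm v h.v_mem e h.e_mem
    have hv2 : v * v = v⁻¹ :=
      eq_inv_of_mul_eq_one_left (by rw [mul_assoc, ← pow_three, h.cube v h.v_mem])
    have hprod : ln e v 0 * ln e v 1 = (ln e v 2)⁻¹ := by
      show v * (v * e) = (v * e⁻¹)⁻¹
      rw [← mul_assoc, hv2, mul_inv_rev, inv_inv, hce.inv_left.eq]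
    ext g
    simp only [Finset.mem_filter, Finset.mem_univ, true_and]
    refine ⟨fun hg => ?_, fun hg => ?_⟩
    · obtain ⟨p0, hp0, r0, hr0, hc1, hc2, hpr, hgen⟩ := h.triangle 0 1 2 hg
      have hne : p0 ∉ zpowers (ln e v 1) := fun hm => by
        obtain ⟨g1, hg1⟩ := isConj_iff.1 hc1
        rcases zpowers_three_cases (h.cube _ (h.ln_mem 1)) hm with e1 | e1 | e1 <;> rw [e1] at hg1
        · exact h.ln_ne 0 (conj_eq_one_iff.1 hg1)
        · exact h.not_isConj 0 1 (by decide) (isConj_iff.2 ⟨g1, hg1⟩)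
        · exact h.not_isConj 0 1 (by decide)
            ((isConj_iff.2 ⟨g1, hg1⟩).trans (h.real (h.ln_mem 1)).symm)
      obtain ⟨a', ha', e1⟩ := hgen hne
      have hp : p0 = ln e v 0 := by
        rcases h.conj_eq hp0 hc1 with e2 | e2
        · exact e2
        · exfalso
          refine h.conj_not hr0 hc2 ?_
          rw [← hpr, e2, show (ln e v 0)⁻¹ * ln e v 1 = e from inv_mul_cancel_left v e]
          exact mem_zpowers e
      rw [hp] at e1
      have hc : a'⁻¹ * g ∈ centralizer ({ln e v 0} : Set Y) := by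
        rw [mem_centralizer_singleton_iff]
        calc a'⁻¹ * g * ln e v 0 = a'⁻¹ * (g * ln e v 0 * g⁻¹) * g := by group
          _ = ln e v 0 * (a'⁻¹ * g) := by rw [e1]; group
      rw [h.ln_cent] at hc
      have := mul_mem ha' (hEC _ hc)
      rwa [mul_inv_cancel_left] at this
    · obtain ⟨k, hk, s, hs, rfl⟩ := hKE g hg
      have e1 : k * s * ln e v 0 * (k * s)⁻¹ * ln e v 1 =
          k * (ln e v 0 * k⁻¹ * (ln e v 0)⁻¹) * (ln e v 2)⁻¹ := by
        rw [← hprod, show k * s * ln e v 0 * (k * s)⁻¹ = k * (s * ln e v 0 * s⁻¹) * k⁻¹ by group,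
          h.comm s hs _ (h.ln_mem 0), mul_inv_cancel_right]
        group
      rw [e1]
      refine (h.conj_of_coset hK3 (inv_mem (h.ln_mem 2))
        (fun e2 => h.ln_not 2 (by simpa using inv_mem e2)) (fun x hx => ?_) ?_).trans
        (h.real (h.ln_mem 2)).symm
      · exact hKn _ (hEC _ (inv_mem (h.ln_mem 2))) x hx
      · exact mul_mem hk (hKn _ (hEC _ (h.ln_mem 0)) _ (inv_mem hk))
  refine index_arith o (fun i χ => a χ i) d (fun χ => Int.natCast_pos.2 (hn0 χ)) (hone 1 (hdv o))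
    (fun i => hone _ (ha o i)) gram orth (fun i χ => hdd χ i ▸ hdvd χ i) ?_
    (c := Nat.card (centralizer ({e} : Set Y))) Nat.card_pos Nat.card_pos ?_
  · rw [triple, hE0]; simp
  · rw [triple, hT]
    congr 2
    rw [← Fintype.card_subtype, ← Nat.card_eq_fintype_card]

end Lone

end Cfsg.Agent.A9ThreeLocal
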