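import Cfsg.Agent.A9ThreeLocal.CentA
import Cfsg.Agent.A9ThreeLocal.Exceptional

/-!
The centraliser of an element of the second kind has order fifty-four, and the centraliser of two
lines is the elementary subgroup.
-/

set_option autoImplicit false
set_option synthInstance.maxSize 4000
set_option synthInstance.maxHeartbeats 400000

namespace Cfsg.Agent.A9ThreeLocal

open Subgroup ThreeFullWreath

universe u

/-- An involution centralising the element of the second kind. -/
theorem exists_tu : ∃ t : M, t * uM = uM * t ∧ ∀ m : M, m.right = 1 →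
    t * m * t⁻¹ * m = 1 ∨ t * m * t⁻¹ * m = uM ∨ t * m * t⁻¹ * m = uM⁻¹ := by
  decide +kernel

theorem cent_u_M : ∀ t : M, t * uM = uM * t → (∀ m : M, m.right = 1 →
    t * m * t⁻¹ * m = 1 ∨ t * m * t⁻¹ * m = uM ∨ t * m * t⁻¹ * m = uM⁻¹) →
    ∀ m : M, m * uM = uM * m → m.right = 1 ∨ (m * t).right = 1 := by
  decide +kernel

theorem cent_u_count : (Finset.univ.filter fun m : M => m * uM = uM * m).card = 54 := by decide +kernel

theorem uM_facts : uM ^ 3 = 1 ∧ uM ≠ 1 ∧ uM.right = 1 ∧ e1M ^ 3 = 1 ∧ e1M.right = 1 ∧ e3M.right = 1 ∧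
    cls aM ≠ cls uM ∧ cls aM ≠ cls uM⁻¹ := by decide +kernel

/-- Elements of the translations generated by the first line and `uM`. -/
def InUE (m : M) : Prop := ∃ i j : Fin 3, m = uM ^ (i : ℕ) * e1M ^ (j : ℕ)

instance : DecidablePred InUE := fun m => by unfold InUE; infer_instance

theorem coset_u : ∀ x y z : ZMod 3, ¬ InUE (el x y z) →
    (cls (el x y z) ≠ cls (el x y z * uM) ∨ cls (el x y z) ≠ cls (el x y z * uM⁻¹)) ∧
      ∃ i j : Fin 3, cls (uM ^ (i : ℕ) * el x y z ^ (j : ℕ)) = 8 := by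
  decide +kernel

theorem cls_aM : cls aM = 8 ∧ cls e1M ≠ cls (e1M * uM) := by decide +kernel

theorem cent_uv : ∀ x y z : ZMod 3, ¬ InUE (el x y z) → ∀ m : M, m * uM = uM * m →
    m * el x y z = el x y z * m → m.right = 1 := by decide +kernel

theorem not_inUE_e3 : ¬ InUE e3M ∧ ¬ InUE (e1M * e3M) := by decide +kernel

theorem cent_ue : ∀ m : M, m * uM = uM * m → m * e1M = e1M * m → m.right = 1 := by decide +kernel

theorem right_pow {m : M} (hm : m.right = 1) (n : ℕ) : (m ^ n).right = 1 := by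
  rw [← SemidirectProduct.rightHom_eq_right, map_pow, SemidirectProduct.rightHom_eq_right, hm, one_pow]

namespace Hyp

variable {G : Type u} [Group G] [Finite G] (h : Hyp G)

/-- The centraliser of a conjugate of `aM` lies in the image. -/
theorem cent_le_of_cls {m : M} (hm : cls m = 8) : centralizer ({h.φ m} : Set G) ≤ h.φ.range := by
  obtain ⟨k, hk⟩ := isConj_iff.1 (isConj_iff_cls.2 (show cls aM = cls m by rw [cls_aM.1, hm]))
  rw [← hk]; exact h.cent_a_conj k

/-- Centralising `uM` and a special element. -/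
theorem cent_u_v {x y z : ZMod 3} (hv : ¬ InUE (el x y z)) {g : G} (hu : g * h.φ uM = h.φ uM * g)
    (hg : g * h.φ (el x y z) = h.φ (el x y z) * g) : g ∈ h.J := by
  obtain ⟨-, i, j, hc⟩ := coset_u x y z hv
  have hgc : g * h.φ (uM ^ (i : ℕ) * el x y z ^ (j : ℕ)) = h.φ (uM ^ (i : ℕ) * el x y z ^ (j : ℕ)) * g := by
    rw [map_mul, map_pow, map_pow]
    exact ((show Commute g _ from hu).pow_right _).mul_right ((show Commute g _ from hg).pow_right _)
  obtain ⟨m, rfl⟩ := h.cent_le_of_cls hc (mem_centralizer_singleton_iff.2 hgc)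
  exact h.φ_mem_J m (cent_uv x y z hv m (h.inj (by rw [map_mul, map_mul, hu]))
    (h.inj (by rw [map_mul, map_mul, hg])))

/-- A `3`-subgroup centralising an element of `J` which is not of the third kind. -/
theorem pgroup_le_J {P : Subgroup G} (hP : IsPGroup 3 P) (hJP : h.J ≤ P) {m : M} (hm : m.right = 1)
    (hne : m ≠ 1) (hc : cls m ≠ cls aM) (hc' : cls m ≠ cls aM⁻¹)
    (hPm : P ≤ centralizer ({h.φ m} : Set G)) : P ≤ h.J := by
  classical
  obtain ⟨k, hk⟩ := h.exists_conj_S hP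
  obtain ⟨n, hn⟩ := IsPGroup.iff_card.1 hP
  by_contra hle
  have hlt : Nat.card h.J < Nat.card P := lt_of_le_of_ne (card_le_of_le hJP)
    fun e => hle (eq_of_le_of_card_ge hJP e.ge).ge
  have hle81 : Nat.card P ≤ 81 := by
    rw [← h.S_card]
    exact Nat.card_le_card_of_injective (fun x => (⟨k * (x : G) * k⁻¹, hk _ x.2⟩ : h.S))
      fun x y e => Subtype.ext (mul_left_cancel (mul_right_cancel (congrArg Subtype.val e)))
  have hn4 : n = 4 := by
    rw [hn] at hlt hle81
    rw [h.J_card] at hlt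
    have h1 : ¬ n ≤ 3 := fun e => by
      have := Nat.pow_le_pow_right (show 0 < 3 by norm_num) e
      norm_num at this; omega
    have h2 : ¬ 5 ≤ n := fun e => by
      have := Nat.pow_le_pow_right (show 0 < 3 by norm_num) e
      norm_num at this; omega
    omega
  have hmap : P.map (MulAut.conj k).toMonoidHom = h.S := by
    refine eq_of_le_of_card_ge (by rintro _ ⟨x, hx, rfl⟩; exact hk x hx) ?_
    rw [card_map_of_injective (MulAut.conj k).injective, hn, hn4, h.S_card]; norm_num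
  -- `k * φ m * k⁻¹` is central in the Sylow subgroup
  have hmP : h.φ m ∈ P := hJP (h.φ_mem_J m hm)
  obtain ⟨w, hw, ew⟩ := h.mem_S.1 (hk _ hmP)
  have hcent : ∀ s : M, s * aM = aM * s → s * w = w * s := by
    intro s hs
    obtain ⟨x, hx, ex⟩ : h.φ s ∈ P.map (MulAut.conj k).toMonoidHom := hmap ▸ h.mem_S.2 ⟨s, hs, rfl⟩
    refine h.inj ?_
    rw [map_mul, map_mul, ← ex, ew]
    show MulAut.conj k x * MulAut.conj k (h.φ m) = MulAut.conj k (h.φ m) * MulAut.conj k x
    rw [← map_mul, ← map_mul, mem_centralizer_singleton_iff.1 (hPm hx)]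
  have key : ∀ w : M, w * aM = aM * w → w * e1M = e1M * w → w * gc = gc * w →
      w = 1 ∨ w = aM ∨ w = aM⁻¹ := by decide +kernel
  rcases key w hw (hcent e1M (trans_comm uM_facts.2.2.2.2.1 rfl)).symm
      (hcent gc (by decide +kernel)).symm with e | e | e <;> rw [e] at ew
  · rw [map_one] at ew
    exact hne (h.inj ((conj_eq_one_iff.1 ew.symm).trans (map_one _).symm))
  · exact h.not_isConj hm rfl hc (isConj_iff.2 ⟨k, ew.symm⟩)
  · exact h.not_isConj hm (by decide +kernel) hc' (isConj_iff.2 ⟨k, ew.symm⟩)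

theorem cent_u_aux : (∀ g : G, g * h.φ uM = h.φ uM * g → g * h.φ e1M = h.φ e1M * g → g ∈ h.J) ∧
    centralizer ({h.φ uM} : Set G) ≤ h.φ.range := by
  classical
  haveI : Fact (Nat.Prime 3) := ⟨Nat.prime_three⟩
  obtain ⟨u3, u1, ur, -, e1r, e3r, hau, hau'⟩ := uM_facts
  obtain ⟨t, htu, ht⟩ := exists_tu
  set C := centralizer ({h.φ uM} : Set G) with hC
  have hJC : h.J ≤ C := fun x hx => mem_centralizer_singleton_iff.2 (h.J_comm x hx _ (h.φ_mem_J _ ur))
  set uC : C := ⟨h.φ uM, mem_centralizer_singleton_iff.2 rfl⟩ with huC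
  set Z := zpowers uC with hZ
  haveI hZn : Z.Normal := ⟨fun x hx g => by
    obtain ⟨n, rfl⟩ := mem_zpowers_iff.1 hx
    have hc : Commute g uC := Subtype.ext (mem_centralizer_singleton_iff.1 g.2)
    rw [(hc.zpow_right n).eq, mul_inv_cancel_right]
    exact zpow_mem (mem_zpowers _) n⟩
  have hu3 : h.φ uM ^ 3 = 1 := by rw [← map_pow, u3, map_one]
  have hu1 : h.φ uM ≠ 1 := fun e => u1 (h.inj (e.trans (map_one _).symm))
  have hZc : Nat.card Z = 3 := by rw [Nat.card_zpowers, huC, orderOf_mk, orderOf_eq_prime hu3 hu1]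
  set π : C →* C ⧸ Z := QuotientGroup.mk' Z
  have hπs : Function.Surjective π := QuotientGroup.mk'_surjective Z
  have hker : π.ker = Z := QuotientGroup.ker_mk' Z
  have hmemZ : ∀ c : C, c ∈ Z ↔ (c : G) ∈ zpowers (h.φ uM) := fun c => by
    refine ⟨fun hc => ?_, fun hc => ?_⟩
    · obtain ⟨n, hn⟩ := mem_zpowers_iff.1 hc
      exact mem_zpowers_iff.2 ⟨n, congrArg Subtype.val hn⟩
    · obtain ⟨n, hn⟩ := mem_zpowers_iff.1 hc
      exact mem_zpowers_iff.2 ⟨n, Subtype.ext hn⟩
  set E := (h.J.subgroupOf C).map π with hE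
  set e : C ⧸ Z := π ⟨h.φ e1M, hJC (h.φ_mem_J _ e1r)⟩ with he
  set v : C ⧸ Z := π ⟨h.φ e3M, hJC (h.φ_mem_J _ e3r)⟩ with hv
  set tC : C := ⟨h.φ t, mem_centralizer_singleton_iff.2 (by rw [← map_mul, ← map_mul, htu])⟩ with htC
  have inUE : ∀ m : M, m.right = 1 → ∀ hm : h.φ m ∈ C, π ⟨h.φ m, hm⟩ ∈ zpowers e → InUE m := by
    intro m hm hmC hmem
    have e3 : e ^ 3 = 1 := by
      rw [he, ← map_pow, show (⟨h.φ e1M, hJC (h.φ_mem_J _ e1r)⟩ : C) ^ 3 = 1 from
        Subtype.ext (h.J_cube _ (h.φ_mem_J _ e1r)), map_one]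
    obtain ⟨j, hj⟩ : ∃ j : Fin 3, π ⟨h.φ m, hmC⟩ = e ^ (j : ℕ) := by
      rcases zpowers_three_cases e3 hmem with h' | h' | h'
      · exact ⟨0, by rw [h']; simp⟩
      · exact ⟨1, by rw [h']; simp⟩
      · exact ⟨2, by rw [h']; exact (eq_inv_of_mul_eq_one_left (by rw [← pow_succ]; exact e3)).symm⟩
    rw [he, ← map_pow, eq_comm, QuotientGroup.mk'_eq_mk'] at hj
    obtain ⟨z, hz, hj⟩ := hj
    have hz' := (hmemZ z).1 hz
    have e' : h.φ e1M ^ (j : ℕ) * (z : G) = h.φ m := congrArg Subtype.val hj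
    obtain ⟨i, hi⟩ : ∃ i : Fin 3, (z : G) = h.φ uM ^ (i : ℕ) := by
      rcases zpowers_three_cases hu3 hz' with h' | h' | h'
      · exact ⟨0, by rw [h']; simp⟩
      · exact ⟨1, by rw [h']; simp⟩
      · exact ⟨2, by rw [h']; exact (eq_inv_of_mul_eq_one_left (by rw [← pow_succ]; exact hu3)).symm⟩
    refine ⟨i, j, h.inj ?_⟩
    rw [map_mul, map_pow, map_pow, ← e', hi]
    rw [← map_pow, ← map_pow, ← map_mul, ← map_mul, trans_comm (right_pow e1r _) (right_pow ur _)]
  have hlone : Lone E e v (π tC) := by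
    refine { comm := ?_, cube := ?_, card := ?_, e_mem := ?_, v_mem := ?_, e_ne := ?_, v_not := ?_,
             inv := ?_, norm := ?_, cent := ?_, cover := ?_ }
    · rintro _ ⟨x, hx, rfl⟩ _ ⟨y, hy, rfl⟩
      rw [← map_mul, ← map_mul, show x * y = y * x from Subtype.ext (h.J_comm _ hx _ hy)]
    · rintro _ ⟨x, hx, rfl⟩
      rw [← map_pow, show x ^ 3 = 1 from Subtype.ext (h.J_cube _ hx), map_one]
    · have h1 := (h.J.subgroupOf C).card_mul_index
      have hle : Z ≤ h.J.subgroupOf C := zpowers_le.2 (h.φ_mem_J _ ur)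
      have h27 : Nat.card (h.J.subgroupOf C) = 27 := by
        rw [Nat.card_congr (subgroupOfEquivOfLe hJC).toEquiv, h.J_card]
      have h2 := (Z.subgroupOf (h.J.subgroupOf C)).card_mul_index
      rw [Nat.card_congr (subgroupOfEquivOfLe hle).toEquiv, hZc, h27] at h2
      have h3 : Nat.card E = (Z.subgroupOf (h.J.subgroupOf C)).index := by
        rw [hE, ← Subgroup.relIndex_ker, hker]; rfl
      omega
    · exact ⟨_, h.φ_mem_J _ e1r, rfl⟩
    · exact ⟨_, h.φ_mem_J _ e3r, rfl⟩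
    · intro e'
      have := inUE e3M e3r (hJC (h.φ_mem_J _ e3r))
      rw [he, ← MonoidHom.mem_ker, hker, hmemZ] at e'
      have key : ¬ (e1M = 1 ∨ e1M = uM ∨ e1M = uM⁻¹) := by decide +kernel
      refine key ?_
      rcases zpowers_three_cases hu3 e' with e2 | e2 | e2
      · exact Or.inl (h.inj (e2.trans (map_one _).symm))
      · exact Or.inr (Or.inl (h.inj e2))
      · exact Or.inr (Or.inr (h.inj (e2.trans (map_inv _ _).symm)))
    · exact fun e' => not_inUE_e3.1 (inUE _ e3r _ e')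
    · rintro _ ⟨x, ⟨m, hm, ex⟩, rfl⟩
      rw [← map_inv, ← map_mul, ← map_mul, ← map_inv, ← mul_inv_eq_one, ← map_inv, inv_inv, ← map_mul,
        ← MonoidHom.mem_ker, hker, hmemZ]
      show h.φ t * (x : G) * (h.φ t)⁻¹ * (x : G) ∈ _
      rw [show ((x : C) : G) = h.φ m from ex.symm, ← map_inv, ← map_mul, ← map_mul, ← map_mul]
      rcases ht m hm with e' | e' | e' <;> rw [e']
      · rw [map_one]; exact one_mem _
      · exact mem_zpowers _
      · rw [map_inv]; exact inv_mem (mem_zpowers _)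
    · intro q hq
      obtain ⟨g, rfl⟩ := hπs q
      have hgJ : ∀ m : M, m.right = 1 → ∃ m' : M, m'.right = 1 ∧ (g : G) * h.φ m * (g : G)⁻¹ = h.φ m' := by
        intro m hm
        obtain ⟨x, hx, ex⟩ := (mem_normalizer_iff.1 hq (π ⟨h.φ m, hJC (h.φ_mem_J m hm)⟩)).1
          ⟨_, h.φ_mem_J m hm, rfl⟩
        rw [← map_inv, ← map_mul, ← map_mul, QuotientGroup.mk'_eq_mk'] at ex
        obtain ⟨z, hz, ez⟩ := ex
        have hzJ : (z : G) ∈ h.J := zpowers_le.2 (h.φ_mem_J _ ur) ((hmemZ z).1 hz)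
        obtain ⟨m', hm', e'⟩ := mul_mem (mem_subgroupOf.1 hx) hzJ
        exact ⟨m', hm', by rw [e']; exact (congrArg Subtype.val ez).symm⟩
      obtain ⟨m, hm⟩ := h.norm g hgJ
      have hmu : m * uM = uM * m := h.inj (by
        rw [map_mul, map_mul, hm]; exact mem_centralizer_singleton_iff.1 g.2)
      rcases cent_u_M t htu ht m hmu with hr | hr
      · left; exact ⟨g, ⟨m, hr, hm⟩, rfl⟩
      · right
        rw [← map_mul]
        exact ⟨g * tC, ⟨m * t, hr, by rw [map_mul, hm]; rfl⟩, rfl⟩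
    · rintro _ ⟨x, ⟨m, hm, ex⟩, rfl⟩ hxe
      obtain ⟨a', b', c', rfl⟩ := right_el m hm
      have hv' : ¬ InUE (el a' b' c') := by
        intro ⟨i, j, hij⟩
        refine hxe ?_
        have : x = uC ^ (i : ℕ) * (⟨h.φ e1M, hJC (h.φ_mem_J _ e1r)⟩ : C) ^ (j : ℕ) := Subtype.ext (by
          show (x : G) = h.φ uM ^ (i : ℕ) * h.φ e1M ^ (j : ℕ)
          rw [← map_pow, ← map_pow, ← map_mul, ← hij]; exact ex.symm)
        rw [this, map_mul, map_pow, show π uC = 1 from (QuotientGroup.eq_one_iff uC).2 (mem_zpowers _),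
          one_pow, one_mul, map_pow]
        exact pow_mem (mem_zpowers _) _
      refine le_antisymm (fun q hq => ?_) fun q hq => ?_
      · obtain ⟨g, rfl⟩ := hπs q
        have h1 := mem_centralizer_singleton_iff.1 hq
        rw [← mul_inv_eq_iff_eq_mul, ← mul_inv_eq_one, ← map_inv, ← map_inv, ← map_mul, ← map_mul, ← map_mul,
          ← MonoidHom.mem_ker, hker, hmemZ] at h1
        have hgu := mem_centralizer_singleton_iff.1 g.2
        have hgv : (g : G) * h.φ (el a' b' c') = h.φ (el a' b' c') * g := by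
          refine h.commute_coset hm ur hgu ?_ (coset_u a' b' c' hv').1
          rw [ex]; exact h1
        exact ⟨g, h.cent_u_v hv' hgu hgv, rfl⟩
      · obtain ⟨y, hy, rfl⟩ := hq
        rw [mem_centralizer_singleton_iff, ← map_mul, ← map_mul,
          show y * x = x * y from Subtype.ext (h.J_comm _ hy _ ⟨_, hm, ex⟩)]
    · intro Q hQ
      have hpre : IsPGroup 3 (Q.comap π) := by
        rintro ⟨x, hx⟩
        obtain ⟨k, hk⟩ := hQ ⟨π x, hx⟩
        refine ⟨k + 1, Subtype.ext ?_⟩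
        show x ^ 3 ^ (k + 1) = 1
        have hxk : x ^ 3 ^ k ∈ Z := by
          rw [← hker, MonoidHom.mem_ker, map_pow]; exact congrArg Subtype.val hk
        have h3 := pow_card_eq_one' (x := (⟨_, hxk⟩ : Z))
        rw [hZc] at h3
        rw [pow_succ, pow_mul]
        exact congrArg (fun z : Z => (z : C)) h3
      obtain ⟨P, hP⟩ := hpre.exists_le_sylow
      obtain ⟨PJ, hPJ⟩ := ((IsPGroup.of_card (p := 3) (n := 3) (G := h.J)
        (by rw [h.J_card]; norm_num)).comap_subtype (K := C)).exists_le_sylow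
      obtain ⟨c, hc⟩ := MulAction.exists_smul_eq C P PJ
      refine ⟨π c, fun q hq => ?_⟩
      obtain ⟨x, rfl⟩ := hπs q
      refine ⟨c * x * c⁻¹, ?_, by rw [map_mul, map_mul, map_inv]⟩
      refine mem_subgroupOf.2 (h.pgroup_le_J (PJ.2.map C.subtype)
        (fun y hy => ⟨⟨y, hJC hy⟩, hPJ hy, rfl⟩) ur u1 (Ne.symm hau) ?_ (map_subtype_le _) ?_)
      · rw [cls_inv]; exact Ne.symm hau
      · refine ⟨c * x * c⁻¹, ?_, rfl⟩
        rw [← hc, Sylow.coe_subgroup_smul]
        exact ⟨x, hP hq, rfl⟩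
  have hidx := hlone.card_eq
  -- the centraliser of `uM` and `e1M`
  set D := C ⊓ centralizer ({h.φ e1M} : Set G) with hD
  have hcomap : D.subgroupOf C = (centralizer ({e} : Set (C ⧸ Z))).comap π := by
    ext g
    rw [mem_subgroupOf, mem_comap, mem_centralizer_singleton_iff]
    constructor
    · intro hg
      rw [he, ← map_mul, ← map_mul]
      congr 1
      exact Subtype.ext (mem_centralizer_singleton_iff.1 hg.2)
    · intro hg
      refine ⟨g.2, mem_centralizer_singleton_iff.2 ?_⟩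
      rw [← mul_inv_eq_iff_eq_mul, ← mul_inv_eq_one, he, ← map_inv, ← map_inv, ← map_mul, ← map_mul,
        ← map_mul, ← MonoidHom.mem_ker, hker, hmemZ] at hg
      exact h.commute_coset e1r ur (mem_centralizer_singleton_iff.1 g.2) hg (Or.inl cls_aM.2)
  have hDn : (D.subgroupOf C).Normal := by
    haveI hn : (centralizer ({e} : Set (C ⧸ Z))).Normal := normal_of_index_eq_two (by
      have := (centralizer ({e} : Set (C ⧸ Z))).card_mul_index
      rw [hidx, mul_comm 2] at this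
      exact Nat.eq_of_mul_eq_mul_left Nat.card_pos this)
    rw [hcomap]; infer_instance
  have hJD : h.J ≤ D := fun x hx =>
    ⟨hJC hx, mem_centralizer_singleton_iff.2 (h.J_comm x hx _ (h.φ_mem_J _ e1r))⟩
  have hselfD : ∀ g ∈ D, g ∈ normalizer (h.J : Set G) → g ∈ h.J := by
    intro g hg hgN
    obtain ⟨m, rfl⟩ := h.norm g fun m hm => by
      obtain ⟨m', hm', e'⟩ := (mem_normalizer_iff.1 hgN (h.φ m)).1 (h.φ_mem_J m hm)
      exact ⟨m', hm', e'.symm⟩
    exact h.φ_mem_J m (cent_ue m (h.inj (by rw [map_mul, map_mul, mem_centralizer_singleton_iff.1 hg.1]))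
      (h.inj (by rw [map_mul, map_mul, mem_centralizer_singleton_iff.1 hg.2])))
  obtain ⟨T, hTD, hT3, hTdec, hTinv⟩ := exists_central_complement D h.J hJD
    (fun g hg hgN x hx => h.J_comm g (hselfD g hg hgN) x hx)
    (IsPGroup.of_card (n := 3) (by rw [h.J_card]; norm_num))
    (fun P hP hJP hPD => h.pgroup_le_J hP hJP ur u1 (Ne.symm hau) (by rw [cls_inv]; exact Ne.symm hau)
      (hPD.trans inf_le_left))
  have hT : T = ⊥ := h.core uM ur u1 T (hTD.trans inf_le_left)
    (fun x hx k hk => hTinv x (fun y hy =>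
      hDn.conj_mem ⟨y, hy.1⟩ hy ⟨x, hx⟩) k hk) hT3
  refine ⟨fun g h1 h2 => mem_of_mem_mul hT (hTdec g
    ⟨mem_centralizer_singleton_iff.2 h1, mem_centralizer_singleton_iff.2 h2⟩), fun g hg => ?_⟩
  -- the centraliser of `uM` normalises `J`
  refine h.norm g fun m hm => ?_
  have hx : g * h.φ m * g⁻¹ ∈ D := hDn.conj_mem ⟨_, hJC (h.φ_mem_J m hm)⟩ (hJD (h.φ_mem_J m hm)) ⟨g, hg⟩
  obtain ⟨m', hm', e'⟩ := mem_of_mem_mul hT (hTdec _ hx)
  exact ⟨m', hm', e'.symm⟩

theorem cent_u : centralizer ({h.φ uM} : Set G) ≤ h.φ.range := h.cent_u_aux.2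

theorem cent_u_card : Nat.card (centralizer ({h.φ uM} : Set G)) = 54 := by
  classical
  rw [← cent_u_count, ← Fintype.card_subtype, ← Nat.card_eq_fintype_card]
  refine (Nat.card_congr (Equiv.ofBijective (fun m : {m : M // m * uM = uM * m} =>
    (⟨h.φ m, mem_centralizer_singleton_iff.2 (by rw [← map_mul, ← map_mul, m.2])⟩ :
      centralizer ({h.φ uM} : Set G))) ⟨fun a b e => Subtype.ext (h.inj (congrArg Subtype.val e)), ?_⟩)).symm
  rintro ⟨g, hg⟩
  obtain ⟨m, rfl⟩ := h.cent_u hg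
  exact ⟨⟨m, h.inj (by rw [map_mul, map_mul]; exact mem_centralizer_singleton_iff.1 hg)⟩, rfl⟩

/-- Two lines have the elementary subgroup as centraliser. -/
theorem cent_lines {g : G} (h1 : g * h.φ e1M = h.φ e1M * g) (h2 : g * h.φ e2M = h.φ e2M * g) : g ∈ h.J := by
  refine h.cent_u_aux.1 g ?_ h1
  rw [show uM = e1M * e2M by decide +kernel, map_mul]
  exact (show Commute g _ from h1).mul_right h2

end Hyp

end Cfsg.Agent.A9ThreeLocal
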