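import Cfsg.Agent.A9ThreeLocal.CentU
import Cfsg.Agent.ThreeTINine.Simple
import Cfsg.Agent.ThreeTINine.Shape
import Cfsg.Agent.S0497

/-!
The centraliser of an element of the first kind.
-/

set_option autoImplicit false
set_option synthInstance.maxSize 4000
set_option synthInstance.maxHeartbeats 400000

namespace Cfsg.Agent.A9ThreeLocal

open Subgroup ThreeFullWreath ThreeTINine

universe u

theorem e1M_facts : e1M ^ 3 = 1 ∧ e1M ≠ 1 ∧ cls e1M ≠ cls aM ∧ cls e1M ≠ cls aM⁻¹ ∧ e2M ^ 3 = 1 ∧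
    (Finset.univ.filter fun m : M => m * e1M = e1M * m).card = 108 := by
  decide +kernel

theorem line_cases : ∀ x y z : ZMod 3, (y ≠ 0 ∨ z ≠ 0) →
    (cls (el x y z) ≠ cls (el x y z * e1M) ∨ cls (el x y z) ≠ cls (el x y z * e1M⁻¹)) ∧
    ((∃ i : Fin 3, cls (e1M ^ (i : ℕ) * el x y z) = 8) ∨
      (∃ i j : Fin 3, e2M = (e1M ^ (i : ℕ) * el x y z) ^ (j : ℕ)) ∨
      ∃ i j : Fin 3, e3M = (e1M ^ (i : ℕ) * el x y z) ^ (j : ℕ)) := by
  decide +kernel

theorem cent_e1_e : ∀ x y z : ZMod 3, (y ≠ 0 ∨ z ≠ 0) → ∀ m : M, m * e1M = e1M * m →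
    m * el x y z = el x y z * m → m.right = 1 := by
  decide +kernel

theorem exists_swap : ∃ k : M, k * e1M * k⁻¹ = e1M ∧ (k * e2M * k⁻¹ = e3M ∨ k * e2M * k⁻¹ = e3M⁻¹) := by
  decide +kernel

theorem exists_quarter : ∃ w : M, w ^ 4 = 1 ∧ w * e1M = e1M * w ∧ w * e2M * w⁻¹ = e3M ∧
    w * e3M * w⁻¹ = e2M⁻¹ ∧ (w * w).right ≠ 1 ∧
    ∀ m : M, m * e1M = e1M * m → ∃ i : Fin 4, ((w ^ (i : ℕ))⁻¹ * m).right = 1 := by
  decide +kernel

theorem exists_invert : ∃ t : M, t * e1M = e1M * t ∧ t * e2M * t⁻¹ = e2M⁻¹ ∧ t * e3M * t⁻¹ = e3M⁻¹ := by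
  decide +kernel

theorem e1_pows : e2M ∉ ({1, e1M, e1M⁻¹} : Finset M) ∧ e3M ∉ ({1, e1M, e1M⁻¹} : Finset M) ∧
    ∀ i : Fin 3, e3M ≠ e2M ^ (i : ℕ) ∧ e3M * (e2M ^ (i : ℕ))⁻¹ ∉ ({1, e1M, e1M⁻¹} : Finset M) := by
  decide +kernel

theorem pow_el : ∀ n : ℕ, e1M ^ n = el (n : ZMod 3) 0 0 := fun n => by
  induction n with
  | zero => rfl
  | succ n ih =>
    rw [pow_succ, ih, e1M, el, el, el, ← map_mul]
    congr 1
    rw [← ofAdd_add]
    simp

theorem three_values : ∀ a b : Multiplicative (ZMod 3), a ≠ 1 → b = 1 ∨ b = a ∨ b = a⁻¹ := by decide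

theorem three_self : ∀ a : Multiplicative (ZMod 3), a = a⁻¹ → a = 1 := by decide

namespace Hyp

variable {G : Type u} [Group G] [Finite G] (h : Hyp G)

/-- The centraliser of the first line and another translation. -/
theorem cent_e1_v {x y z : ZMod 3} (hv : y ≠ 0 ∨ z ≠ 0) {g : G} (h1 : g * h.φ e1M = h.φ e1M * g)
    (hg : g * h.φ (el x y z) = h.φ (el x y z) * g) : g ∈ h.J := by
  have hc : ∀ i : Fin 3, g * h.φ (e1M ^ (i : ℕ) * el x y z) = h.φ (e1M ^ (i : ℕ) * el x y z) * g := fun i => by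
    rw [map_mul, map_pow]
    exact ((show Commute g _ from h1).pow_right _).mul_right hg
  have hr : g ∈ h.φ.range := by
    rcases (line_cases x y z hv).2 with ⟨i, hi⟩ | ⟨i, j, hij⟩ | ⟨i, j, hij⟩
    · exact h.cent_le_of_cls hi (mem_centralizer_singleton_iff.2 (hc i))
    · have hJ : g ∈ h.J := h.cent_lines h1 (by
        rw [hij, map_pow]; exact (show Commute g _ from hc i).pow_right _)
      obtain ⟨m, -, e⟩ := hJ
      exact ⟨m, e⟩
    · have h3 : g * h.φ e3M = h.φ e3M * g := by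
        rw [hij, map_pow]; exact (show Commute g _ from hc i).pow_right _
      obtain ⟨k, hk1, hk2⟩ := exists_swap
      have key : ∀ w : M, g * h.φ (k * w * k⁻¹) = h.φ (k * w * k⁻¹) * g →
          (h.φ k)⁻¹ * g * h.φ k * h.φ w = h.φ w * ((h.φ k)⁻¹ * g * h.φ k) := by
        intro w hw
        rw [map_mul, map_mul, map_inv] at hw
        calc (h.φ k)⁻¹ * g * h.φ k * h.φ w = (h.φ k)⁻¹ * (g * (h.φ k * h.φ w * (h.φ k)⁻¹)) * h.φ k := by group
          _ = (h.φ k)⁻¹ * ((h.φ k * h.φ w * (h.φ k)⁻¹) * g) * h.φ k := by rw [hw]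
          _ = h.φ w * ((h.φ k)⁻¹ * g * h.φ k) := by group
      have hJ : (h.φ k)⁻¹ * g * h.φ k ∈ h.J := h.cent_lines (key _ (by rw [hk1]; exact h1)) (key _ (by
        rcases hk2 with e | e <;> rw [e]
        · exact h3
        · rw [map_inv]; exact ((show Commute g _ from h3).inv_right).eq))
      obtain ⟨m, -, e⟩ := hJ
      exact ⟨k * m * k⁻¹, by rw [map_mul, map_mul, map_inv, e]; group⟩
  obtain ⟨m, rfl⟩ := hr
  exact h.φ_mem_J m (cent_e1_e x y z hv m (h.inj (by rw [map_mul, map_mul, h1]))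
    (h.inj (by rw [map_mul, map_mul, hg])))

set_option maxHeartbeats 1000000 in
/-- The first line has its centraliser in the image, or a complement isomorphic to the alternating group
of degree six. -/
theorem centre_cases : centralizer ({h.φ e1M} : Set G) ≤ h.φ.range ∨
    ∃ A1 : Subgroup G, A1 ≤ centralizer ({h.φ e1M} : Set G) ∧ Nonempty (A1 ≃* alternatingGroup (Fin 6)) ∧
      h.φ e1M ∉ A1 ∧ h.φ e2M ∈ A1 ∧ h.φ e3M ∈ A1 ∧
      (∀ g ∈ centralizer ({h.φ e1M} : Set G), g ^ 4 = 1 → g ∈ A1) ∧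
      ∀ g ∈ centralizer ({h.φ e1M} : Set G), ∃ z ∈ zpowers (h.φ e1M), z⁻¹ * g ∈ A1 := by
  classical
  haveI : Fact (Nat.Prime 3) := ⟨Nat.prime_three⟩
  obtain ⟨e13, e1ne, hca, hca', e23, h108⟩ := e1M_facts
  obtain ⟨w, hw4, hwe1, hw2, hw3, hww, hwcov⟩ := exists_quarter
  set C := centralizer ({h.φ e1M} : Set G) with hC
  have hJC : h.J ≤ C := fun x hx =>
    mem_centralizer_singleton_iff.2 (h.J_comm x hx _ (h.φ_mem_J _ rfl))
  have memC : ∀ m : M, m * e1M = e1M * m → h.φ m ∈ C := fun m hm =>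
    mem_centralizer_singleton_iff.2 (by rw [← map_mul, ← map_mul, hm])
  have ofC : ∀ m : M, h.φ m ∈ C → m * e1M = e1M * m := fun m hm =>
    h.inj (by rw [map_mul, map_mul]; exact mem_centralizer_singleton_iff.1 hm)
  set eC : C := ⟨h.φ e1M, memC _ rfl⟩ with heC
  set Z := zpowers eC with hZ
  have hcen : ∀ g : C, Commute g eC := fun g => Subtype.ext (mem_centralizer_singleton_iff.1 g.2)
  haveI hZn : Z.Normal := ⟨fun x hx g => by
    obtain ⟨n, rfl⟩ := mem_zpowers_iff.1 hx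
    rw [((hcen g).zpow_right n).eq, mul_inv_cancel_right]
    exact zpow_mem (mem_zpowers _) n⟩
  have he3 : h.φ e1M ^ 3 = 1 := by rw [← map_pow, e13, map_one]
  have he1 : h.φ e1M ≠ 1 := fun e => e1ne (h.inj (e.trans (map_one _).symm))
  have hZc : Nat.card Z = 3 := by rw [Nat.card_zpowers, heC, orderOf_mk, orderOf_eq_prime he3 he1]
  set π : C →* C ⧸ Z := QuotientGroup.mk' Z
  have hπs : Function.Surjective π := QuotientGroup.mk'_surjective Z
  have hker : π.ker = Z := QuotientGroup.ker_mk' Z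
  have inZ : ∀ (m : M) (hm : h.φ m ∈ C), π ⟨h.φ m, hm⟩ = 1 → m ∈ ({1, e1M, e1M⁻¹} : Finset M) := by
    intro m hm e
    rw [← MonoidHom.mem_ker, hker] at e
    obtain ⟨n, hn⟩ := mem_zpowers_iff.1 e
    have hn' : h.φ m ∈ zpowers (h.φ e1M) := mem_zpowers_iff.2 ⟨n, congrArg Subtype.val hn⟩
    simp only [Finset.mem_insert, Finset.mem_singleton]
    rcases zpowers_three_cases he3 hn' with e2 | e2 | e2
    · exact Or.inl (h.inj (e2.trans (map_one _).symm))
    · exact Or.inr (Or.inl (h.inj e2))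
    · exact Or.inr (Or.inr (h.inj (e2.trans (map_inv _ _).symm)))
  set JC := h.J.subgroupOf C with hJCdef
  have hZJ : Z ≤ JC := zpowers_le.2 (h.φ_mem_J _ rfl)
  have hJC27 : Nat.card JC = 27 := by
    rw [Nat.card_congr (subgroupOfEquivOfLe hJC).toEquiv, h.J_card]
  -- the elementary subgroup is a Sylow subgroup of the centraliser
  obtain ⟨P, hPJ⟩ : ∃ P : Sylow 3 C, (P : Subgroup C) = JC := by
    obtain ⟨P, hP⟩ := ((IsPGroup.of_card (p := 3) (n := 3) (G := h.J)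
      (by rw [h.J_card]; norm_num)).comap_subtype (K := C)).exists_le_sylow
    refine ⟨P, le_antisymm (fun x hx => ?_) hP⟩
    exact h.pgroup_le_J (P.2.map C.subtype) (fun y hy => ⟨⟨y, hJC hy⟩, hP hy, rfl⟩)
      (show e1M.right = 1 from rfl) e1ne hca hca' (map_subtype_le _) ⟨x, hx, rfl⟩
  set E := JC.map π with hE
  let PE : Sylow 3 (C ⧸ Z) := P.mapSurjective hπs
  have hPE : E = PE := by rw [hE, ← hPJ]; rfl
  have card_map_π : ∀ K : Subgroup C, Z ≤ K → Nat.card K = 3 * Nat.card (K.map π) := by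
    intro K hK
    have h2 := (Z.subgroupOf K).card_mul_index
    rw [Nat.card_congr (subgroupOfEquivOfLe hK).toEquiv, hZc] at h2
    have h3 : Nat.card (K.map π) = (Z.subgroupOf K).index := by
      rw [← Subgroup.relIndex_ker, hker]; rfl
    rw [h3, h2]
  have hE9 : Nat.card E = 9 := by
    have := card_map_π JC hZJ
    rw [hJC27, ← hE] at this
    omega
  have memE : ∀ g : C, π g ∈ E → (g : G) ∈ h.J := by
    rintro g ⟨x, hx, e⟩
    obtain ⟨z, hz, rfl⟩ := (QuotientGroup.mk'_eq_mk' Z).1 e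
    exact mem_subgroupOf.1 (mul_mem hx (hZJ hz))
  have hcent : ∀ q ∈ E, q ≠ 1 → centralizer ({q} : Set (C ⧸ Z)) = E := by
    rintro _ ⟨v, ⟨m, hm, ev⟩, rfl⟩ hq
    obtain ⟨x, y, z, rfl⟩ := right_el m hm
    have hyz : y ≠ 0 ∨ z ≠ 0 := by
      by_contra hcon
      push Not at hcon
      obtain ⟨rfl, rfl⟩ := hcon
      refine hq ?_
      rw [← MonoidHom.mem_ker, hker]
      have : v = eC ^ x.val := Subtype.ext (by
        show (v : G) = h.φ e1M ^ x.val
        rw [← map_pow, pow_el, ZMod.natCast_zmod_val]; exact ev.symm)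
      rw [this]; exact pow_mem (mem_zpowers _) _
    refine le_antisymm (fun r hr => ?_) fun r hr => ?_
    · obtain ⟨g, rfl⟩ := hπs r
      have h1 := mem_centralizer_singleton_iff.1 hr
      rw [← mul_inv_eq_iff_eq_mul, ← mul_inv_eq_one, ← map_inv, ← map_inv, ← map_mul, ← map_mul, ← map_mul,
        ← MonoidHom.mem_ker, hker] at h1
      obtain ⟨n, hn⟩ := mem_zpowers_iff.1 h1
      have hg1 := mem_centralizer_singleton_iff.1 g.2
      have hgv : (g : G) * h.φ (el x y z) = h.φ (el x y z) * g :=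
        h.commute_coset hm rfl hg1 (by rw [ev]; exact mem_zpowers_iff.2 ⟨n, congrArg Subtype.val hn⟩)
          (line_cases x y z hyz).1
      exact ⟨g, h.cent_e1_v hyz hg1 hgv, rfl⟩
    · obtain ⟨u, hu, rfl⟩ := hr
      rw [mem_centralizer_singleton_iff, ← map_mul, ← map_mul,
        show u * v = v * u from Subtype.ext (h.J_comm _ hu _ ⟨_, hm, ev⟩)]
  have hTI : TI E := by
    refine TI.of_sylow PE hPE ?_ ?_ hE9 hcent
    · rintro _ ⟨x, hx, rfl⟩ _ ⟨y, hy, rfl⟩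
      rw [← map_mul, ← map_mul, show x * y = y * x from Subtype.ext (h.J_comm _ hx _ hy)]
    · rintro _ ⟨x, hx, rfl⟩
      rw [← map_pow, show x ^ 3 = 1 from Subtype.ext (h.J_cube _ hx), map_one]
  set N := normalizer (E : Set (C ⧸ Z)) with hN
  set K : Subgroup C := ((centralizer ({e1M} : Set M)).map h.φ).subgroupOf C with hK
  have hKle : (centralizer ({e1M} : Set M)).map h.φ ≤ C := by
    rintro _ ⟨m, hm, rfl⟩
    exact memC m (mem_centralizer_singleton_iff.1 hm)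
  have normJ : ∀ g : C, π g ∈ N → ∃ m : M, m * e1M = e1M * m ∧ h.φ m = g := by
    intro g hg
    obtain ⟨m, hm⟩ := h.norm (g : G) fun m hm => by
      have hx := (mem_normalizer_iff.1 hg (π ⟨h.φ m, hJC (h.φ_mem_J m hm)⟩)).1 ⟨_, h.φ_mem_J m hm, rfl⟩
      rw [← map_inv, ← map_mul, ← map_mul] at hx
      obtain ⟨m', hm', e⟩ := memE _ hx
      exact ⟨m', hm', e.symm⟩
    exact ⟨m, ofC m (hm ▸ g.2), hm⟩
  have hNK : N = K.map π := by
    refine le_antisymm (fun q hq => ?_) ?_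
    · obtain ⟨g, rfl⟩ := hπs q
      obtain ⟨m, hm, e⟩ := normJ g hq
      exact ⟨g, ⟨m, mem_centralizer_singleton_iff.2 hm, e⟩, rfl⟩
    · rintro _ ⟨g, ⟨m, hm, e⟩, rfl⟩
      refine mem_normalizer_fintype ?_
      rintro _ ⟨x, ⟨n, hn, ex⟩, rfl⟩
      refine ⟨g * x * g⁻¹, ⟨m * n * m⁻¹, by simp [hn], ?_⟩, by simp⟩
      show h.φ (m * n * m⁻¹) = (g : G) * x * (g : G)⁻¹
      rw [map_mul, map_mul, map_inv, e, ex]; rfl
  have hN36 : Nat.card N = 36 := by
    have h1 := card_map_π K (zpowers_le.2 ⟨e1M, mem_centralizer_singleton_iff.2 rfl, rfl⟩)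
    have h2 : Nat.card K = 108 := by
      rw [Nat.card_congr (subgroupOfEquivOfLe hKle).toEquiv, card_map_of_injective h.inj, ← h108,
        ← Fintype.card_subtype, ← Nat.card_eq_fintype_card]
      exact Nat.card_congr (Equiv.subtypeEquivRight fun m => mem_centralizer_singleton_iff)
    rw [h2, ← hNK] at h1
    omega
  set wq := π ⟨h.φ w, memC w hwe1⟩ with hwq
  set xq := π ⟨h.φ e2M, hJC (h.φ_mem_J _ rfl)⟩ with hxq
  have hwN : wq ∈ N := hNK ▸ ⟨_, ⟨w, mem_centralizer_singleton_iff.2 hwe1, rfl⟩, rfl⟩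
  have hxE : xq ∈ E := ⟨_, h.φ_mem_J _ rfl, rfl⟩
  have hx1 : xq ≠ 1 := fun e => e1_pows.1 (inZ _ _ e)
  have hwx : wq * xq * wq⁻¹ = π ⟨h.φ e3M, hJC (h.φ_mem_J _ rfl)⟩ := by
    rw [hwq, hxq, ← map_inv, ← map_mul, ← map_mul]
    congr 1
    apply Subtype.ext
    show h.φ w * h.φ e2M * (h.φ w)⁻¹ = h.φ e3M
    rw [← map_inv, ← map_mul, ← map_mul, hw2]
  have hy : wq * (wq * xq * wq⁻¹) * wq⁻¹ = xq⁻¹ := by
    rw [hwx, hwq, hxq, ← map_inv, ← map_inv, ← map_mul, ← map_mul]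
    congr 1
    apply Subtype.ext
    show h.φ w * h.φ e3M * (h.φ w)⁻¹ = (h.φ e2M)⁻¹
    rw [← map_inv, ← map_inv, ← map_mul, ← map_mul, hw3]
  have hxy : wq * xq * wq⁻¹ ∉ zpowers xq := by
    intro hmem
    have hx3 : xq ^ 3 = 1 := hTI.cube _ hxE
    obtain ⟨i, hi⟩ : ∃ i : Fin 3, wq * xq * wq⁻¹ = xq ^ (i : ℕ) := by
      rcases zpowers_three_cases hx3 hmem with e | e | e
      · exact ⟨0, by rw [e]; simp⟩
      · exact ⟨1, by rw [e]; simp⟩
      · exact ⟨2, by rw [e]; exact (eq_inv_of_mul_eq_one_left (by rw [← pow_succ]; exact hx3)).symm⟩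
    rw [hwx, hxq, ← map_pow, ← mul_inv_eq_one, ← map_inv, ← map_mul] at hi
    have hmC : h.φ (e3M * (e2M ^ (i : ℕ))⁻¹) ∈ C := hJC (by
      rw [map_mul, map_inv, map_pow]
      exact mul_mem (h.φ_mem_J _ rfl) (inv_mem (pow_mem (h.φ_mem_J _ rfl) _)))
    refine (e1_pows.2.2 i).2 (inZ _ hmC ?_)
    rw [← hi]
    congr 1
    apply Subtype.ext
    show h.φ (e3M * (e2M ^ (i : ℕ))⁻¹) = h.φ e3M * (h.φ e2M ^ (i : ℕ))⁻¹
    rw [map_mul, map_inv, map_pow]
  have hcov : ∀ q ∈ N, ∃ i : Fin 4, (wq ^ (i : ℕ))⁻¹ * q ∈ E := by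
    intro q hq
    obtain ⟨g, rfl⟩ := hπs q
    obtain ⟨m, hm, e⟩ := normJ g hq
    obtain ⟨i, hi⟩ := hwcov m hm
    refine ⟨i, ?_⟩
    rw [hwq, ← map_pow, ← map_inv, ← map_mul]
    refine ⟨_, ⟨_, hi, ?_⟩, rfl⟩
    show h.φ ((w ^ (i : ℕ))⁻¹ * m) = (h.φ w ^ (i : ℕ))⁻¹ * (g : G)
    rw [map_mul, map_inv, map_pow, e]
  have h27 : ¬ 27 ∣ Nat.card (C ⧸ Z) := by
    intro hd
    have hidx := PE.not_dvd_index
    have hmul := (PE : Subgroup (C ⧸ Z)).card_mul_index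
    rw [← hPE, hE9] at hmul
    rw [← hPE] at hidx
    rw [← hmul] at hd
    exact hidx (by omega)
  rcases eq_or_ne N ⊤ with hNtop | hNtop
  · left
    intro g hg
    obtain ⟨m, -, e⟩ := normJ ⟨g, hg⟩ (hNtop ▸ mem_top _)
    exact ⟨m, e⟩
  right
  have h360 := (hTI.four_case hwN hxE hx1 hxy hy hcov hN36 h27).resolve_left hNtop
  haveI := hTI.simple_of_four PE hPE hwN hxE hx1 hy hN36 hNtop
  obtain ⟨eA⟩ := S0497.result h360
  -- transfer to the first coordinate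
  have hco : ∀ y : JC, ∃ m : M, m.right = 1 ∧ h.φ m = (y : G) := fun y => h.mem_J.1 y.2
  choose co hco1 hco2 using hco
  have coEq : ∀ (y : JC) (m : M), h.φ m = (y : G) → co y = m := fun y m e => h.inj ((hco2 y).trans e.symm)
  let ϕ : JC →* Multiplicative (ZMod 3) :=
    { toFun := fun y => Multiplicative.ofAdd (co y).left.toAdd.1
      map_one' := by rw [coEq 1 1 (map_one _)]; rfl
      map_mul' := fun y y' => by
        rw [coEq (y * y') (co y * co y') (by rw [map_mul, hco2, hco2]; rfl), SemidirectProduct.mul_left,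
          hco1, map_one, MulAut.one_apply, ← ofAdd_add]
        rfl }
  let f : C →* Multiplicative (ZMod 3) := MonoidHom.transfer ϕ
  have hindex : ¬ 3 ∣ JC.index := hPJ ▸ P.not_dvd_index
  have hfe : f eC ≠ 1 := by
    have key : ∀ (k : ℕ) (g₀ : C), g₀⁻¹ * eC ^ k * g₀ ∈ JC → g₀⁻¹ * eC ^ k * g₀ = eC ^ k := fun k g₀ _ => by
      rw [mul_assoc, ← ((hcen g₀).pow_right k).eq, inv_mul_cancel_left]
    show MonoidHom.transfer ϕ eC ≠ 1
    rw [MonoidHom.transfer_eq_pow ϕ eC key]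
    show Multiplicative.ofAdd (co _).left.toAdd.1 ≠ 1
    rw [coEq _ (e1M ^ JC.index) (map_pow _ _ _), pow_el]
    intro e
    exact hindex ((ZMod.natCast_eq_zero_iff _ _).1 (Multiplicative.ofAdd.injective e))
  clear_value f
  have cube_f : ∀ g : C, f g ^ 3 = 1 := fun g => by
    have := pow_card_eq_one' (x := f g)
    rwa [Nat.card_eq_fintype_card, Fintype.card_multiplicative, ZMod.card] at this
  -- every value is taken on the centre
  have hval : ∀ g : C, ∃ z ∈ Z, f (z⁻¹ * g) = 1 := by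
    intro g
    rcases three_values (f eC) (f g) hfe with e | e | e
    · exact ⟨1, one_mem _, by simp [e]⟩
    · exact ⟨eC, mem_zpowers _, by simp [e]⟩
    · exact ⟨eC⁻¹, inv_mem (mem_zpowers _), by simp [e]⟩
  have hdisj : ∀ z ∈ Z, f z = 1 → z = 1 := by
    intro z hz e
    have he3' : eC ^ 3 = 1 := Subtype.ext he3
    rcases zpowers_three_cases he3' hz with rfl | rfl | rfl
    · rfl
    · exact absurd e hfe
    · rw [map_inv, inv_eq_one] at e; exact absurd e hfe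
  have bij : Function.Bijective (π.comp f.ker.subtype) := by
    refine ⟨(injective_iff_map_eq_one _).2 fun x hx => Subtype.ext (hdisj x ?_ x.2), fun q => ?_⟩
    · rw [← hker, MonoidHom.mem_ker]; exact hx
    · obtain ⟨g, rfl⟩ := hπs q
      obtain ⟨z, hz, e⟩ := hval g
      refine ⟨⟨z⁻¹ * g, e⟩, ?_⟩
      show π (z⁻¹ * g) = π g
      rw [map_mul, map_inv, show π z = 1 from (QuotientGroup.eq_one_iff z).2 hz, inv_one, one_mul]
  have two : ∀ (g t : C), t * g * t⁻¹ = g⁻¹ → f g = 1 := fun g t e => by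
    have h1 := congrArg f e
    rw [map_mul, map_mul, map_inv, map_inv, mul_right_comm, mul_inv_cancel, one_mul] at h1
    exact three_self _ h1
  obtain ⟨t, ht1, ht2, ht3⟩ := exists_invert
  refine ⟨f.ker.map C.subtype, map_subtype_le _,
    ⟨((f.ker.equivMapOfInjective C.subtype C.subtype_injective).symm.trans
      (MulEquiv.ofBijective _ bij)).trans eA⟩, ?_, ?_, ?_, ?_, ?_⟩
  · rintro ⟨x, hx, e⟩
    refine hfe ?_
    rw [show eC = x from Subtype.ext e.symm]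
    exact hx
  · refine ⟨⟨h.φ e2M, hJC (h.φ_mem_J _ rfl)⟩, two _ ⟨h.φ t, memC t ht1⟩ (Subtype.ext ?_), rfl⟩
    show h.φ t * h.φ e2M * (h.φ t)⁻¹ = (h.φ e2M)⁻¹
    rw [← map_inv, ← map_inv, ← map_mul, ← map_mul, ht2]
  · refine ⟨⟨h.φ e3M, hJC (h.φ_mem_J _ rfl)⟩, two _ ⟨h.φ t, memC t ht1⟩ (Subtype.ext ?_), rfl⟩
    show h.φ t * h.φ e3M * (h.φ t)⁻¹ = (h.φ e3M)⁻¹
    rw [← map_inv, ← map_inv, ← map_mul, ← map_mul, ht3]
  · intro g hg hg4
    refine ⟨⟨g, hg⟩, ?_, rfl⟩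
    have e4 : f ⟨g, hg⟩ ^ 4 = 1 := by
      rw [← map_pow, show (⟨g, hg⟩ : C) ^ 4 = 1 from Subtype.ext hg4, map_one]
    rwa [pow_succ, cube_f, one_mul] at e4
  · intro g hg
    obtain ⟨z, hz, e⟩ := hval ⟨g, hg⟩
    obtain ⟨n, hn⟩ := mem_zpowers_iff.1 hz
    refine ⟨(z : G), mem_zpowers_iff.2 ⟨n, congrArg Subtype.val hn⟩, mem_map.2 ⟨z⁻¹ * ⟨g, hg⟩, MonoidHom.mem_ker.2 e, ?_⟩⟩
    rw [map_mul, map_inv, coe_subtype]

end Hyp

end Cfsg.Agent.A9ThreeLocal
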