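import Cfsg.Agent.A9ThreeLocal.Relation

/-!
The subgroup isomorphic to the alternating group of degree nine.
-/

set_option autoImplicit false
set_option synthInstance.maxSize 4000
set_option synthInstance.maxHeartbeats 400000

namespace Cfsg.Agent.A9ThreeLocal

open Equiv Equiv.Perm Subgroup ThreeFullWreath Cfsg.Agent.AltMult Cfsg.Agent.ShortPres

universe u

/-- The alternating group of degree nine. -/
abbrev A9 := alternatingGroup (Fin 9)

theorem perm_sign : ∀ m : M, sign (perm m) = 1 := by decide +kernel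

/-- The model inside the alternating group. -/
def permA : M →* A9 := perm.codRestrict (alternatingGroup (Fin 9)) fun m => mem_alternatingGroup.2 (perm_sign m)

theorem permA_injective : Function.Injective permA := fun _ _ e => perm_injective (congrArg Subtype.val e)

theorem emb_sign (x : A6) : sign (emb x) = 1 := (sign_extendDomain x.1 e36).trans (mem_alternatingGroup.1 x.2)

/-- The alternating group missing a block, inside the alternating group. -/
def embA (j : Fin 3) : A6 →* A9 :=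
  ((MulAut.conj (perm (gc ^ (j : ℕ)))).toMonoidHom.comp emb).codRestrict (alternatingGroup (Fin 9)) fun x =>
    mem_alternatingGroup.2 (by
      show sign (perm (gc ^ (j : ℕ)) * emb x * (perm (gc ^ (j : ℕ)))⁻¹) = 1
      rw [map_mul, map_mul, map_inv, emb_sign, perm_sign, mul_one, mul_inv_cancel])

theorem embA_val (j : Fin 3) (x : A6) : (embA j x : Perm (Fin 9)) = embJ j x := rfl

theorem two_cycles : ∀ i : Fin 6, ∀ h : (0 : Fin 6) ≠ i,
    embJ 2 (cycA 0 1 i (by decide) h) = cyc (0 : Fin 9) 1 ⟨i.val, by omega⟩ := by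
  decide +kernel

theorem one_cycles : ∀ i : Fin 6, ∀ h : (3 : Fin 6) ≠ i,
    embJ 1 (cycA 3 4 i (by decide) h) = cyc (0 : Fin 9) 1 ⟨(i.val + 6) % 9, by omega⟩ := by
  decide +kernel

/-- The generator `(0 1 i)` of the complement of the last line. -/
def pG (a : Fin 3) : A6 := cycA 0 1 ⟨a.val + 3, by omega⟩ (by decide) (by revert a; decide)
/-- The generator `(0 1 i)` of the complement of the middle line. -/
def qG (a : Fin 3) : A6 := cycA 3 4 ⟨a.val, by omega⟩ (by decide) (by revert a; decide)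

theorem gen_shift : ∀ a : Fin 3, b6 ^ (a : ℕ) * pA * (b6 ^ (a : ℕ))⁻¹ = pG a ∧
    a6 ^ (a : ℕ) * qA * (a6 ^ (a : ℕ))⁻¹ = qG a := by
  decide +kernel

theorem gen_model : gc * e2M * gc⁻¹ = e3M ∧ gc * e3M * gc⁻¹ = e1M ∧ perm ge = embJ 2 a6 := by decide +kernel

theorem gen_words : gc = (gc * wM * gc⁻¹) * (gc ^ 2 * wM * (gc ^ 2)⁻¹) ∧
    gd = (gc ^ 2 * wM * (gc ^ 2)⁻¹) * (gc ^ 2 * wM * (gc ^ 2)⁻¹) ∧
    gt = (gc * wM * gc⁻¹) * (gc * wM * gc⁻¹) * (gc ^ 2 * wM * (gc ^ 2)⁻¹) := by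
  decide +kernel

theorem sq_flip' {G : Type*} [Group G] {a b : G} (h : (a * b) ^ 2 = 1) : (b * a) ^ 2 = 1 := by
  calc (b * a) ^ 2 = a⁻¹ * (a * b) ^ 2 * a := by rw [pow_two, pow_two]; group
    _ = 1 := by rw [h]; group

namespace Hyp.Big

variable {G : Type u} [Group G] [Finite G] {h : Hyp G} (B : h.Big)

theorem psi2_gen_e1 : B.psi 2 a6 = B.psi 1 b6 := by
  rw [← B.psi2_e1, B.psi_apply, B.map_b, ← map_inv, ← map_mul, ← map_mul,
    show gc ^ ((1 : Fin 3) : ℕ) = gc from pow_one gc, gen_model.2.1]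

theorem psi1_e3 : h.φ e3M = B.psi 1 a6 := by
  rw [B.psi_apply, B.map_a, ← map_inv, ← map_mul, ← map_mul,
    show gc ^ ((1 : Fin 3) : ℕ) = gc from pow_one gc, gen_model.1]

theorem rel_cross (a c : Fin 3) : (B.psi 2 (pG a) * B.psi 1 (qG c)) ^ 2 = 1 := by
  set g := h.φ e2M ^ (a : ℕ) * h.φ e3M ^ (c : ℕ) with hg
  have e2 : g * B.psi 2 pA * g⁻¹ = B.psi 2 (pG a) := by
    rw [hg, mul_inv_rev, ← (gen_shift a).1, map_mul, map_mul, map_inv, map_pow, ← B.psi2_e2]
    have hc := ((B.psi2_e3 pA).pow_left (c : ℕ)).eq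
    calc h.φ e2M ^ (a : ℕ) * h.φ e3M ^ (c : ℕ) * B.psi 2 pA * ((h.φ e3M ^ (c : ℕ))⁻¹ * (h.φ e2M ^ (a : ℕ))⁻¹) =
        h.φ e2M ^ (a : ℕ) * (h.φ e3M ^ (c : ℕ) * B.psi 2 pA) * (h.φ e3M ^ (c : ℕ))⁻¹ *
          (h.φ e2M ^ (a : ℕ))⁻¹ := by group
      _ = _ := by rw [hc]; group
  have e1 : g * B.psi 1 qA * g⁻¹ = B.psi 1 (qG c) := by
    have hc : Commute (h.φ e2M ^ (a : ℕ)) (B.psi 1 (qG c)) := (B.psi1_e2 _).pow_left _
    have e3 : h.φ e3M ^ (c : ℕ) * B.psi 1 qA * (h.φ e3M ^ (c : ℕ))⁻¹ = B.psi 1 (qG c) := by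
      rw [← (gen_shift c).2, map_mul, map_mul, map_inv, map_pow, ← B.psi1_e3]
    calc g * B.psi 1 qA * g⁻¹ = h.φ e2M ^ (a : ℕ) *
          (h.φ e3M ^ (c : ℕ) * B.psi 1 qA * (h.φ e3M ^ (c : ℕ))⁻¹) * (h.φ e2M ^ (a : ℕ))⁻¹ := by
          rw [hg]; group
      _ = _ := by rw [e3, hc.eq, mul_inv_cancel_right]
  rw [← e2, ← e1, show g * B.psi 2 pA * g⁻¹ * (g * B.psi 1 qA * g⁻¹) = g * (B.psi 2 pA * B.psi 1 qA) * g⁻¹ by group,
    conj_pow, B.cross_rel, mul_one, mul_inv_cancel]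

/-- Carmichael's generators in the group. -/
def gen (x : Rest (0 : Fin 9) 1) : G :=
  if hx : x.1.val < 6 then B.psi 2 (cycR (by decide) (⟨⟨x.1.val, hx⟩,
      fun e => x.2.1 (by have := congrArg Fin.val e; exact Fin.ext this),
      fun e => x.2.2 (by have := congrArg Fin.val e; exact Fin.ext this)⟩ : Rest (0 : Fin 6) 1))
  else B.psi 1 (qG ⟨x.1.val - 6, by omega⟩)

theorem rest_ge {n : ℕ} (x : Rest (0 : Fin (n + 2)) 1) : 2 ≤ x.1.val := by
  have h1 : x.1.val ≠ 0 := fun e => x.2.1 (Fin.ext e)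
  have h2 : x.1.val ≠ 1 := fun e => x.2.2 (Fin.ext (by simpa using e))
  omega

theorem qG_eq (a : Fin 3) (h : (3 : Fin 6) ≠ ⟨a.val, by omega⟩) : cycA 3 4 ⟨a.val, by omega⟩ (by decide) h = qG a :=
  rfl

theorem rel_mixed (x y : Rest (0 : Fin 9) 1) (hx : x.1.val < 6) (hy : ¬ y.1.val < 6) :
    (B.gen x * B.gen y) ^ 2 = 1 := by
  have h2 := rest_ge (n := 7) x
  rw [gen, gen, dif_pos hx, dif_neg hy]
  rcases Nat.lt_or_ge x.1.val 3 with h3 | h3
  · have e : (cycR (by decide) (⟨⟨x.1.val, hx⟩,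
        fun e => x.2.1 (by have := congrArg Fin.val e; exact Fin.ext this),
        fun e => x.2.2 (by have := congrArg Fin.val e; exact Fin.ext this)⟩ : Rest (0 : Fin 6) 1) : A6) = a6 := by
      refine Subtype.ext ?_
      show cyc (0 : Fin 6) 1 _ = cyc 0 1 2
      congr 1
      exact Fin.ext (show x.1.val = 2 by omega)
    rw [e, B.psi2_gen_e1, ← map_mul, ← map_pow]
    have key : ∀ a : Fin 3, (b6 * qG a) ^ 2 = 1 := by decide +kernel
    rw [key, map_one]
  · have e : (cycR (by decide) (⟨⟨x.1.val, hx⟩,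
        fun e => x.2.1 (by have := congrArg Fin.val e; exact Fin.ext this),
        fun e => x.2.2 (by have := congrArg Fin.val e; exact Fin.ext this)⟩ : Rest (0 : Fin 6) 1) : A6) =
        pG ⟨x.1.val - 3, by omega⟩ := by
      refine Subtype.ext ?_
      show cyc (0 : Fin 6) 1 _ = cyc 0 1 _
      congr 1
      exact Fin.ext (show x.1.val = x.1.val - 3 + 3 by omega)
    rw [e]
    exact B.rel_cross _ _

theorem exists_embedding : ∃ Φ : A9 →* G, Function.Injective Φ ∧ (∀ x, Φ (embA 2 x) = B.psi 2 x) ∧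
    (∀ x, Φ (embA 1 x) = B.psi 1 x) := by
  classical
  have huv : (0 : Fin 9) ≠ 1 := by decide
  obtain ⟨e, he⟩ := Cfsg.Agent.LyLocal.carm_iso (β := Fin 9) huv
  have hq : ∀ a, qG a ^ 3 = 1 := by decide +kernel
  have hqq : ∀ a b, a ≠ b → (qG a * qG b) ^ 2 = 1 := by decide +kernel
  have hrels : ∀ r ∈ Cfsg.Agent.LyLocal.carmRels (0 : Fin 9) 1, FreeGroup.lift B.gen r = 1 := by
    rintro r (⟨x, rfl⟩ | ⟨x, y, hxy, rfl⟩)
    · rw [map_pow, FreeGroup.lift_apply_of, gen]
      split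
      · rw [← map_pow, cycR_pow_three, map_one]
      · rw [← map_pow, hq, map_one]
    · rw [map_pow, map_mul, FreeGroup.lift_apply_of, FreeGroup.lift_apply_of]
      have hne : x.1.val ≠ y.1.val := fun e => hxy (Subtype.ext (Fin.ext e))
      by_cases hx : x.1.val < 6 <;> by_cases hy : y.1.val < 6
      · rw [gen, gen, dif_pos hx, dif_pos hy, ← map_mul, ← map_pow, cycR_sq _ _ _ (fun e => hne (by
          exact congrArg (fun z : Rest (0 : Fin 6) 1 => z.1.val) e)), map_one]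
      · exact B.rel_mixed x y hx hy
      · exact sq_flip' (B.rel_mixed y x hy hx)
      · rw [gen, gen, dif_neg hx, dif_neg hy, ← map_mul, ← map_pow, hqq _ _ (fun e => by
          have := congrArg Fin.val e
          simp only at this
          omega), map_one]
  let Φ : A9 →* G := (PresentedGroup.toGroup hrels).comp e.symm.toMonoidHom
  have hΦ : ∀ x : Rest (0 : Fin 9) 1, Φ (cycR huv x) = B.gen x := by
    intro x
    show PresentedGroup.toGroup hrels (e.symm (cycR huv x)) = B.gen x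
    rw [← he x, e.symm_apply_apply]
    exact PresentedGroup.toGroup.of hrels
  have h6 : (0 : Fin 6) ≠ 1 := by decide
  have h34 : (3 : Fin 6) ≠ 4 := by decide
  have h2 : Φ.comp (embA 2) = B.psi 2 := MonoidHom.eq_of_eqOn_dense (closure_cycR h6) (by
    rintro _ ⟨j, rfl⟩
    let x : Rest (0 : Fin 9) 1 := ⟨⟨j.1.val, by omega⟩,
      fun e => j.2.1 (Fin.ext (by have := congrArg Fin.val e; exact this)),
      fun e => j.2.2 (Fin.ext (by have := congrArg Fin.val e; exact this))⟩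
    have e1 : embA 2 (cycR h6 j) = cycR huv x := Subtype.ext (two_cycles j.1 _)
    show Φ (embA 2 (cycR h6 j)) = B.psi 2 (cycR h6 j)
    rw [e1, hΦ, gen, dif_pos (show x.1.val < 6 from j.1.isLt)])
  have h1 : Φ.comp (embA 1) = B.psi 1 := MonoidHom.eq_of_eqOn_dense (closure_cycR h34) (by
    rintro _ ⟨j, rfl⟩
    have h3 : j.1.val ≠ 3 := fun e => j.2.1 (Fin.ext e)
    have h4 : j.1.val ≠ 4 := fun e => j.2.2 (Fin.ext e)
    let x : Rest (0 : Fin 9) 1 := ⟨⟨(j.1.val + 6) % 9, by omega⟩,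
      fun e => by have := congrArg Fin.val e; simp at this; omega,
      fun e => by have := congrArg Fin.val e; simp at this; omega⟩
    have e1 : embA 1 (cycR h34 j) = cycR huv x := Subtype.ext (one_cycles j.1 _)
    show Φ (embA 1 (cycR h34 j)) = B.psi 1 (cycR h34 j)
    rw [e1, hΦ, gen]
    rcases Nat.lt_or_ge j.1.val 3 with hj | hj
    · rw [dif_neg (show ¬ x.1.val < 6 by simp [x]; omega)]
      congr 1
      refine Subtype.ext ?_
      show cyc (3 : Fin 6) 4 _ = cyc 3 4 _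
      congr 1
      exact Fin.ext (show (j.1.val + 6) % 9 - 6 = j.1.val by omega)
    · have hj5 : j.1.val = 5 := by omega
      rw [dif_pos (show x.1.val < 6 by simp [x]; omega)]
      refine Eq.trans ?_ (B.psi2_gen_e1.trans ?_)
      · congr 1
        refine Subtype.ext ?_
        show cyc (0 : Fin 6) 1 _ = cyc 0 1 2
        congr 1
        exact Fin.ext (show (j.1.val + 6) % 9 = 2 by omega)
      · congr 1
        refine Subtype.ext ?_
        show cyc (3 : Fin 6) 4 5 = cyc 3 4 _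
        congr 1
        exact Fin.ext hj5.symm)
  refine ⟨Φ, ?_, DFunLike.congr_fun h2, DFunLike.congr_fun h1⟩
  have : IsSimpleGroup A9 := alternatingGroup.isSimpleGroup (by simp)
  rcases (MonoidHom.normal_ker Φ).eq_bot_or_eq_top with hk | hk
  · exact (MonoidHom.ker_eq_bot_iff Φ).1 hk
  · exfalso
    have : B.psi 2 a6 = 1 := (DFunLike.congr_fun h2 a6).symm.trans (MonoidHom.mem_ker.1 (by rw [hk]; exact mem_top _ : embA 2 a6 ∈ Φ.ker))
    rw [← B.psi2_e1] at this
    exact e1M_facts.2.1 (h.inj (this.trans (map_one _).symm))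

/-- An element acting as one of the complement, in the image of the model. -/
theorem map_psi {k : M} {j : Fin 3} {x : A6} (e : perm k = embJ j x) : h.φ k = B.psi j x := by
  have hm : perm ((gc ^ (j : ℕ))⁻¹ * k * gc ^ (j : ℕ)) = emb x := by
    rw [map_mul, map_mul, map_inv, e, embJ]; group
  rw [B.psi_apply, ← B.map_eq hm, map_mul, map_mul, map_inv]
  group

/-- The frame: an embedded alternating group extending the model. -/
structure Frame where
  Φ : A9 →* G
  inj : Function.Injective Φ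
  map_model : ∀ m, Φ (permA m) = h.φ m
  map_embA : ∀ j x, Φ (embA j x) = B.psi j x

theorem exists_frame : Nonempty B.Frame := by
  obtain ⟨Φ, hinj, h2, h1⟩ := B.exists_embedding
  have hword : ∀ (j : Fin 3) (x : A6) (k : M), (j = 1 ∨ j = 2) → perm k = embJ j x → Φ (permA k) = h.φ k := by
    intro j x k hj e
    rw [B.map_psi e, show permA k = embA j x from Subtype.ext e]
    rcases hj with rfl | rfl
    · exact h1 x
    · exact h2 x
  have hu1 : Φ (permA (gc * wM * gc⁻¹)) = h.φ (gc * wM * gc⁻¹) := hword 1 w6 _ (Or.inl rfl) (by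
    rw [embJ, show gc ^ ((1 : Fin 3) : ℕ) = gc from pow_one gc, map_mul, map_mul, map_inv, emb_gens.2.2])
  have hu2 : Φ (permA (gc ^ 2 * wM * (gc ^ 2)⁻¹)) = h.φ (gc ^ 2 * wM * (gc ^ 2)⁻¹) := hword 2 w6 _ (Or.inr rfl) (by
    rw [map_mul, map_mul, map_inv, emb_gens.2.2]; rfl)
  have hge : Φ (permA ge) = h.φ ge := hword 2 a6 _ (Or.inr rfl) gen_model.2.2
  have hall : ∀ m, Φ (permA m) = h.φ m := by
    intro m
    have hle : (⊤ : Subgroup M) ≤ (Φ.comp permA).eqLocus h.φ := by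
      rw [← closure_gens, closure_le]
      rintro z (rfl | rfl | rfl | rfl)
      · exact hge
      · rw [gen_words.1]; exact mul_mem (show _ ∈ (Φ.comp permA).eqLocus h.φ from hu1) hu2
      · rw [gen_words.2.1]; exact mul_mem (show _ ∈ (Φ.comp permA).eqLocus h.φ from hu2) hu2
      · rw [gen_words.2.2]; exact mul_mem (mul_mem (show _ ∈ (Φ.comp permA).eqLocus h.φ from hu1) hu1) hu2
    exact hle (mem_top m)
  refine ⟨⟨Φ, hinj, hall, ?_⟩⟩
  intro j x
  have h0 : Φ (embA 0 x) = B.psi 0 x := by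
    have e1 : embA 0 x = permA (gc ^ 2)⁻¹ * embA 2 x * (permA (gc ^ 2)⁻¹)⁻¹ := by
      refine Subtype.ext ?_
      show embJ 0 x = (perm (gc ^ 2)⁻¹) * embJ 2 x * (perm (gc ^ 2)⁻¹)⁻¹
      rw [embJ, embJ, show ((0 : Fin 3) : ℕ) = 0 from rfl, show ((2 : Fin 3) : ℕ) = 2 from rfl, pow_zero, map_one,
        map_inv]
      group
    rw [e1, map_mul Φ, map_mul Φ, map_inv Φ, hall, h2, B.psi_apply, B.psi_apply, map_inv,
      show ((0 : Fin 3) : ℕ) = 0 from rfl, show ((2 : Fin 3) : ℕ) = 2 from rfl, pow_zero, map_one]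
    group
  fin_cases j
  · exact h0
  · exact h1 x
  · exact h2 x

end Hyp.Big

end Cfsg.Agent.A9ThreeLocal
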