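import Cfsg.Agent.A9ThreeLocal.CentB
import Cfsg.Agent.S0223
import Cfsg.Agent.Invol.SEPairs

/-!
The subgroup is the whole group.
-/

set_option autoImplicit false
set_option synthInstance.maxSize 4000
set_option synthInstance.maxHeartbeats 400000

namespace Cfsg.Agent.A9ThreeLocal

open Equiv Equiv.Perm Subgroup ThreeFullWreath

universe u

variable {G : Type u} [Group G] [Finite G] {h : Hyp G}

theorem Hyp.Big.Frame.cent_conj {B : h.Big} (F : B.Frame) {a : A9}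
    (ha : centralizer ({F.Φ a} : Set G) ≤ F.H) (c : A9) :
    centralizer ({F.Φ (c * a * c⁻¹)} : Set G) ≤ F.H := by
  intro x hx
  rw [mem_centralizer_singleton_iff, map_mul, map_mul, map_inv] at hx
  have hx' : (F.Φ c)⁻¹ * x * F.Φ c ∈ centralizer ({F.Φ a} : Set G) := by
    rw [mem_centralizer_singleton_iff]
    calc (F.Φ c)⁻¹ * x * F.Φ c * F.Φ a = (F.Φ c)⁻¹ * (x * (F.Φ c * F.Φ a * (F.Φ c)⁻¹)) * F.Φ c := by group
      _ = (F.Φ c)⁻¹ * (F.Φ c * F.Φ a * (F.Φ c)⁻¹ * x) * F.Φ c := by rw [hx]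
      _ = _ := by group
  have := mul_mem (mul_mem (F.mem_H c) (ha hx')) (inv_mem (F.mem_H c))
  simpa [mul_assoc] using this

theorem Hyp.Big.Frame.H_top {B : h.Big} (F : B.Frame) : F.H = ⊤ := by
  by_contra hne
  have : Fact (Nat.Prime 2) := ⟨Nat.prime_two⟩
  have tA2 : tA * tA = 1 := Subtype.ext conj_facts.2.2.2.2.1
  have tA1 : tA ≠ 1 := fun e => b_facts.2.2.2.2.2.2.2.2 (congrArg Subtype.val e)
  have hto : orderOf (F.Φ tA) = 2 := orderOf_eq_prime (by rw [pow_two, ← map_mul, tA2, map_one])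
    (fun e => tA1 (F.inj (e.trans (map_one _).symm)))
  have hbo : orderOf (F.Φ bA) = 2 := orderOf_eq_prime (by rw [pow_two, ← map_mul, bA_sq, map_one])
    (fun e => bA_ne (F.inj (e.trans (map_one _).symm)))
  have heven : Even (Nat.card F.H) := by
    rw [even_iff_two_dvd, ← hto]
    have := _root_.orderOf_dvd_natCard (⟨F.Φ tA, F.mem_H tA⟩ : F.H)
    rwa [orderOf_mk] at this
  have hct : centralizer ({F.Φ tA} : Set G) ≤ F.H := fun g hg => by
    obtain ⟨e, v, x, -, -, hm⟩ := F.cent_t (g := g) (by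
      rw [← F.Φ_tA]; exact mem_centralizer_singleton_iff.1 hg)
    exact ⟨_, hm⟩
  have hinv : ∀ g ∈ F.H, orderOf g = 2 → ∃ m : A9, F.Φ m = g ∧ m * m = 1 ∧ m ≠ 1 := by
    rintro _ ⟨m, rfl⟩ hg
    rw [orderOf_injective F.Φ F.inj] at hg
    exact ⟨m, rfl, by rw [← pow_two, ← hg, pow_orderOf_eq_one],
      fun e => by rw [e, orderOf_one] at hg; omega⟩
  have hse : Cfsg.IsStronglyEmbedded F.H := (Cfsg.Agent.S0223.result F.H hne heven).2
    ⟨fun g hgH hg2 => by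
      obtain ⟨m, rfl, h2, h1⟩ := hinv g hgH hg2
      rcases class_cases h2 h1 with ⟨-, c, rfl⟩ | ⟨-, c, rfl⟩
      · exact F.cent_conj hct c
      · exact F.cent_conj F.cent_b c,
    fun g hgH g' hg'H hg2 hg'2 hconj => by
      obtain ⟨m, rfl, h2, h1⟩ := hinv g hgH hg2
      obtain ⟨m', rfl, h2', h1'⟩ := hinv g' hg'H hg'2
      obtain ⟨d, hd⟩ : ∃ d : A9, d * m * d⁻¹ = m' := by
        rcases class_cases h2 h1 with ⟨e, c, hc⟩ | ⟨e, c, hc⟩ <;>
          rcases class_cases h2' h1' with ⟨e', c', hc'⟩ | ⟨e', c', hc'⟩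
        · exact ⟨c' * c⁻¹, by rw [← hc, ← hc']; group⟩
        · exact absurd ((F.isA_iff h2' h1').1 (((F.isA_iff h2 h1).2 e).trans hconj)) (by omega)
        · exact absurd ((F.isA_iff h2 h1).1 (((F.isA_iff h2' h1').2 e').trans hconj.symm)) (by omega)
        · exact ⟨c' * c⁻¹, by rw [← hc, ← hc']; group⟩
      exact ⟨F.Φ d, F.mem_H d, by rw [← map_inv, ← map_mul, ← map_mul, hd]⟩⟩
  have hall := Cfsg.Agent.Invol.se_isConj_all hse hto hbo
  exact F.not_isConj_bA (by rw [← F.Φ_tA]; exact hall)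

theorem Hyp.Big.nonempty_iso (B : h.Big) : Nonempty (G ≃* A9) := by
  obtain ⟨F⟩ := B.exists_frame
  exact ⟨(MulEquiv.ofBijective F.Φ ⟨F.inj, MonoidHom.range_eq_top.1 F.H_top⟩).symm⟩

end Cfsg.Agent.A9ThreeLocal
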