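import Cfsg.Agent.A9ThreeLocal.SixAlt

/-!
Subgroups of the alternating group of degree six containing a given symmetric group of degree three.
-/

set_option autoImplicit false
set_option synthInstance.maxSize 4000
set_option synthInstance.maxHeartbeats 400000

namespace Cfsg.Agent.A9ThreeLocal

open Equiv Equiv.Perm Cfsg.Agent.AltMult

/-- An inverting element. -/
def v6 : A6 := ⟨swap 1 2 * swap 4 5, mem_alternatingGroup.2 (by decide +kernel)⟩
/-- A second involution commuting with it. -/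
def x6 : A6 := ⟨swap 0 3 * swap 4 5, mem_alternatingGroup.2 (by decide +kernel)⟩
/-- An element permuting the three pairs. -/
def d6 : A6 := cycA 0 1 4 (by decide) (by decide) * cycA 3 2 5 (by decide) (by decide)
/-- A five-cycle. -/
def f6 : A6 := cycA 1 2 3 (by decide) (by decide) * cycA 3 4 5 (by decide) (by decide)
/-- A three-cycle. -/
def g6 : A6 := cycA 1 2 3 (by decide) (by decide)
/-- The first involution of the other four-group. -/
def k1 : A6 := ⟨swap 0 1 * swap 2 3, mem_alternatingGroup.2 (by decide +kernel)⟩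
/-- The second involution of the other four-group. -/
def k2 : A6 := ⟨swap 0 2 * swap 1 3, mem_alternatingGroup.2 (by decide +kernel)⟩

/-- Fixes the point `0`. -/
def Fix0 (x : A6) : Prop := x.1 0 = 0

/-- Stabilises `{0, 3, 4, 5}`. -/
def Pres4 (x : A6) : Prop := (x.1 1 = 1 ∧ x.1 2 = 2) ∨ (x.1 1 = 2 ∧ x.1 2 = 1)

instance : DecidablePred Fix0 := fun x => by unfold Fix0; infer_instance
instance : DecidablePred Pres4 := fun x => by unfold Pres4; infer_instance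

theorem f6_apply : ∀ i : Fin 6, f6.1 i = ![0, 2, 3, 4, 5, 1] i := by decide +kernel

theorem six_base : b6 ^ 3 = 1 ∧ v6 * v6 = 1 ∧ v6 ≠ 1 ∧ v6 * b6 * v6⁻¹ = b6⁻¹ ∧ Fix0 b6 ∧ Fix0 v6 ∧
    f6 ^ 5 = 1 ∧ f6 ≠ 1 ∧ x6 * v6 = v6 * x6 ∧ x6 * x6 = 1 ∧ x6 ≠ v6 ∧ x6 ≠ 1 ∧ d6 ^ 3 = 1 ∧ d6 ≠ 1 ∧
    (d6 * v6 * d6⁻¹ = v6 ∨ d6 * v6 * d6⁻¹ = x6 ∨ d6 * v6 * d6⁻¹ = v6 * x6) ∧
    (d6 * x6 * d6⁻¹ = v6 ∨ d6 * x6 * d6⁻¹ = x6 ∨ d6 * x6 * d6⁻¹ = v6 * x6) := by
  decide +kernel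

/-- The four-group on the four points. -/
def InV (x : A6) : Prop := x = 1 ∨ x = k1 ∨ x = k2 ∨ x = k1 * k2

/-- The four-group on three pairs. -/
def InP (x : A6) : Prop := x = 1 ∨ x = v6 ∨ x = x6 ∨ x = v6 * x6

instance : DecidablePred InV := fun x => by unfold InV; infer_instance
instance : DecidablePred InP := fun x => by unfold InP; infer_instance

theorem cent_InV : ∀ x : A6, x * k1 = k1 * x → x * k2 = k2 * x → InV x := by decide +kernel

theorem cent_InP : ∀ x : A6, x * v6 = v6 * x → x * x6 = x6 * x → InP x := by decide +kernel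

theorem InP_d6 : ∀ x : A6, InP x → x * d6 = d6 * x → x = 1 := by decide +kernel

theorem InV_facts : (∀ x : A6, InV x → x * x = 1) ∧ (∀ x : A6, InV x → x * a6 = a6 * x → x = 1) ∧
    (∀ x y : A6, InV x → InV y → InV (x * y) ∧ x * y = y * x) ∧ InV k1 ∧ InV k2 ∧
    k1 * a6 ≠ a6 * k1 ∧ (∀ x : A6, InV x → InV (a6 * x * a6⁻¹)) ∧
    (∀ x : A6, InV x → ∃ y : A6, InV y ∧ x = a6 * y * a6⁻¹ * y⁻¹) := by
  decide +kernel

theorem six_cases : ∀ x : A6, x ^ 3 = 1 ∨ x ^ 4 = 1 ∨ x ^ 5 = 1 := by decide +kernel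

theorem six_cube_class : ∀ x : A6, x ^ 3 = 1 → x ≠ 1 → ∃ z : A6, z * x * z⁻¹ = a6 ∨ z * x * z⁻¹ = a6 * b6 := by
  decide +kernel

/-- An element of the centraliser outside the cyclic group. -/
def Bad (x : A6) : Prop := x * b6 = b6 * x ∧ x ≠ 1 ∧ x ≠ b6 ∧ x ≠ b6⁻¹

instance : DecidablePred Bad := fun x => by unfold Bad; infer_instance

/-- Words in three elements. -/
def word3 (w : List (Fin 3)) (b v x : A6) : A6 :=
  (w.map fun i => ([b, v, x].getD i.val 1)).prod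

/-- The words detecting a wrong three-cycle. -/
def badWords : List (List (Fin 3)) :=
  [[1, 2, 1, 2, 2], [1, 2, 2, 1, 2], [1, 2, 1, 0, 2, 2], [1, 2, 2, 1, 0, 2], [1, 2, 2, 0, 1, 2], [1, 2, 0, 1, 2, 2]]

/-- The words moving the first three-cycle. -/
def moveWords : List (List (Fin 3)) := [[2], [2, 2], [2, 0, 2], [2, 1, 2], [2, 2, 2], [2, 0, 1, 2]]

theorem conj_good : ∀ g : A6, Fix0 (g * b6 * g⁻¹) ∨ Pres4 (g * b6 * g⁻¹) ∨
    ∃ w ∈ badWords, Bad (word3 w b6 v6 (g * b6 * g⁻¹)) := by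
  decide +kernel

theorem move_bad : ∀ x : A6, Fix0 x ∨ Pres4 x ∨ Bad x ∨ Bad (x * v6) ∨ ∃ w ∈ moveWords,
    ¬ Fix0 (word3 w b6 v6 x * b6 * (word3 w b6 v6 x)⁻¹) ∧
    ¬ Pres4 (word3 w b6 v6 x * b6 * (word3 w b6 v6 x)⁻¹) := by
  decide +kernel

theorem word3_mem {L : Subgroup A6} {b v x : A6} (hb : b ∈ L) (hv : v ∈ L) (hx : x ∈ L) (w : List (Fin 3)) :
    word3 w b v x ∈ L := by
  refine L.list_prod_mem fun y hy => ?_
  obtain ⟨i, -, rfl⟩ := List.mem_map.1 hy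
  fin_cases i <;> assumption

/-- A subgroup containing the symmetric group, in which the three-cycle is self-centralising, lies in a
point stabiliser or stabilises four points. -/
theorem six_subgroup {L : Subgroup A6} (hb : b6 ∈ L) (hv : v6 ∈ L) (hbad : ∀ x ∈ L, ¬ Bad x) :
    (∀ x ∈ L, Fix0 x) ∨ ∀ x ∈ L, Pres4 x := by
  have h1 : ∀ x ∈ L, Fix0 x ∨ Pres4 x := by
    intro x hx
    rcases move_bad x with e | e | e | e | ⟨w, -, e1, e2⟩
    · exact Or.inl e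
    · exact Or.inr e
    · exact absurd e (hbad x hx)
    · exact absurd e (hbad _ (mul_mem hx hv))
    · have hm := word3_mem hb hv hx w
      rcases conj_good (word3 w b6 v6 x) with e | e | ⟨w', -, e⟩
      · exact absurd e e1
      · exact absurd e e2
      · exact absurd e (hbad _ (word3_mem hb hv (mul_mem (mul_mem hm hb) (inv_mem hm)) w'))
  by_cases hf : ∀ x ∈ L, Fix0 x
  · exact Or.inl hf
  right
  push Not at hf
  obtain ⟨x, hx, hxf⟩ := hf
  intro y hy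
  by_contra hyp
  have hyf := (h1 y hy).resolve_right hyp
  have hxp := (h1 x hx).resolve_left hxf
  have key : ∀ y : A6, Fix0 y → ¬ Pres4 y → ∀ x : A6, ¬ Fix0 x → Pres4 x → ¬ Fix0 (x * y) ∧ ¬ Pres4 (x * y) := by
    intro y hyf hyp x hxf hxp
    refine ⟨fun e => hxf ?_, fun e => hyp ?_⟩
    · unfold Fix0 at e hyf ⊢
      rwa [Subgroup.coe_mul, Equiv.Perm.mul_apply, hyf] at e
    · unfold Pres4 at e hxp ⊢
      simp only [Subgroup.coe_mul, Equiv.Perm.mul_apply] at e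
      rcases hxp with ⟨p1, p2⟩ | ⟨p1, p2⟩ <;> rcases e with ⟨q1, q2⟩ | ⟨q1, q2⟩
      · exact Or.inl ⟨x.1.injective (q1.trans p1.symm), x.1.injective (q2.trans p2.symm)⟩
      · exact Or.inr ⟨x.1.injective (q1.trans p2.symm), x.1.injective (q2.trans p1.symm)⟩
      · exact Or.inr ⟨x.1.injective (q1.trans p2.symm), x.1.injective (q2.trans p1.symm)⟩
      · exact Or.inl ⟨x.1.injective (q1.trans p1.symm), x.1.injective (q2.trans p2.symm)⟩
  obtain ⟨k1', k2'⟩ := key y hyf hyp x hxf hxp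
  exact (h1 _ (mul_mem hx hy)).elim k1' k2'

/-- Conjugates of an element under the symmetric group. -/
def coreGen (x : A6) : List A6 :=
  [x, b6 * x * b6⁻¹, v6 * x * v6⁻¹, v6 * (b6 * x * b6⁻¹) * v6⁻¹, b6 * (b6 * x * b6⁻¹) * b6⁻¹]

/-- Products of conjugates. -/
def word5 (w : List (Fin 5)) (x : A6) : A6 := (w.map fun i => (coreGen x).getD i.val 1).prod

/-- The words giving an element of order three. -/
def coreWords : List (List (Fin 5)) := [[0, 0, 0, 1], [0, 0, 1], [0, 1, 0, 4], [0, 2, 1, 3], [0, 3]]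

theorem fix_core : ∀ x : A6, Fix0 x → x ≠ 1 → ∃ w ∈ coreWords, word5 w x ^ 3 = 1 ∧ word5 w x ≠ 1 := by
  decide +kernel

theorem word5_mem {R : Subgroup A6} {x : A6} (hx : x ∈ R) (hb : ∀ y ∈ R, b6 * y * b6⁻¹ ∈ R)
    (hv : ∀ y ∈ R, v6 * y * v6⁻¹ ∈ R) (w : List (Fin 5)) : word5 w x ∈ R := by
  refine R.list_prod_mem fun y hy => ?_
  obtain ⟨i, -, rfl⟩ := List.mem_map.1 hy
  fin_cases i
  · exact hx
  · exact hb _ hx
  · exact hv _ hx
  · exact hv _ (hb _ hx)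
  · exact hb _ (hb _ hx)

/-- The words giving the second involution. -/
def pairWords : List (List (Fin 4)) :=
  [[2, 1, 2, 2, 1, 3], [2, 1, 3, 1, 3, 3], [2, 0, 2, 0, 3, 0, 3], [1, 2], [0, 1, 2, 0], [0, 2, 1, 0]]

/-- Words in three elements and an inverse. -/
def word4 (w : List (Fin 4)) (b v x : A6) : A6 := (w.map fun i => ([b, v, x, x⁻¹].getD i.val 1)).prod

theorem word4_mem {L : Subgroup A6} {b v x : A6} (hb : b ∈ L) (hv : v ∈ L) (hx : x ∈ L) (w : List (Fin 4)) :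
    word4 w b v x ∈ L := by
  refine L.list_prod_mem fun y hy => ?_
  obtain ⟨i, -, rfl⟩ := List.mem_map.1 hy
  fin_cases i <;> first | assumption | exact inv_mem hx

theorem pres_pair : ∀ x : A6, Pres4 x → ¬ Fix0 x → ∃ w ∈ pairWords, word4 w b6 v6 x = x6 := by decide +kernel

theorem five_fix : ∀ x : A6, x ^ 5 = 1 → x ≠ 1 → ¬ Pres4 x := by decide +kernel

/-- The words giving the five-cycle. -/
def fiveWords : List (List (Fin 4)) :=
  [[0, 2, 1, 0, 2, 1, 2], [0, 2, 1, 2, 1, 0, 2], [0, 3, 1, 0, 3, 1, 3], [0, 3, 1, 3, 1, 0, 3], [0, 2, 0, 3],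
    [0, 3, 0, 2], [0, 2, 0, 0, 3], [0, 3, 0, 0, 2]]

/-- The words giving the three-cycle. -/
def threeWords : List (List (Fin 4)) :=
  [[2, 0, 1, 2, 1, 0, 2], [2, 1, 0, 2, 0, 1, 2], [3, 0, 1, 3, 1, 0, 3], [3, 1, 0, 3, 0, 1, 3], [2, 0, 3],
    [3, 0, 2], [2, 0, 0, 3], [3, 0, 0, 2]]

theorem five_words : ∀ x : A6, x ^ 5 = 1 → x ≠ 1 → Fix0 x →
    (∃ w ∈ fiveWords, word4 w b6 v6 x = f6) ∧ ∃ w ∈ threeWords, word4 w b6 v6 x = g6 := by
  decide +kernel

theorem fix_words : ∀ x : A6, Fix0 x → ∃ i k : Fin 5, ∃ j l : Fin 3, ∃ e : Fin 2,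
    x = f6 ^ (i : ℕ) * g6 ^ (j : ℕ) * (f6 ^ (k : ℕ) * g6 ^ (l : ℕ)) * v6 ^ (e : ℕ) := by
  decide +kernel

/-- A subgroup with an element of order five contains the point stabiliser. -/
theorem fix_le {L : Subgroup A6} (hb : b6 ∈ L) (hv : v6 ∈ L) {y : A6} (hy : y ∈ L) (h5 : y ^ 5 = 1) (h1 : y ≠ 1)
    (hf : Fix0 y) : ∀ x : A6, Fix0 x → x ∈ L := by
  obtain ⟨⟨w, -, ew⟩, ⟨w', -, ew'⟩⟩ := five_words y h5 h1 hf
  have hf6 : f6 ∈ L := ew ▸ word4_mem hb hv hy w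
  have hg6 : g6 ∈ L := ew' ▸ word4_mem hb hv hy w'
  intro x hx
  obtain ⟨i, k, j, l, e, rfl⟩ := fix_words x hx
  exact mul_mem (mul_mem (mul_mem (pow_mem hf6 _) (pow_mem hg6 _)) (mul_mem (pow_mem hf6 _) (pow_mem hg6 _)))
    (pow_mem hv _)

theorem fix_five : ∃ y : A6, y ^ 5 = 1 ∧ y ≠ 1 ∧ Fix0 y := ⟨f6, by decide +kernel⟩

end Cfsg.Agent.A9ThreeLocal
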