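import Cfsg.Agent.A9ThreeLocal.Big
import Cfsg.Agent.A9ThreeLocal.SixFacts
import Cfsg.Agent.S3331
import Cfsg.Agent.Coprime.Generation

/-!
The centraliser of a four-group on four points.
-/

set_option autoImplicit false
set_option synthInstance.maxSize 4000
set_option synthInstance.maxHeartbeats 400000

namespace Cfsg.Agent.A9ThreeLocal

open Equiv Equiv.Perm Subgroup ThreeFullWreath

universe u

/-- The involution inverting the last two lines. -/
def tM : M :=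
  SemidirectProduct.inl (Multiplicative.ofAdd (0, 2, 2)) *
    SemidirectProduct.inr (SemidirectProduct.inl (Multiplicative.ofAdd (0, 1)))

theorem klein_model : perm tM = emb v6 ∧ gc ^ 2 * e1M * (gc ^ 2)⁻¹ = e3M ∧ gc ^ 2 * e2M * (gc ^ 2)⁻¹ = e1M ∧
    gc ^ 2 * e3M * (gc ^ 2)⁻¹ = e2M ∧ Stab0 ((gc ^ 2)⁻¹ * tM * gc ^ 2) ∧
    perm tM * embJ 2 k1 * (perm tM)⁻¹ = embJ 2 k1 ∧ perm tM * embJ 2 k2 * (perm tM)⁻¹ = embJ 2 k2 := by
  decide +kernel

theorem skew_facts : ∀ i : Fin 3, i ≠ 0 → cls (e1M ^ (i : ℕ) * e2M) ≠ cls e3M ∧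
    cls (e1M ^ (i : ℕ) * e2M) ≠ cls e3M⁻¹ ∧ cls (e1M ^ (i : ℕ) * (e2M * e3M)) ≠ cls e3M ∧
    cls (e1M ^ (i : ℕ) * (e2M * e3M)) ≠ cls e3M⁻¹ ∧ (e1M ^ (i : ℕ) * e2M).right = 1 ∧
    (e1M ^ (i : ℕ) * (e2M * e3M)).right = 1 ∧ cls (e3M ^ (i : ℕ) * e1M) = cls uM := by
  decide +kernel

theorem skew_cent : ∀ i : Fin 3, i ≠ 0 → ∀ m : M, m * (e3M ^ (i : ℕ) * e1M) = e3M ^ (i : ℕ) * e1M * m →
    m * e3M = e3M * m ∨ m * e3M * m⁻¹ = e1M ∨ m * e3M * m⁻¹ = e1M⁻¹ := by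
  decide +kernel

theorem cover_three {Q : Type*} [Group Q] (h : Nat.card Q = 3) (K : Subgroup Q) (hK : ¬ 3 ∣ Nat.card K) :
    K = ⊥ := by
  rcases (Nat.dvd_prime Nat.prime_three).1 (h ▸ card_subgroup_dvd_card K) with e | e
  · exact eq_bot_of_card_eq K e
  · exact absurd (e ▸ dvd_rfl) hK

theorem cover_perm (K : Subgroup (Perm (Fin 3))) [K.Normal] (hK : ¬ 3 ∣ Nat.card K) : K = ⊥ := by
  have key : ∀ σ : Perm (Fin 3), σ ≠ 1 →
      σ ^ 3 = 1 ∨ ((σ * ((swap 0 1 * swap 1 2) * σ * (swap 0 1 * swap 1 2)⁻¹)) ^ 3 = 1 ∧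
        σ * ((swap 0 1 * swap 1 2) * σ * (swap 0 1 * swap 1 2)⁻¹) ≠ 1) := by
    decide +kernel
  rw [eq_bot_iff]
  intro σ hσ
  rw [mem_bot]
  by_contra hne
  obtain ⟨z, hz, hz3, hz1⟩ : ∃ z ∈ K, z ^ 3 = 1 ∧ z ≠ 1 := by
    rcases key σ hne with e | ⟨e1, e2⟩
    · exact ⟨σ, hσ, e, hne⟩
    · exact ⟨_, mul_mem hσ (‹K.Normal›.conj_mem σ hσ _), e1, e2⟩
  haveI : Fact (Nat.Prime 3) := ⟨Nat.prime_three⟩
  refine hK ?_
  have := _root_.orderOf_dvd_natCard (⟨z, hz⟩ : K)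
  rwa [orderOf_mk, orderOf_eq_prime hz3 hz1] at this

theorem cover_alt (K : Subgroup (alternatingGroup (Fin 5))) [K.Normal] (hK : ¬ 3 ∣ Nat.card K) : K = ⊥ := by
  have : IsSimpleGroup (alternatingGroup (Fin 5)) := alternatingGroup.isSimpleGroup (by simp)
  rcases (‹K.Normal›).eq_bot_or_eq_top with e | e
  · exact e
  · refine absurd ?_ hK
    rw [e, card_top, nat_card_alternatingGroup, Nat.card_eq_fintype_card, Fintype.card_fin]
    decide

variable {G : Type u} [Group G] [Finite G]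

/-- The kernel of a map onto a group without normal subgroups of order prime to three is invariant under
everything normalising the source. -/
theorem ker_invariant {W : Subgroup G} {Q : Type*} [Group Q] (f : W →* Q) (hf : Function.Surjective f)
    (hQ : ∀ K : Subgroup Q, K.Normal → ¬ 3 ∣ Nat.card K → K = ⊥) (h3 : ¬ 3 ∣ Nat.card f.ker) {s : G}
    (hs : s ∈ normalizer (W : Set G)) :
    ∀ r ∈ f.ker.map W.subtype, s * r * s⁻¹ ∈ f.ker.map W.subtype := by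
  let c : W →* W :=
    (((MulAut.conj s).toMonoidHom).comp W.subtype).codRestrict W fun x => (mem_normalizer_iff.1 hs x).1 x.2
  have hc : Function.Surjective c :=
    Finite.injective_iff_surjective.1 fun x y e => Subtype.ext ((MulAut.conj s).injective (congrArg Subtype.val e))
  have hK : (f.ker.map c).map f = ⊥ := by
    refine hQ _ ((Subgroup.Normal.map (Subgroup.Normal.map (MonoidHom.normal_ker f) c hc) f hf)) fun hd => h3 ?_
    exact hd.trans ((card_map_dvd _ f).trans (card_map_dvd _ c))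
  rintro _ ⟨r, hr, rfl⟩
  refine ⟨c r, ?_, rfl⟩
  have := mem_map_of_mem f (mem_map_of_mem c hr)
  rw [hK, mem_bot] at this
  exact this

namespace Hyp.Big

variable {h : Hyp G} (B : h.Big)

/-- The centraliser of a four-group on four points. -/
def W : Subgroup G := centralizer ({B.psi 2 k1, B.psi 2 k2} : Set G)

theorem mem_W {g : G} : g ∈ B.W ↔ g * B.psi 2 k1 = B.psi 2 k1 * g ∧ g * B.psi 2 k2 = B.psi 2 k2 * g := by
  simp only [W, mem_centralizer_iff, Set.mem_insert_iff, Set.mem_singleton_iff, forall_eq_or_imp, forall_eq,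
    eq_comm]

theorem psi_inj (j : Fin 3) : Function.Injective (B.psi j) :=
  (MulAut.conj (h.φ (gc ^ (j : ℕ)))).injective.comp B.inj

theorem psi_InV {x : A6} (hx : InV x) {g : G} (hg : g ∈ B.W) : g * B.psi 2 x = B.psi 2 x * g := by
  obtain ⟨g1, g2⟩ := B.mem_W.1 hg
  rcases hx with rfl | rfl | rfl | rfl
  · rw [map_one, mul_one, one_mul]
  · exact g1
  · exact g2
  · rw [map_mul]; exact (show Commute g _ from g1).mul_right g2

theorem psi2_e1 : h.φ e1M = B.psi 2 a6 := by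
  rw [B.psi_apply, B.map_a, ← map_inv, ← map_mul, ← map_mul]
  exact congrArg h.φ klein_model.2.2.1.symm

theorem psi2_e3 (x : A6) : Commute (h.φ e3M) (B.psi 2 x) := by
  rw [← klein_model.2.1, map_mul, map_mul, map_inv, B.psi_apply]
  exact (show Commute (h.φ e1M) (B.ψ x) from (B.cent x).symm).conj (h.φ (gc ^ 2))

theorem InV_mem_W {x : A6} (hx : InV x) : B.psi 2 x ∈ B.W := by
  obtain ⟨-, -, hmul, i1, i2, -⟩ := InV_facts
  exact B.mem_W.2 ⟨by rw [← map_mul, ← map_mul, (hmul x k1 hx i1).2],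
    by rw [← map_mul, ← map_mul, (hmul x k2 hx i2).2]⟩

theorem e3_mem_W : h.φ e3M ∈ B.W := B.mem_W.2 ⟨(B.psi2_e3 k1).eq, (B.psi2_e3 k2).eq⟩

theorem t_mem_W : B.ψ v6 ∈ B.W := by
  obtain ⟨et, -, -, -, hs, h1, h2⟩ := klein_model
  rw [← B.map_eq et, B.mem_W]
  exact ⟨mul_inv_eq_iff_eq_mul.1 (B.equiv (i := 2) (j := 2) hs h1),
    mul_inv_eq_iff_eq_mul.1 (B.equiv (i := 2) (j := 2) hs h2)⟩

theorem e1_pow_notMem (i : Fin 3) (hi : h.φ (e1M ^ (i : ℕ)) ∈ B.W) : i = 0 := by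
  have key : ∀ i : Fin 3, a6 ^ (i : ℕ) * k1 = k1 * a6 ^ (i : ℕ) → i = 0 := by decide +kernel
  refine key i (B.psi_inj 2 ?_)
  rw [map_mul, map_mul, map_pow, ← B.psi2_e1, ← map_pow]
  exact (B.mem_W.1 hi).1

theorem cent_e3 {g : G} (hg : g ∈ B.W) (he : g * h.φ e3M = h.φ e3M * g) :
    ∃ i : Fin 3, ∃ x : A6, InV x ∧ g = h.φ (e3M ^ (i : ℕ)) * B.psi 2 x := by
  set c := h.φ (gc ^ 2) with hc
  have hconj : c * h.φ e1M * c⁻¹ = h.φ e3M := by rw [hc, ← map_inv, ← map_mul, ← map_mul, klein_model.2.1]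
  obtain ⟨z, hz, x, hx⟩ := B.dec (c⁻¹ * g * c) (by
    calc c⁻¹ * g * c * h.φ e1M = c⁻¹ * (g * (c * h.φ e1M * c⁻¹)) * c := by group
      _ = c⁻¹ * (h.φ e3M * g) * c := by rw [hconj, he]
      _ = h.φ e1M * (c⁻¹ * g * c) := by rw [← hconj]; group)
  have he13 : h.φ e1M ^ 3 = 1 := by rw [← map_pow, e1M_facts.1, map_one]
  obtain ⟨i, hi⟩ : ∃ i : Fin 3, z = h.φ e1M ^ (i : ℕ) := by
    rcases zpowers_three_cases he13 hz with e | e | e
    · exact ⟨0, by rw [e]; simp⟩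
    · exact ⟨1, by rw [e]; simp⟩
    · exact ⟨2, by rw [e]; exact (eq_inv_of_mul_eq_one_left (by rw [← pow_succ]; exact he13)).symm⟩
  have hgz : g = h.φ (e3M ^ (i : ℕ)) * B.psi 2 x := by
    have e1 : c * z * c⁻¹ = h.φ (e3M ^ (i : ℕ)) := by rw [hi, ← conj_pow, hconj, map_pow]
    have e2 : B.psi 2 x = c * B.ψ x * c⁻¹ := rfl
    rw [← e1, e2, hx]
    group
  refine ⟨i, x, cent_InV x (B.psi_inj 2 ?_) (B.psi_inj 2 ?_), hgz⟩
  all_goals
    rw [map_mul, map_mul]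
    have hb : B.psi 2 x = h.φ (e3M ^ (i : ℕ))⁻¹ * g := by rw [hgz, map_inv, inv_mul_cancel_left]
    rw [hb]
    have hi' : ∀ y, Commute (h.φ (e3M ^ (i : ℕ))⁻¹) (B.psi 2 y) := fun y => by
      rw [map_inv, map_pow]; exact ((B.psi2_e3 y).pow_left _).inv_left
  · exact (hi' k1).mul_left (B.mem_W.1 hg).1
  · exact (hi' k2).mul_left (B.mem_W.1 hg).2

theorem cent_e1_inV {g : G} {i : Fin 3} {x : A6} (hx : InV x) (hg : g = h.φ (e3M ^ (i : ℕ)) * B.psi 2 x)
    (hc : g * h.φ e1M = h.φ e1M * g) : x = 1 := by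
  refine InV_facts.2.1 x hx (B.psi_inj 2 ?_)
  rw [map_mul, map_mul, ← B.psi2_e1]
  have he : Commute (h.φ (e3M ^ (i : ℕ))⁻¹) (h.φ e1M) := by
    refine (show Commute (e3M ^ (i : ℕ))⁻¹ e1M from ?_).map h.φ
    exact ((show Commute e3M e1M from trans_comm rfl rfl).pow_left _).inv_left
  have hb : B.psi 2 x = h.φ (e3M ^ (i : ℕ))⁻¹ * g := by rw [hg, map_inv, inv_mul_cancel_left]
  rw [hb]
  exact he.mul_left hc

theorem cent_skew {g : G} {i : Fin 3} (hi : i ≠ 0) (hg : g ∈ B.W)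
    (hc : g * (h.φ e3M ^ (i : ℕ) * h.φ e1M) = h.φ e3M ^ (i : ℕ) * h.φ e1M * g) :
    g ∈ zpowers (h.φ e3M) := by
  rw [← map_pow, ← map_mul] at hc
  obtain ⟨k, hk⟩ := isConj_iff.1 (isConj_iff_cls.2 (skew_facts i hi).2.2.2.2.2.2.symm)
  obtain ⟨m, rfl⟩ : g ∈ h.φ.range := by
    have hmem : g ∈ centralizer ({h.φ (k * uM * k⁻¹)} : Set G) :=
      mem_centralizer_singleton_iff.2 (by rw [hk]; exact hc)
    rw [map_mul, map_mul, map_inv, mem_centralizer_conj] at hmem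
    obtain ⟨n, hn⟩ := h.cent_u hmem
    exact ⟨k * n * k⁻¹, by rw [map_mul, map_mul, map_inv, hn]; group⟩
  have hm : m * (e3M ^ (i : ℕ) * e1M) = e3M ^ (i : ℕ) * e1M * m :=
    h.inj ((map_mul h.φ m _).trans (hc.trans (map_mul h.φ _ m).symm))
  have h3 : h.φ m * h.φ e3M = h.φ e3M * h.φ m := by
    rcases skew_cent i hi m hm with e | e | e
    · rw [← map_mul, ← map_mul, e]
    all_goals
      exfalso
      have hmem : h.φ (m * e3M * m⁻¹) ∈ B.W := by
        rw [map_mul, map_mul, map_inv]; exact mul_mem (mul_mem hg B.e3_mem_W) (inv_mem hg)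
      rw [e] at hmem
    · exact absurd (B.e1_pow_notMem 1 (by simpa using hmem)) (by decide)
    · exact absurd (B.e1_pow_notMem 1 (by simpa using inv_mem hmem)) (by decide)
  obtain ⟨j, x, hx, he⟩ := B.cent_e3 hg h3
  have hm1 : h.φ m * h.φ e1M = h.φ e1M * h.φ m := by
    have c3 : Commute (h.φ m) (h.φ e3M ^ (i : ℕ)) := (show Commute _ _ from h3).pow_right _
    have c13 : Commute (h.φ m) (h.φ e3M ^ (i : ℕ) * h.φ e1M) := by
      rw [← map_pow, ← map_mul]; exact hc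
    have := c3.inv_right.mul_right c13
    rwa [inv_mul_cancel_left] at this
  rw [he, B.cent_e1_inV hx he hm1, map_one, mul_one, map_pow]
  exact pow_mem (mem_zpowers _) _

theorem W_three {g : G} (hg : g ∈ B.W) (h3 : g ^ 3 = 1) : ∃ w ∈ B.W, w * g * w⁻¹ ∈ zpowers (h.φ e3M) := by
  classical
  haveI : Fact (Nat.Prime 3) := ⟨Nat.prime_three⟩
  have e33 : h.φ e3M ^ 3 = 1 := by rw [← map_pow, trans_cube e3M rfl, map_one]
  set E : Subgroup B.W := zpowers ⟨h.φ e3M, B.e3_mem_W⟩ with hE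
  have hE3 : IsPGroup 3 E := by
    intro x
    refine ⟨1, Subtype.ext ?_⟩
    obtain ⟨n, hn⟩ := mem_zpowers_iff.1 x.2
    show (x : B.W) ^ 3 ^ 1 = 1
    rw [← hn, pow_one, ← zpow_natCast, ← zpow_mul, mul_comm, zpow_mul, zpow_natCast,
      show (⟨h.φ e3M, B.e3_mem_W⟩ : B.W) ^ 3 = 1 from Subtype.ext e33, one_zpow]
  obtain ⟨P, hP⟩ := hE3.exists_le_sylow
  have hPE : (P : Subgroup B.W) = E := by
    refine (le_antisymm (fun x hx => ?_) hP)
    by_contra hne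
    have hlt : E.subgroupOf (P : Subgroup B.W) < ⊤ :=
      lt_top_iff_ne_top.2 fun e => hne ((subgroupOf_eq_top.1 e) hx)
    haveI : Group.IsNilpotent (P : Subgroup B.W) := P.2.isNilpotent
    obtain ⟨q, hqN, hqE⟩ := SetLike.exists_of_lt (Group.normalizerCondition_of_isNilpotent _ hlt)
    obtain ⟨k, hk⟩ := P.2 q
    have hq3 : ((q : B.W) : G) ^ 3 ^ k = 1 :=
      congrArg (fun z : (P : Subgroup B.W) => ((z : B.W) : G)) hk
    have hmem := (mem_normalizer_iff.1 hqN ⟨⟨h.φ e3M, B.e3_mem_W⟩, hP (mem_zpowers _)⟩).1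
      (mem_subgroupOf.2 (mem_zpowers _))
    obtain ⟨n, hn⟩ := mem_zpowers_iff.1 (mem_subgroupOf.1 hmem)
    have hn' : ((q : B.W) : G) * h.φ e3M * ((q : B.W) : G)⁻¹ ∈ zpowers (h.φ e3M) :=
      mem_zpowers_iff.2 ⟨n, by simpa using congrArg Subtype.val hn⟩
    set a := ((q : B.W) : G)
    have hae : a * h.φ e3M = h.φ e3M * a := by
      rcases zpowers_three_cases e33 hn' with e | e | e
      · exfalso
        have := h.inj ((conj_eq_one_iff.1 e).trans (map_one _).symm)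
        exact absurd this (by decide +kernel)
      · exact mul_inv_eq_iff_eq_mul.1 e
      · have h2 : ∀ j : ℕ, a ^ (2 * j + 1) * h.φ e3M * (a ^ (2 * j + 1))⁻¹ = (h.φ e3M)⁻¹ := by
          intro j
          induction j with
          | zero => simpa using e
          | succ j ih =>
            rw [show 2 * (j + 1) + 1 = (2 * j + 1) + 1 + 1 by ring, pow_succ', pow_succ']
            calc a * (a * a ^ (2 * j + 1)) * h.φ e3M * (a * (a * a ^ (2 * j + 1)))⁻¹ =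
                a * (a * (a ^ (2 * j + 1) * h.φ e3M * (a ^ (2 * j + 1))⁻¹) * a⁻¹) * a⁻¹ := by group
              _ = a * (a * (h.φ e3M)⁻¹ * a⁻¹) * a⁻¹ := by rw [ih]
              _ = a * (a * h.φ e3M * a⁻¹)⁻¹ * a⁻¹ := by group
              _ = (h.φ e3M)⁻¹ := by rw [e, inv_inv, e]
        obtain ⟨j, hj⟩ : Odd (3 ^ k) := (Nat.odd_iff.2 (by norm_num)).pow
        have h4 := h2 j
        rw [← hj, hq3] at h4
        exfalso
        simp only [one_mul, inv_one, mul_one] at h4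
        rw [← map_inv] at h4
        exact absurd (h.inj h4) (by decide +kernel)
    obtain ⟨i, x, hx', ha⟩ := B.cent_e3 (show a ∈ B.W from (q : B.W).2) hae
    have hc : Commute (h.φ (e3M ^ (i : ℕ))) (B.psi 2 x) := by rw [map_pow]; exact (B.psi2_e3 x).pow_left _
    have hx1 : x = 1 := by
      have h1 : a ^ 3 ^ k = 1 := hq3
      rw [ha, hc.mul_pow] at h1
      have h2 : h.φ (e3M ^ (i : ℕ)) ^ 3 ^ k = 1 := by
        rcases k with _ | k
        · simp only [pow_zero, pow_one] at h1 ⊢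
          have hxx : B.psi 2 x * B.psi 2 x = 1 := by rw [← map_mul, InV_facts.1 x hx', map_one]
          have h6 : h.φ (e3M ^ (i : ℕ)) = B.psi 2 x := by
            rw [eq_inv_of_mul_eq_one_left h1, inv_eq_of_mul_eq_one_right hxx]
          have h7 : h.φ (e3M ^ (i : ℕ)) * h.φ (e3M ^ (i : ℕ)) = 1 := by rw [h6, hxx]
          have h8 : h.φ (e3M ^ (i : ℕ)) ^ 3 = 1 := by rw [map_pow, ← pow_mul, mul_comm, pow_mul, e33, one_pow]
          rwa [pow_three, h7, mul_one] at h8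
        · rw [pow_succ', pow_mul, ← map_pow h.φ, ← pow_mul, mul_comm, pow_mul, trans_cube e3M rfl, one_pow,
            map_one, one_pow]
      rw [h2, one_mul] at h1
      obtain ⟨j, hj⟩ : Odd (3 ^ k) := (Nat.odd_iff.2 (by norm_num)).pow
      rw [hj, pow_succ, pow_mul, pow_two, ← map_mul, InV_facts.1 x hx', map_one, one_pow, one_mul] at h1
      exact B.psi_inj 2 (h1.trans (map_one _).symm)
    refine hqE (mem_subgroupOf.2 ?_)
    show (q : B.W) ∈ zpowers (⟨h.φ e3M, B.e3_mem_W⟩ : B.W)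
    refine mem_zpowers_iff.2 ⟨(i : ℕ), Subtype.ext ?_⟩
    show h.φ e3M ^ ((i : ℕ) : ℤ) = a
    rw [ha, hx1, map_one, mul_one, map_pow, zpow_natCast]
  have hgP : IsPGroup 3 (zpowers (⟨g, hg⟩ : B.W)) := by
    intro x
    refine ⟨1, Subtype.ext ?_⟩
    obtain ⟨n, hn⟩ := mem_zpowers_iff.1 x.2
    show (x : B.W) ^ 3 ^ 1 = 1
    rw [← hn, pow_one, ← zpow_natCast, ← zpow_mul, mul_comm, zpow_mul, zpow_natCast,
      show (⟨g, hg⟩ : B.W) ^ 3 = 1 from Subtype.ext h3, one_zpow]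
  obtain ⟨R, hR⟩ := hgP.exists_le_sylow
  obtain ⟨c, hc⟩ := MulAction.exists_smul_eq B.W R P
  have hmem : c * ⟨g, hg⟩ * c⁻¹ ∈ E := by
    rw [← hPE, ← hc, Sylow.coe_subgroup_smul]
    exact ⟨_, hR (mem_zpowers _), rfl⟩
  obtain ⟨n, hn⟩ := mem_zpowers_iff.1 hmem
  exact ⟨c, c.2, mem_zpowers_iff.2 ⟨n, by simpa using congrArg Subtype.val hn⟩⟩

/-- An element of the centraliser of the four-group and of the first line is in the complement. -/
theorem mem_range_of_cent_e1 {g : G} (hg : g ∈ B.W) (hc : g * h.φ e1M = h.φ e1M * g) : ∃ x, B.ψ x = g := by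
  obtain ⟨z, hz, x, hx⟩ := B.dec g hc
  have he13 : h.φ e1M ^ 3 = 1 := by rw [← map_pow, e1M_facts.1, map_one]
  obtain ⟨i, hi⟩ : ∃ i : Fin 3, z = h.φ e1M ^ (i : ℕ) := by
    rcases zpowers_three_cases he13 hz with e | e | e
    · exact ⟨0, by rw [e]; simp⟩
    · exact ⟨1, by rw [e]; simp⟩
    · exact ⟨2, by rw [e]; exact (eq_inv_of_mul_eq_one_left (by rw [← pow_succ]; exact he13)).symm⟩
  have hgz : g = h.φ (e1M ^ (i : ℕ)) * B.ψ x := by rw [hx, map_pow, ← hi, mul_inv_cancel_left]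
  have hcz : Commute (h.φ (e1M ^ (i : ℕ))) (B.ψ x) := by
    rw [map_pow]; exact ((show Commute (h.φ e1M) (B.ψ x) from (B.cent x).symm)).pow_left _
  by_cases hi0 : i = 0
  · exact ⟨x, by rw [hgz, hi0]; simp⟩
  exfalso
  have hpow : ∀ n : ℕ, x ^ n = 1 → n % 3 ≠ 0 → False := by
    intro n hn h3
    have hmem : h.φ (e1M ^ ((i : ℕ) * n)) ∈ B.W := by
      have := pow_mem hg n
      rwa [hgz, hcz.mul_pow, ← map_pow h.φ, ← pow_mul, ← map_pow B.ψ, hn, map_one, mul_one] at this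
    have hmod : e1M ^ ((i : ℕ) * n) = e1M ^ (((i : ℕ) * n) % 3) := pow_eq_pow_mod _ e1M_facts.1
    rw [hmod] at hmem
    have := B.e1_pow_notMem ⟨((i : ℕ) * n) % 3, Nat.mod_lt _ (by norm_num)⟩ hmem
    have h0 : ((i : ℕ) * n) % 3 = 0 := congrArg Fin.val this
    have : (i : ℕ) ≠ 0 := fun e => hi0 (Fin.ext e)
    have := i.2
    rcases (show (i : ℕ) = 1 ∨ (i : ℕ) = 2 by omega) with e | e <;> rw [e] at h0 <;> omega
  rcases six_cases x with hx3 | hx4 | hx5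
  · by_cases hx1 : x = 1
    · exact hpow 1 (by rw [hx1, one_pow]) (by norm_num)
    obtain ⟨z', hz'⟩ := six_cube_class x hx3 hx1
    have hg3 : g ^ 3 = 1 := by
      rw [hgz, hcz.mul_pow, ← map_pow B.ψ, hx3, map_one, mul_one, ← map_pow h.φ, ← pow_mul, mul_comm, pow_mul,
        e1M_facts.1, one_pow, map_one]
    obtain ⟨w, -, hw⟩ := B.W_three hg hg3
    obtain ⟨s1, s2, s3, s4, r1, r2, -⟩ := skew_facts i hi0
    have hcz' : Commute (B.ψ z') (h.φ (e1M ^ (i : ℕ))) := by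
      rw [map_pow]; exact ((show Commute (B.ψ z') (h.φ e1M) from B.cent z')).pow_right _
    have hconj : B.ψ z' * g * (B.ψ z')⁻¹ = h.φ (e1M ^ (i : ℕ)) * B.ψ (z' * x * z'⁻¹) := by
      rw [hgz, ← mul_assoc, hcz'.eq, map_mul, map_mul, map_inv]; group
    obtain ⟨m, hm, hm'⟩ : ∃ m : M, B.ψ z' * g * (B.ψ z')⁻¹ = h.φ m ∧ m.right = 1 ∧
        cls m ≠ cls e3M ∧ cls m ≠ cls e3M⁻¹ := by
      rcases hz' with e | e <;> rw [hconj, e]
      · exact ⟨_, by rw [map_mul, B.map_a], r1, s1, s2⟩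
      · exact ⟨_, by rw [map_mul, map_mul, map_mul, B.map_a, B.map_b], r2, s3, s4⟩
    have hgm : IsConj g (h.φ m) := isConj_iff.2 ⟨_, hm⟩
    have hgw : IsConj g (w * g * w⁻¹) := isConj_iff.2 ⟨w, rfl⟩
    rcases zpowers_three_cases (by rw [← map_pow, trans_cube e3M rfl, map_one]) hw with e | e | e
    · refine hx1 (B.inj ?_)
      have h1 : g = 1 := conj_eq_one_iff.1 e
      have h2 : B.ψ x ∈ zpowers (h.φ e1M) := by
        rw [show B.ψ x = z⁻¹ from by rw [hx, h1, mul_one]]; exact inv_mem hz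
      rw [B.eq_one_of_mem h2 ⟨x, rfl⟩, map_one]
    · exact h.not_isConj hm'.1 rfl hm'.2.1 (hgm.symm.trans (e ▸ hgw))
    · rw [← map_inv] at e
      exact h.not_isConj hm'.1 (by decide +kernel) hm'.2.2 (hgm.symm.trans (e ▸ hgw))
  · exact hpow 4 hx4 (by norm_num)
  · exact hpow 5 hx5 (by norm_num)

/-- The part of the centraliser in the complement. -/
def L : Subgroup A6 := B.W.comap B.ψ

theorem L_facts : b6 ∈ B.L ∧ v6 ∈ B.L ∧ ∀ x ∈ B.L, ¬ Bad x := by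
  refine ⟨?_, B.t_mem_W, ?_⟩
  · show B.ψ b6 ∈ B.W
    rw [B.map_b]; exact B.e3_mem_W
  · rintro x hx ⟨hxb, hx1, hxb1, hxb2⟩
    obtain ⟨i, y, hy, e⟩ := B.cent_e3 hx (by rw [← B.map_b, ← map_mul, ← map_mul, hxb])
    have hy1 := B.cent_e1_inV hy e (B.cent x)
    rw [hy1, map_one, mul_one, map_pow, ← B.map_b, ← map_pow] at e
    have e' := B.inj e
    have h3 := six_base.1
    obtain ⟨i, hi⟩ := i
    interval_cases i <;> simp at e'
    · exact hx1 e'
    · exact hxb1 e'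
    · exact hxb2 (by rw [e', eq_inv_iff_mul_eq_one, ← pow_succ, h3])

end Hyp.Big

end Cfsg.Agent.A9ThreeLocal
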