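import Cfsg.Agent.A9ThreeLocal.Klein

/-!
The possible shapes of the centraliser of a four-group on four points.
-/

set_option autoImplicit false
set_option synthInstance.maxSize 4000
set_option synthInstance.maxHeartbeats 400000

namespace Cfsg.Agent.A9ThreeLocal

open Equiv Equiv.Perm Subgroup ThreeFullWreath

universe u

theorem sylow_seven_count : ∀ n ∈ Nat.divisors 96, n % 7 = 1 → ¬ 3 ∣ n := by decide +kernel

theorem e1_ne_e3_pow : ∀ i : Fin 3, e1M ≠ e3M ^ (i : ℕ) := by decide +kernel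

theorem card_eq_ker_mul {W : Type*} [Group W] [Finite W] {Q : Type*} [Group Q] (f : W →* Q)
    (hf : Function.Surjective f) : Nat.card W = Nat.card f.ker * Nat.card Q := by
  rw [← f.ker.card_mul_index, Subgroup.index_ker, MonoidHom.range_eq_top.2 hf, card_top]

/-- A group of exponent two has no element of order three. -/
theorem not_three_of_sq {W : Type*} [Group W] [Finite W] {N : Subgroup W} (h : ∀ n ∈ N, n ^ 2 = 1) (p : ℕ)
    [Fact p.Prime] (hp : p ≠ 2) : ¬ p ∣ Nat.card N := fun hd => by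
  obtain ⟨n, hn⟩ := exists_prime_orderOf_dvd_card' p hd
  have : orderOf n ∣ 2 := orderOf_dvd_of_pow_eq_one (Subtype.ext (h n n.2))
  rw [hn] at this
  exact hp ((Nat.prime_dvd_prime_iff_eq Fact.out Nat.prime_two).1 this)

/-- A composite with kernel of order prime to `p`. -/
theorem not_dvd_ker_comp {W : Type*} [Group W] [Finite W] {Z : Subgroup W} [Z.Normal] {Q : Type*} [Group Q]
    (g : W ⧸ Z →* Q) (p : ℕ) [Fact p.Prime] (hZ : ¬ p ∣ Nat.card Z) (hg : ¬ p ∣ Nat.card g.ker) :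
    ¬ p ∣ Nat.card (g.comp (QuotientGroup.mk' Z)).ker := by
  intro hd
  obtain ⟨x, hx⟩ := exists_prime_orderOf_dvd_card' p hd
  have hxp : (x : W) ^ p = 1 := by rw [← hx, ← orderOf_coe]; exact pow_orderOf_eq_one _
  by_cases h1 : QuotientGroup.mk' Z (x : W) = 1
  · refine hZ ?_
    have := _root_.orderOf_dvd_natCard (⟨x, (QuotientGroup.eq_one_iff _).1 h1⟩ : Z)
    rwa [orderOf_mk, orderOf_coe, hx] at this
  · refine hg ?_
    have := _root_.orderOf_dvd_natCard (⟨QuotientGroup.mk' Z (x : W), x.2⟩ : g.ker)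
    rw [← Subgroup.orderOf_coe] at this
    change orderOf (QuotientGroup.mk' Z (x : W)) ∣ _ at this
    rwa [orderOf_eq_prime (by rw [← map_pow, hxp, map_one]) h1] at this

open scoped Pointwise in
/-- A `3`-group acting on a group of order `4 * 168` fixes a Sylow `7`-subgroup. -/
theorem exists_fixed_seven {G : Type u} [Group G] [Finite G] {W E : Subgroup G} (hW : Nat.card W = 672)
    (hE3 : IsPGroup 3 E) (hEn : E ≤ normalizer (W : Set G)) :
    ∃ y : G, y ∈ W ∧ y ^ 7 = 1 ∧ y ≠ 1 ∧ ∀ s ∈ E, s * y * s⁻¹ ∈ zpowers y := by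
  haveI : Fact (Nat.Prime 7) := ⟨by norm_num⟩
  haveI : Fact (Nat.Prime 3) := ⟨Nat.prime_three⟩
  let ρ : E →* MulAut W :=
    { toFun := fun s =>
        { toFun := fun x => ⟨(s : G) * x * (s : G)⁻¹, (mem_normalizer_iff.1 (hEn s.2) x).1 x.2⟩
          invFun := fun x => ⟨(s : G)⁻¹ * x * (s : G), by
            simpa using (mem_normalizer_iff.1 (inv_mem (hEn s.2)) x).1 x.2⟩
          left_inv := fun x => Subtype.ext (by simp [mul_assoc])
          right_inv := fun x => Subtype.ext (by simp [mul_assoc])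
          map_mul' := fun x y => Subtype.ext (by simp [mul_assoc]) }
      map_one' := by ext x; simp
      map_mul' := fun s t => by ext x; simp [mul_assoc] }
  letI : MulDistribMulAction E W := MulDistribMulAction.compHom W ρ
  haveI : Finite (Sylow 7 W) := inferInstance
  have hn : ¬ 3 ∣ Nat.card (Sylow 7 W) := by
    obtain ⟨P⟩ : Nonempty (Sylow 7 W) := inferInstance
    have hP : Nat.card (P : Subgroup W) = 7 := by
      rw [P.card_eq_multiplicity, hW]
      have h0 : (672 : ℕ) ≠ 0 := by norm_num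
      have hge := ((Fact.out : (7 : ℕ).Prime).dvd_iff_one_le_factorization h0).1 (by norm_num)
      have hlt : ¬ 2 ≤ (672 : ℕ).factorization 7 := fun e =>
        absurd (((Fact.out : (7 : ℕ).Prime).pow_dvd_iff_le_factorization h0).2 e) (by norm_num)
      rw [show (672 : ℕ).factorization 7 = 1 by omega, pow_one]
    have hidx : (P : Subgroup W).index = 96 := by
      have := (P : Subgroup W).card_mul_index
      rw [hP, hW] at this
      omega
    have hd := Sylow.card_dvd_index P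
    rw [hidx] at hd
    exact sylow_seven_count _ (Nat.mem_divisors.2 ⟨hd, by norm_num⟩) (card_sylow_modEq_one 7 W)
  obtain ⟨P, hP⟩ := hE3.nonempty_fixed_point_of_prime_not_dvd_card (Sylow 7 W) hn
  have hfix : ∀ s : E, ∀ x ∈ (P : Subgroup W),
      (⟨(s : G) * x * (s : G)⁻¹, (mem_normalizer_iff.1 (hEn s.2) x).1 x.2⟩ : W) ∈ (P : Subgroup W) := by
    intro s x hx
    have e := congrArg (fun Q : Sylow 7 W => (Q : Subgroup W)) (hP s)
    simp only [Sylow.pointwise_smul_def] at e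
    have hm : s • x ∈ s • (P : Subgroup W) := Subgroup.smul_mem_pointwise_smul x s _ hx
    rw [e] at hm
    exact hm
  have hd7 : 7 ∣ Nat.card (P : Subgroup W) := P.dvd_card_of_dvd_card (by rw [hW]; norm_num)
  obtain ⟨⟨y, hy⟩, hy7⟩ := exists_prime_orderOf_dvd_card' 7 hd7
  rw [orderOf_mk] at hy7
  have hP7 : zpowers y = (P : Subgroup W) := by
    refine eq_of_le_of_card_ge (zpowers_le.2 hy) ?_
    rw [Nat.card_zpowers, hy7, P.card_eq_multiplicity, hW]
    have h0 : (672 : ℕ) ≠ 0 := by norm_num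
    have hlt : ¬ 2 ≤ (672 : ℕ).factorization 7 := fun e =>
      absurd (((Fact.out : (7 : ℕ).Prime).pow_dvd_iff_le_factorization h0).2 e) (by norm_num)
    exact (Nat.pow_le_pow_right (by norm_num) (by omega : (672 : ℕ).factorization 7 ≤ 1)).trans (by norm_num)
  have nrm : ∀ s ∈ E, s * (y : G) * s⁻¹ ∈ zpowers (y : G) := fun s hs => by
    have := hfix ⟨s, hs⟩ y hy
    rw [← hP7] at this
    obtain ⟨n, hn'⟩ := mem_zpowers_iff.1 this
    exact mem_zpowers_iff.2 ⟨n, by simpa using congrArg Subtype.val hn'⟩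
  have hy7' : (y : G) ^ 7 = 1 := by
    have := congrArg Subtype.val (pow_orderOf_eq_one y)
    rw [hy7] at this
    simpa using this
  have hyne : (y : G) ≠ 1 := fun e => by
    rw [show y = 1 from Subtype.ext e, orderOf_one] at hy7
    norm_num at hy7
  exact ⟨(y : G), y.2, hy7', hyne, nrm⟩

/-- Powers of two commuting elements of order three. -/
theorem pair_form {G : Type u} [Group G] {a b : G} (hab : Commute a b) (ha : a ^ 3 = 1) (hb : b ^ 3 = 1) {s : G}
    (hs : s ∈ zpowers a ⊔ zpowers b) : ∃ c d : Fin 3, s = a ^ (c : ℕ) * b ^ (d : ℕ) := by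
  have hsub : zpowers b ≤ normalizer ((zpowers a : Subgroup G) : Set G) := by
    refine zpowers_le.2 (mem_normalizer_iff.2 fun x => ?_)
    have key : ∀ x, x ∈ zpowers a → b * x * b⁻¹ = x := fun x hx => by
      obtain ⟨n, rfl⟩ := mem_zpowers_iff.1 hx
      rw [((hab.symm).zpow_right n).eq, mul_inv_cancel_right]
    refine ⟨fun hx => by rw [key x hx]; exact hx, fun hx => ?_⟩
    have e := key _ hx
    rw [mul_left_inj, mul_right_inj] at e
    rwa [e] at hx
  rw [← SetLike.mem_coe, coe_mul_of_right_le_normalizer_left _ _ hsub] at hs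
  obtain ⟨x, hx, y, hy, rfl⟩ := hs
  obtain ⟨c, hc⟩ : ∃ c : Fin 3, x = a ^ (c : ℕ) := by
    rcases zpowers_three_cases ha hx with e | e | e
    · exact ⟨0, by rw [e]; simp⟩
    · exact ⟨1, by rw [e]; simp⟩
    · exact ⟨2, by rw [e]; exact (eq_inv_of_mul_eq_one_left (by rw [← pow_succ]; exact ha)).symm⟩
  obtain ⟨d, hd⟩ : ∃ d : Fin 3, y = b ^ (d : ℕ) := by
    rcases zpowers_three_cases hb hy with e | e | e
    · exact ⟨0, by rw [e]; simp⟩
    · exact ⟨1, by rw [e]; simp⟩
    · exact ⟨2, by rw [e]; exact (eq_inv_of_mul_eq_one_left (by rw [← pow_succ]; exact hb)).symm⟩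
  exact ⟨c, d, by rw [hc, hd]⟩

namespace Hyp.Big

variable {G : Type u} [Group G] [Finite G] {h : Hyp G} (B : h.Big)

/-- The four-group. -/
def V0 : Subgroup G where
  carrier := {g | ∃ x : A6, InV x ∧ B.psi 2 x = g}
  one_mem' := ⟨1, Or.inl rfl, map_one _⟩
  mul_mem' := by
    rintro _ _ ⟨x, hx, rfl⟩ ⟨y, hy, rfl⟩
    exact ⟨x * y, (InV_facts.2.2.1 x y hx hy).1, map_mul _ _ _⟩
  inv_mem' := by
    rintro _ ⟨x, hx, rfl⟩
    exact ⟨x, hx, by rw [← map_inv, inv_eq_of_mul_eq_one_right (InV_facts.1 x hx)]⟩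

theorem V0_le : B.V0 ≤ B.W := by rintro _ ⟨x, hx, rfl⟩; exact B.InV_mem_W hx

theorem InV_card : (Finset.univ.filter fun x : A6 => InV x).card = 4 := by decide +kernel

theorem V0_card : Nat.card B.V0 = 4 := by
  classical
  rw [← InV_card, ← Fintype.card_subtype, ← Nat.card_eq_fintype_card]
  refine (Nat.card_congr (Equiv.ofBijective (fun x : {x : A6 // InV x} => (⟨B.psi 2 x, x, x.2, rfl⟩ : B.V0))
    ⟨fun a b e => Subtype.ext (B.psi_inj 2 (congrArg Subtype.val e)), ?_⟩)).symm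
  rintro ⟨_, x, hx, rfl⟩
  exact ⟨⟨x, hx⟩, rfl⟩

theorem three_pow {g : G} (hg : g ^ 3 = 1) {z : G} (hz : z ∈ zpowers g) : ∃ i : Fin 3, z = g ^ (i : ℕ) := by
  rcases zpowers_three_cases hg hz with e | e | e
  · exact ⟨0, by rw [e]; simp⟩
  · exact ⟨1, by rw [e]; simp⟩
  · exact ⟨2, by rw [e]; exact (eq_inv_of_mul_eq_one_left (by rw [← pow_succ]; exact hg)).symm⟩

theorem e_cubes : h.φ e1M ^ 3 = 1 ∧ h.φ e3M ^ 3 = 1 := by
  rw [← map_pow, ← map_pow, e1M_facts.1, trans_cube e3M rfl, map_one]; exact ⟨rfl, rfl⟩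

theorem e1_norm_W : h.φ e1M ∈ normalizer (B.W : Set G) := by
  refine mem_normalizer_fintype fun g hg => ?_
  have key : ∀ x : A6, InV x → InV (a6⁻¹ * x * a6) := by decide +kernel
  have hstep : ∀ x : A6, InV x →
      h.φ e1M * g * (h.φ e1M)⁻¹ * B.psi 2 x = B.psi 2 x * (h.φ e1M * g * (h.φ e1M)⁻¹) := by
    intro x hx
    have e : B.psi 2 (a6⁻¹ * x * a6) = (h.φ e1M)⁻¹ * B.psi 2 x * h.φ e1M := by
      rw [map_mul, map_mul, map_inv, ← B.psi2_e1]
    have h1 := B.psi_InV (key x hx) hg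
    rw [e] at h1
    calc h.φ e1M * g * (h.φ e1M)⁻¹ * B.psi 2 x =
        h.φ e1M * (g * ((h.φ e1M)⁻¹ * B.psi 2 x * h.φ e1M)) * (h.φ e1M)⁻¹ := by group
      _ = h.φ e1M * (((h.φ e1M)⁻¹ * B.psi 2 x * h.φ e1M) * g) * (h.φ e1M)⁻¹ := by rw [h1]
      _ = B.psi 2 x * (h.φ e1M * g * (h.φ e1M)⁻¹) := by group
  exact B.mem_W.2 ⟨hstep k1 InV_facts.2.2.2.1, hstep k2 InV_facts.2.2.2.2.1⟩

theorem e3_norm_W : h.φ e3M ∈ normalizer (B.W : Set G) := le_normalizer B.e3_mem_W

theorem comm_e : h.φ e3M * h.φ e1M = h.φ e1M * h.φ e3M := by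
  rw [← map_mul, ← map_mul, trans_comm (m := e3M) (m' := e1M) rfl rfl]

/-- The structure of a normal subgroup of order prime to three invariant under the two lines. -/
theorem generation {R : Subgroup G} (hR : R ≤ B.W) (h3 : ¬ 3 ∣ Nat.card R)
    (ha : h.φ e3M ∈ normalizer (R : Set G)) (hb : h.φ e1M ∈ normalizer (R : Set G)) :
    R ≤ B.V0 ⊔ (R ⊓ B.ψ.range) := by
  haveI : Fact (Nat.Prime 3) := ⟨Nat.prime_three⟩
  obtain ⟨e13, e33⟩ := e_cubes (h := h)
  have h3' : Nat.Coprime 3 (Nat.card R) := Nat.prime_three.coprime_iff_not_dvd.2 h3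
  have small : ∀ z : G, z ∈ R → z ^ 3 = 1 → z = 1 := fun z hz hz3 => by
    by_contra hne
    refine h3 ?_
    have := _root_.orderOf_dvd_natCard (⟨z, hz⟩ : R)
    rwa [orderOf_mk, orderOf_eq_prime hz3 hne] at this
  have hpow : ∀ (z : G) (i : ℕ), z = h.φ e3M ^ i → z ∈ R → z = 1 := fun z i e hz =>
    small z hz (by rw [e, ← pow_mul, mul_comm, pow_mul, e33, one_pow])
  refine Coprime.le_of_centralizers_le ((comm_e (h := h))) ha hb Nat.prime_three ?_ ?_ h3' ?_ ?_ ?_
  · rw [e33]; exact one_mem _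
  · rw [e13]; exact one_mem _
  · have hle : closure ({h.φ e3M, h.φ e1M} : Set G) ≤ h.J := by
      rw [closure_le]
      rintro x (rfl | rfl)
      · exact h.φ_mem_J _ rfl
      · exact h.φ_mem_J _ rfl
    refine Nat.Coprime.coprime_dvd_left (card_dvd_of_le hle) ?_
    rw [h.J_card, show (27 : ℕ) = 3 ^ 3 from rfl]
    exact h3'.pow_left 3
  · rintro g ⟨hg, hc⟩
    obtain ⟨i, x, hx, he⟩ := B.cent_e3 (hR hg) (mem_centralizer_singleton_iff.1 hc)
    have hcx : Commute (h.φ (e3M ^ (i : ℕ))) (B.psi 2 x) := by rw [map_pow]; exact (B.psi2_e3 x).pow_left _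
    have h2 : g ^ 2 = h.φ (e3M ^ (i : ℕ)) ^ 2 := by
      rw [he, hcx.mul_pow, pow_two (B.psi 2 x), ← map_mul, InV_facts.1 x hx, map_one, mul_one]
    have hz : h.φ (e3M ^ (i : ℕ)) ^ 2 = 1 :=
      hpow _ ((i : ℕ) * 2) (by rw [map_pow, ← pow_mul]) (h2 ▸ pow_mem hg 2)
    have h0 : h.φ (e3M ^ (i : ℕ)) = 1 := by
      have e : h.φ (e3M ^ (i : ℕ)) ^ 3 = 1 := by rw [map_pow, ← pow_mul, mul_comm, pow_mul, e33, one_pow]
      rwa [pow_succ, hz, one_mul] at e
    rw [he, h0, one_mul]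
    exact mem_sup_left ⟨x, hx, rfl⟩
  · rintro k g ⟨hg, hc⟩
    have hc' := mem_centralizer_singleton_iff.1 hc
    have ek : h.φ e3M ^ k = h.φ e3M ^ ((⟨k % 3, Nat.mod_lt _ (by norm_num)⟩ : Fin 3) : ℕ) :=
      pow_eq_pow_mod k e33
    rw [ek] at hc'
    by_cases h0 : (⟨k % 3, Nat.mod_lt _ (by norm_num)⟩ : Fin 3) = 0
    · rw [h0, show ((0 : Fin 3) : ℕ) = 0 from rfl, pow_zero, one_mul] at hc'
      obtain ⟨x, hx⟩ := B.mem_range_of_cent_e1 (hR hg) hc'
      exact mem_sup_right ⟨hg, x, hx⟩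
    · obtain ⟨j, hj⟩ := three_pow e33 (B.cent_skew h0 (hR hg) hc')
      rw [hpow g j hj hg]
      exact one_mem _

theorem range_inf_bot {R : Subgroup G} (h3 : ¬ 3 ∣ Nat.card R) (ha : h.φ e3M ∈ normalizer (R : Set G))
    (hv : B.ψ v6 ∈ normalizer (R : Set G)) (hR : R ≤ B.W) (hfix : ∀ x ∈ B.L, Fix0 x) :
    R ⊓ B.ψ.range = ⊥ := by
  haveI : Fact (Nat.Prime 3) := ⟨Nat.prime_three⟩
  rw [eq_bot_iff]
  rintro g ⟨hg, x, rfl⟩
  rw [mem_bot]
  by_contra hne
  obtain ⟨w, -, hz, hz1⟩ := fix_core x (hfix x (hR hg)) fun e => hne (by rw [e, map_one])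
  have hcl : ∀ (s : A6), B.ψ s ∈ normalizer (R : Set G) → ∀ y ∈ R.comap B.ψ, s * y * s⁻¹ ∈ R.comap B.ψ := by
    intro s hs y hy
    show B.ψ (s * y * s⁻¹) ∈ R
    rw [map_mul, map_mul, map_inv]
    exact (mem_normalizer_iff.1 hs _).1 hy
  have hzR : B.ψ (word5 w x) ∈ R :=
    word5_mem (R := R.comap B.ψ) hg (hcl b6 (by rw [B.map_b]; exact ha)) (hcl v6 hv) w
  refine h3 ?_
  have := _root_.orderOf_dvd_natCard (⟨B.ψ (word5 w x), hzR⟩ : R)
  rwa [orderOf_mk, orderOf_eq_prime (by rw [← map_pow, hz, map_one])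
    (fun e => hz1 (B.inj (e.trans (map_one _).symm)))] at this

/-- An element of order five lies in the complement. -/
theorem five_mem {y s : G} (hy : y ∈ B.W) (hy5 : orderOf y = 5) {a c : Fin 3} (hs1 : s ≠ 1)
    (hs : s = h.φ e3M ^ (c : ℕ) * h.φ e1M ^ (a : ℕ)) (hcy : s * y = y * s) :
    ∃ x ∈ B.L, x ^ 5 = 1 ∧ x ≠ 1 := by
  obtain ⟨e13, e33⟩ := e_cubes (h := h)
  have hno : ∀ {i : Fin 3} {x : A6}, InV x → y = h.φ (e3M ^ (i : ℕ)) * B.psi 2 x → False := by
    intro i x hx e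
    have hcx : Commute (h.φ (e3M ^ (i : ℕ))) (B.psi 2 x) := by rw [map_pow]; exact (B.psi2_e3 x).pow_left _
    have h6 : y ^ 6 = 1 := by
      rw [e, hcx.mul_pow, ← map_pow (B.psi 2), show x ^ 6 = (x * x) ^ 3 by rw [← pow_two, ← pow_mul], InV_facts.1 x hx, one_pow,
        map_one, mul_one, map_pow, ← pow_mul, mul_comm, show 6 * (i : ℕ) = 3 * (2 * (i : ℕ)) by ring, pow_mul,
        e33, one_pow]
    have := orderOf_dvd_of_pow_eq_one h6
    rw [hy5] at this
    norm_num at this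
  have hce : Commute (h.φ e3M) (h.φ e1M) := (comm_e (h := h))
  have ys : Commute y s := hcy.symm
  by_cases ha : a = 0
  · exfalso
    rw [ha, show ((0 : Fin 3) : ℕ) = 0 from rfl, pow_zero, mul_one] at hs
    have hcn : c ≠ 0 := fun e => hs1 (by rw [hs, e]; simp)
    have hy3 : Commute y (h.φ e3M) := by
      obtain ⟨c, hc⟩ := c
      interval_cases c
      · exact absurd rfl hcn
      · rw [hs] at ys; simpa using ys
      · have := ys.pow_right 2
        rw [hs, ← pow_mul, show (2 * 2 : ℕ) = 3 + 1 from rfl, pow_succ, e33, one_mul] at this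
        exact this
    obtain ⟨i, x, hx, e⟩ := B.cent_e3 hy hy3.eq
    exact hno hx e
  by_cases hc : c = 0
  · have hy1 : Commute y (h.φ e1M) := by
      rw [hc, show ((0 : Fin 3) : ℕ) = 0 from rfl, pow_zero, one_mul] at hs
      obtain ⟨a, ha'⟩ := a
      interval_cases a
      · exact absurd rfl ha
      · rw [hs] at ys; simpa using ys
      · have := ys.pow_right 2
        rw [hs, ← pow_mul, show (2 * 2 : ℕ) = 3 + 1 from rfl, pow_succ, e13, one_mul] at this
        exact this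
    obtain ⟨x, hx⟩ := B.mem_range_of_cent_e1 hy hy1.eq
    refine ⟨x, show B.ψ x ∈ B.W by rwa [hx], B.inj ?_, fun e => ?_⟩
    · rw [map_pow, hx, map_one, ← hy5, pow_orderOf_eq_one]
    · rw [e, map_one] at hx
      rw [← hx, orderOf_one] at hy5
      norm_num at hy5
  · exfalso
    obtain ⟨i, hi, hcy'⟩ : ∃ i : Fin 3, i ≠ 0 ∧ Commute y (h.φ e3M ^ (i : ℕ) * h.φ e1M) := by
      obtain ⟨a, ha'⟩ := a
      interval_cases a
      · exact absurd rfl ha
      · exact ⟨c, hc, by rw [hs] at ys; simpa using ys⟩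
      · have h2 := ys.pow_right 2
        rw [hs, (hce.pow_pow _ _).mul_pow, ← pow_mul, ← pow_mul, show (2 * 2 : ℕ) = 3 + 1 from rfl,
          pow_succ (h.φ e1M), e13, one_mul, pow_eq_pow_mod ((c : ℕ) * 2) e33] at h2
        refine ⟨⟨((c : ℕ) * 2) % 3, Nat.mod_lt _ (by norm_num)⟩, fun e => hc ?_, h2⟩
        have h0 : ((c : ℕ) * 2) % 3 = 0 := congrArg Fin.val e
        apply Fin.ext
        have := c.2
        simp only [Fin.val_zero]
        omega
    obtain ⟨j, hj⟩ := three_pow e33 (B.cent_skew hi hy hcy'.eq)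
    exact hno (x := 1) (Or.inl rfl) (i := j) (by rw [map_one, mul_one, map_pow]; exact hj)

set_option maxHeartbeats 1000000 in
/-- The possible shapes. -/
theorem W_cases : Nat.card B.W ≤ 24 ∨ B.ψ x6 ∈ B.W ∨
    ((∀ x, Fix0 x → B.ψ x ∈ B.W) ∧ Nat.card B.W = 240) := by
  classical
  haveI : Fact (Nat.Prime 3) := ⟨Nat.prime_three⟩
  obtain ⟨e13, e33⟩ := e_cubes (h := h)
  set Z := B.V0.subgroupOf B.W with hZ
  haveI hZn : Z.Normal := ⟨fun v hv g => by
    obtain ⟨x, hx, e⟩ := mem_subgroupOf.1 hv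
    have hcomm : g * v = v * g := Subtype.ext (by
      show (g : G) * v = v * g
      rw [← e]; exact B.psi_InV hx g.2)
    rw [hcomm, mul_inv_cancel_right]; exact hv⟩
  have hZc : Nat.card Z = 4 := by rw [Nat.card_congr (subgroupOfEquivOfLe B.V0_le).toEquiv, B.V0_card]
  set π : B.W →* B.W ⧸ Z := QuotientGroup.mk' Z
  have hπs : Function.Surjective π := QuotientGroup.mk'_surjective Z
  have hker : π.ker = Z := QuotientGroup.ker_mk' Z
  set eW : B.W := ⟨h.φ e3M, B.e3_mem_W⟩ with heW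
  set X := zpowers (π eW) with hX
  have e3ne : h.φ e3M ≠ 1 := fun e => absurd (h.inj (e.trans (map_one _).symm)) (by decide +kernel)
  have hπe : π eW ≠ 1 := by
    intro e
    obtain ⟨x, hx, ex⟩ := mem_subgroupOf.1 ((QuotientGroup.eq_one_iff eW).1 e)
    refine e3ne ?_
    have h2 : h.φ e3M ^ 2 = 1 := by
      rw [show h.φ e3M = B.psi 2 x from ex.symm, pow_two, ← map_mul, InV_facts.1 x hx, map_one]
    have h3 := e33
    rwa [pow_succ, h2, one_mul] at h3
  have hX3 : Nat.card X = 3 := by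
    rw [hX, Nat.card_zpowers, orderOf_eq_prime (by
      rw [← map_pow, show eW ^ 3 = 1 from Subtype.ext e33, map_one]) hπe]
  have hXC : centralizer (X : Set (B.W ⧸ Z)) = X := by
    refine le_antisymm (fun q hq => ?_) fun q hq => ?_
    · obtain ⟨g, rfl⟩ := hπs q
      have h1 : π g * π eW = π eW * π g := (mem_centralizer_iff.1 hq _ (mem_zpowers _)).symm
      rw [← mul_inv_eq_iff_eq_mul, ← mul_inv_eq_one, ← map_inv, ← map_inv, ← map_mul, ← map_mul, ← map_mul,
        ← MonoidHom.mem_ker, hker] at h1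
      obtain ⟨x, hx, ex⟩ := mem_subgroupOf.1 h1
      have ex' : B.psi 2 x = (g : G) * h.φ e3M * (g : G)⁻¹ * (h.φ e3M)⁻¹ := ex
      have e1 : (g : G) * h.φ e3M * (g : G)⁻¹ = B.psi 2 x * h.φ e3M := by rw [ex']; group
      have hx1 : B.psi 2 x = 1 := by
        have h3 : (B.psi 2 x * h.φ e3M) ^ 3 = 1 := by rw [← e1, conj_pow, e33]; group
        rw [((B.psi2_e3 x).symm).mul_pow, e33, mul_one] at h3
        have h2 : B.psi 2 x ^ 2 = 1 := by rw [pow_two, ← map_mul, InV_facts.1 x hx, map_one]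
        rwa [pow_succ, h2, one_mul] at h3
      rw [hx1, one_mul] at e1
      obtain ⟨i, y, hy, e⟩ := B.cent_e3 g.2 (mul_inv_eq_iff_eq_mul.1 e1)
      have : g = eW ^ (i : ℕ) * ⟨B.psi 2 y, B.InV_mem_W hy⟩ :=
        Subtype.ext (by show (g : G) = h.φ e3M ^ (i : ℕ) * B.psi 2 y; rw [← map_pow]; exact e)
      rw [this, map_mul, map_pow, show π ⟨B.psi 2 y, B.InV_mem_W hy⟩ = 1 from
        (QuotientGroup.eq_one_iff _).2 ⟨y, hy, rfl⟩, mul_one]
      exact pow_mem (mem_zpowers _) _
    · obtain ⟨n, rfl⟩ := mem_zpowers_iff.1 hq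
      refine mem_centralizer_iff.2 fun r hr => ?_
      obtain ⟨m, rfl⟩ := mem_zpowers_iff.1 hr
      rw [← zpow_add, ← zpow_add, add_comm]
  obtain ⟨hb6, hv6, hbad⟩ := B.L_facts
  rcases S3331.result X hX3 hXC with ⟨N, hN, -, hNc, hQ⟩ | ⟨N, hN, -, hN2, ⟨eQ⟩⟩ | ⟨⟨eQ⟩⟩
  · set f : B.W →* (B.W ⧸ Z) ⧸ N := (QuotientGroup.mk' N).comp π with hf
    have hfs : Function.Surjective f := (QuotientGroup.mk'_surjective N).comp hπs
    have h3f : ¬ 3 ∣ Nat.card f.ker := not_dvd_ker_comp _ 3 (by rw [hZc]; norm_num) (by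
      rw [QuotientGroup.ker_mk']
      exact Nat.prime_three.coprime_iff_not_dvd.1 hNc.symm)
    set R := f.ker.map B.W.subtype with hR
    have h3R : ¬ 3 ∣ Nat.card R := by rwa [hR, card_map_of_injective B.W.subtype_injective]
    have hnorm : ∀ s ∈ normalizer (B.W : Set G), s ∈ normalizer (R : Set G) := fun s hs =>
      mem_normalizer_fintype (ker_invariant f hfs (fun K hK hK3 => by
        rcases hQ with e | ⟨⟨e⟩⟩
        · exact cover_three e K hK3
        · haveI := hK
          haveI : (K.map e.toMonoidHom).Normal := Subgroup.Normal.map hK _ e.surjective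
          refine (map_eq_bot_iff_of_injective K (f := e.toMonoidHom) e.injective).1 (cover_perm _ fun hd => hK3 ?_)
          rwa [card_map_of_injective e.injective] at hd) h3f hs)
    have hRW : R ≤ B.W := map_subtype_le _
    have hgen := B.generation hRW h3R (hnorm _ B.e3_norm_W) (hnorm _ B.e1_norm_W)
    rcases six_subgroup hb6 hv6 hbad with hfix | hpres
    · left
      rw [B.range_inf_bot h3R (hnorm _ B.e3_norm_W) (hnorm _ (le_normalizer B.t_mem_W)) hRW hfix, sup_bot_eq] at hgen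
      have h1 := card_eq_ker_mul f hfs
      have h2 : Nat.card f.ker ≤ 4 := by
        rw [← card_map_of_injective B.W.subtype_injective, ← hR, ← B.V0_card]; exact card_le_of_le hgen
      have h6 : Nat.card ((B.W ⧸ Z) ⧸ N) ≤ 6 := by
        rcases hQ with e | ⟨⟨e⟩⟩
        · omega
        · rw [Nat.card_congr e.toEquiv, Nat.card_eq_fintype_card, Fintype.card_perm, Fintype.card_fin]
          decide
      rw [h1]
      exact (Nat.mul_le_mul h2 h6).trans (by norm_num)
    · by_cases hfix : ∀ x ∈ B.L, Fix0 x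
      · left
        rw [B.range_inf_bot h3R (hnorm _ B.e3_norm_W) (hnorm _ (le_normalizer B.t_mem_W)) hRW hfix, sup_bot_eq] at hgen
        have h1 := card_eq_ker_mul f hfs
        have h2 : Nat.card f.ker ≤ 4 := by
          rw [← card_map_of_injective B.W.subtype_injective, ← hR, ← B.V0_card]; exact card_le_of_le hgen
        have h6 : Nat.card ((B.W ⧸ Z) ⧸ N) ≤ 6 := by
          rcases hQ with e | ⟨⟨e⟩⟩
          · omega
          · rw [Nat.card_congr e.toEquiv, Nat.card_eq_fintype_card, Fintype.card_perm, Fintype.card_fin]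
            decide
        rw [h1]
        exact (Nat.mul_le_mul h2 h6).trans (by norm_num)
      · right; left
        push Not at hfix
        obtain ⟨x, hx, hxf⟩ := hfix
        obtain ⟨w, -, ew⟩ := pres_pair x (hpres x hx) hxf
        exact show x6 ∈ B.L from ew ▸ word4_mem hb6 hv6 hx w
  · right; right
    haveI : Fact (Nat.Prime 5) := ⟨Nat.prime_five⟩
    set g : B.W ⧸ Z →* alternatingGroup (Fin 5) := eQ.toMonoidHom.comp (QuotientGroup.mk' N) with hg
    have hgker : g.ker = N := by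
      rw [hg]; ext z; simp [MonoidHom.mem_ker]
    set f : B.W →* alternatingGroup (Fin 5) := g.comp π with hf
    have hfs : Function.Surjective f :=
      (eQ.surjective.comp (QuotientGroup.mk'_surjective N)).comp hπs
    have h3f : ¬ 3 ∣ Nat.card f.ker := not_dvd_ker_comp g 3 (by rw [hZc]; norm_num) (by
      rw [hgker]; exact not_three_of_sq hN2 3 (by norm_num))
    have h5f : ¬ 5 ∣ Nat.card f.ker := not_dvd_ker_comp g 5 (by rw [hZc]; norm_num) (by
      rw [hgker]; exact not_three_of_sq hN2 5 (by norm_num))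
    set R := f.ker.map B.W.subtype with hR
    have h3R : ¬ 3 ∣ Nat.card R := by rwa [hR, card_map_of_injective B.W.subtype_injective]
    have hnorm : ∀ s ∈ normalizer (B.W : Set G), s ∈ normalizer (R : Set G) := fun s hs =>
      mem_normalizer_fintype (ker_invariant f hfs (fun K hK hK3 => by haveI := hK; exact cover_alt K hK3) h3f hs)
    have hRW : R ≤ B.W := map_subtype_le _
    have hgen := B.generation hRW h3R (hnorm _ B.e3_norm_W) (hnorm _ B.e1_norm_W)
    have hW := card_eq_ker_mul f hfs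
    have h60 : Nat.card (alternatingGroup (Fin 5)) = 60 := by
      rw [nat_card_alternatingGroup, Nat.card_eq_fintype_card, Fintype.card_fin]; decide
    rw [h60] at hW
    -- the elementary subgroup generated by the two lines
    set E := zpowers (h.φ e3M) ⊔ zpowers (h.φ e1M) with hE
    have hEn : E ≤ normalizer (B.W : Set G) := sup_le (zpowers_le.2 B.e3_norm_W) (zpowers_le.2 B.e1_norm_W)
    have hEmem : ∀ s ∈ E, ∃ c a : Fin 3, s = h.φ e3M ^ (c : ℕ) * h.φ e1M ^ (a : ℕ) :=
      fun s hs => pair_form (comm_e (h := h)) e33 e13 hs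
    have hE9 : Nat.card E = 9 := by
      have hle : E ≤ h.J := sup_le (zpowers_le.2 (h.φ_mem_J _ rfl)) (zpowers_le.2 (h.φ_mem_J _ rfl))
      have h3E : 3 ≤ Nat.card E := by
        have := card_le_of_le (le_sup_left : zpowers (h.φ e3M) ≤ E)
        rwa [Nat.card_zpowers, orderOf_eq_prime e33 e3ne] at this
      have hlt : zpowers (h.φ e3M) < E := by
        refine lt_of_le_of_ne le_sup_left fun e => ?_
        have hmem : h.φ e1M ∈ zpowers (h.φ e3M) := e ▸ mem_sup_right (mem_zpowers _)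
        obtain ⟨i, hi⟩ := three_pow e33 hmem
        rw [← map_pow] at hi
        exact e1_ne_e3_pow i (h.inj hi)
      have hgt : 3 < Nat.card E := by
        by_contra hle'
        push Not at hle'
        refine hlt.ne (eq_of_le_of_card_ge hlt.le ?_)
        rwa [Nat.card_zpowers, orderOf_eq_prime e33 e3ne]
      have hle9 : Nat.card E ≤ 9 := by
        refine le_trans (Nat.card_le_card_of_surjective (fun p : Fin 3 × Fin 3 =>
          (⟨h.φ e3M ^ (p.1 : ℕ) * h.φ e1M ^ (p.2 : ℕ),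
            mul_mem (pow_mem (mem_sup_left (mem_zpowers _)) _) (pow_mem (mem_sup_right (mem_zpowers _)) _)⟩ : E))
          fun s => ?_) (by simp)
        obtain ⟨c, a, e⟩ := hEmem s s.2
        exact ⟨(c, a), Subtype.ext e.symm⟩
      have hd := card_dvd_of_le hle
      rw [h.J_card] at hd
      obtain ⟨i, hi, e⟩ := (Nat.dvd_prime_pow Nat.prime_three).1 (show Nat.card E ∣ 3 ^ 3 from hd)
      rw [e] at hgt hle9 ⊢
      interval_cases i <;> first | omega | (norm_num at hgt hle9 ⊢)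
    have h5 : 5 ∣ Nat.card B.W := by rw [hW]; exact Dvd.dvd.mul_left (by norm_num) _
    have h25 : ¬ 5 ^ 2 ∣ Nat.card B.W := fun hd => by
      rw [hW, show (60 : ℕ) = 12 * 5 from rfl, ← mul_assoc, pow_two] at hd
      have := Nat.dvd_of_mul_dvd_mul_right (by norm_num) hd
      rcases (Nat.Prime.dvd_mul Nat.prime_five).1 this with e | e
      · exact h5f e
      · norm_num at e
    have h9 : ¬ Nat.card E ∣ Nat.card B.W := fun hd => by
      rw [hE9, hW, show (60 : ℕ) = 20 * 3 from rfl, ← mul_assoc, show (9 : ℕ) = 3 * 3 from rfl] at hd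
      have := Nat.dvd_of_mul_dvd_mul_right (by norm_num) hd
      rcases (Nat.Prime.dvd_mul Nat.prime_three).1 this with e | e
      · exact h3f e
      · norm_num at e
    obtain ⟨y, hy, hy5, s, hs, hs1, hsy⟩ := exists_norm_cyclic hEn h5 h25 h9
    obtain ⟨c, a, hsdef⟩ := hEmem s hs
    have hs3 : s ^ 3 = 1 := by
      rw [hsdef, ((show Commute (h.φ e3M) (h.φ e1M) from (comm_e (h := h))).pow_pow _ _).mul_pow, ← pow_mul, ← pow_mul,
        mul_comm (c : ℕ), mul_comm (a : ℕ), pow_mul, pow_mul, e33, e13, one_pow, one_pow, one_mul]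
    have hcy := commute_five hs3 (by rw [← hy5]; exact pow_orderOf_eq_one y) hsy
    obtain ⟨x, hx, hx5, hx1⟩ := B.five_mem hy hy5 hs1 hsdef hcy
    have hfix : ∀ z ∈ B.L, Fix0 z := (six_subgroup hb6 hv6 hbad).resolve_right fun hp => five_fix x hx5 hx1 (hp x hx)
    refine ⟨fun z hz => fix_le hb6 hv6 hx hx5 hx1 (hfix x hx) z hz, ?_⟩
    rw [B.range_inf_bot h3R (hnorm _ B.e3_norm_W) (hnorm _ (le_normalizer B.t_mem_W)) hRW hfix, sup_bot_eq] at hgen
    have hle : B.V0 ≤ R := by
      intro v hv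
      refine ⟨⟨v, B.V0_le hv⟩, ?_, rfl⟩
      show g (π _) = 1
      rw [show π ⟨v, B.V0_le hv⟩ = 1 from (QuotientGroup.eq_one_iff _).2 hv, map_one]
    rw [hW, ← card_map_of_injective B.W.subtype_injective, ← hR, le_antisymm hgen hle, B.V0_card]
  · exfalso
    haveI : Fact (Nat.Prime 7) := ⟨by norm_num⟩
    have hW : Nat.card B.W = 672 := by
      rw [card_eq_ker_mul π hπs, hker, hZc, Nat.card_congr eQ.toEquiv, SelfCentThree.psl_seven.2]
    set E := zpowers (h.φ e3M) ⊔ zpowers (h.φ e1M) with hE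
    have hEn : E ≤ normalizer (B.W : Set G) := sup_le (zpowers_le.2 B.e3_norm_W) (zpowers_le.2 B.e1_norm_W)
    have hE3 : IsPGroup 3 E := by
      have hle : E ≤ h.J := sup_le (zpowers_le.2 (h.φ_mem_J _ rfl)) (zpowers_le.2 (h.φ_mem_J _ rfl))
      exact (IsPGroup.of_card (n := 3) (by rw [h.J_card]; norm_num)).to_le hle
    obtain ⟨y, hyW, hy7', hyne, nrm⟩ := exists_fixed_seven hW hE3 hEn
    have kill : ∀ n : ℕ, y ^ n = 1 → ¬ 7 ∣ n → False := fun n hn h7 => hyne (by
      have hc := (pow_gcd_eq_one (a := y)).2 ⟨hy7', hn⟩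
      rwa [(Fact.out : (7 : ℕ).Prime).coprime_iff_not_dvd.2 h7, pow_one] at hc)
    rcases commute_seven e13 e33 hy7' (nrm _ (mem_sup_right (mem_zpowers _)))
        (nrm _ (mem_sup_left (mem_zpowers _))) with e | ⟨i, e⟩
    · obtain ⟨x, hx⟩ := B.mem_range_of_cent_e1 hyW e.symm
      have key : ∀ x : A6, x ^ 7 = 1 → x = 1 := by decide +kernel
      refine hyne ?_
      rw [← hx, key x (B.inj (by rw [map_pow, hx, hy7', map_one])), map_one]
    · have ye : Commute y (h.φ e1M ^ (i : ℕ) * h.φ e3M) := e.symm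
      by_cases hi : i = 0
      · rw [hi, show ((0 : Fin 3) : ℕ) = 0 from rfl, pow_zero, one_mul] at ye
        obtain ⟨j, x, hx, ey⟩ := B.cent_e3 hyW ye.eq
        have hcx : Commute (h.φ (e3M ^ (j : ℕ))) (B.psi 2 x) := by rw [map_pow]; exact (B.psi2_e3 x).pow_left _
        refine kill 6 ?_ (by norm_num)
        rw [ey, hcx.mul_pow, ← map_pow (B.psi 2), show x ^ 6 = (x * x) ^ 3 by rw [← pow_two, ← pow_mul], InV_facts.1 x hx, one_pow,
          map_one, mul_one, map_pow, ← pow_mul, mul_comm, show 6 * (j : ℕ) = 3 * (2 * (j : ℕ)) by ring, pow_mul,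
          e33, one_pow]
      · obtain ⟨j, hj⟩ : ∃ j : Fin 3, j ≠ 0 ∧ Commute y (h.φ e3M ^ (j : ℕ) * h.φ e1M) := by
          have hce : Commute (h.φ e3M) (h.φ e1M) := (comm_e (h := h))
          obtain ⟨i, hi'⟩ := i
          interval_cases i
          · exact absurd rfl hi
          · refine ⟨1, by decide, ?_⟩
            have h1 := ye
            simp only [pow_one] at h1
            show Commute y (h.φ e3M ^ 1 * h.φ e1M)
            rwa [pow_one, hce.eq]
          · refine ⟨2, by decide, ?_⟩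
            have h2 := ye.pow_right 2
            rw [((hce.symm).pow_left _).mul_pow, ← pow_mul, show (2 * 2 : ℕ) = 3 + 1 from rfl, pow_succ, e13,
              one_mul, ← (hce.pow_left 2).eq] at h2
            exact h2
        obtain ⟨k, hk⟩ := three_pow e33 (B.cent_skew hj.1 hyW hj.2.eq)
        exact kill 3 (by rw [hk, ← pow_mul, mul_comm, pow_mul, e33, one_pow]) (by norm_num)

end Hyp.Big

end Cfsg.Agent.A9ThreeLocal
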