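import Cfsg.Agent.TISpecial.Basic

/-!
# Special class functions with fusion controlled on the supports only
-/

set_option autoImplicit false

namespace Cfsg.Agent.A9ThreeLocal

open Cfsg Cfsg.Agent TISpecial
open scoped ComplexConjugate

universe u v

variable {G : Type u} [Group G] {M : Type v} [Group M] [Fintype G] [Fintype M] {φ : M →* G} {F F' : M → ℂ}

/-- The induced function at a point whose fusion with the support is controlled. -/
theorem ind_map_at (hφ : Function.Injective φ) (hF : IsClassFunction M F) (m₀ : M)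
    (hfus : ∀ (x : G) (m : M), F m ≠ 0 → x * φ m * x⁻¹ = φ m₀ → x ∈ φ.range) :
    ind φ F (φ m₀) = F m₀ := by
  classical
  have h1 : ∀ x : G, Function.extend φ F 0 (x⁻¹ * φ m₀ * x) =
      if x ∈ φ.range then F m₀ else 0 := by
    intro x
    by_cases hx : x ∈ φ.range
    · obtain ⟨k, rfl⟩ := hx
      rw [if_pos ⟨k, rfl⟩, ← map_inv, ← map_mul, ← map_mul, hφ.extend_apply]
      simpa using hF m₀ k⁻¹
    · rw [if_neg hx]
      by_cases h : ∃ m, φ m = x⁻¹ * φ m₀ * x
      · obtain ⟨m, hm⟩ := h
        rw [← hm, hφ.extend_apply]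
        by_contra hne
        exact hx (hfus x m hne (by rw [hm]; group))
      · rw [Function.extend_apply' _ _ _ h]; rfl
  have hM : (Nat.card M : ℂ) ≠ 0 := Char.card_ne_zero
  rw [ind, Finset.sum_congr rfl fun x _ => h1 x, ← Finset.sum_filter, Finset.sum_const, nsmul_eq_mul]
  have hc : (Finset.univ.filter fun x : G => x ∈ φ.range) = Finset.univ.map ⟨φ, hφ⟩ := by
    ext x; simp
  rw [hc, Finset.card_map, Finset.card_univ, ← Nat.card_eq_fintype_card]
  field_simp

/-- The induction is an isometry. -/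
theorem sum_coef_mul_conj_on (hφ : Function.Injective φ) (hF' : IsClassFunction M F')
    (hfus : ∀ (x : G) (m m' : M), F' m ≠ 0 → F m' ≠ 0 → x * φ m * x⁻¹ = φ m' → x ∈ φ.range) :
    ∑ χ : IrrCharacter G, coef φ F χ * conj (coef φ F' χ) = classInner F F' := by
  have h1 : classInner (ind φ F) (ind φ F') = classInner F F' := by
    rw [classInner_ind hφ F (isClassFunction_ind φ F')]
    simp only [classInner]
    congr 1
    refine Finset.sum_congr rfl fun m' _ => ?_
    by_cases hm' : F m' = 0
    · simp [hm']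
    · rw [ind_map_at hφ hF' m' fun x m hm e => hfus x m m' hm hm' e]
  rw [← h1, Char.classInner_eq_sum (isClassFunction_ind φ F)]
  refine Finset.sum_congr rfl fun χ _ => ?_
  rw [← Char.classInner_conj_symm (φ := ind φ F') (ψ := (χ : G → ℂ)),
    classInner_ind hφ F (Char.isClassFunction_of_isIrr χ.2),
    classInner_ind hφ F' (Char.isClassFunction_of_isIrr χ.2)]
  rfl

open scoped Classical in
/-- Pairs of involutions with special product. -/
theorem pair_sum_on (hφ : Function.Injective φ)
    (hfus : ∀ (x : G) (m : M), F m ≠ 0 → x * φ m * x⁻¹ = φ m⁻¹ → x ∈ φ.range) {u u' : G} (hu : u * u = 1)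
    (hu' : u' * u' = 1) (p q : M → Bool) (hp : ∀ m, p m = true ↔ IsConj u (φ m))
    (hq : ∀ m, q m = true ↔ IsConj u' (φ m)) :
    ∑ χ : IrrCharacter G, coef φ F χ * ((χ : G → ℂ) u * (χ : G → ℂ) u' / (χ : G → ℂ) 1) =
      (Nat.card (Subgroup.centralizer ({u} : Set G)) : ℂ) *
        Nat.card (Subgroup.centralizer ({u'} : Set G)) / (Nat.card G * Nat.card M) *
        ∑ m : M, ∑ m' : M, if p m && q m' then F (m * m') else 0 := by
  have hG : (Nat.card G : ℂ) ≠ 0 := Char.card_ne_zero
  have hM : (Nat.card M : ℂ) ≠ 0 := Char.card_ne_zero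
  have e1 : ∀ χ : IrrCharacter G, (χ : G → ℂ) u * (χ : G → ℂ) u' / (χ : G → ℂ) 1 =
      (Nat.card G : ℂ)⁻¹ * ∑ g, (χ : G → ℂ) (g * u * g⁻¹ * u') := fun χ => by
    have h1 := Char.IsIrr.one_ne_zero χ.2
    have h2 := CharArith.classMult χ.2 u u'
    field_simp
    linear_combination -h2
  simp only [e1, Finset.mul_sum]
  rw [Finset.sum_comm]
  simp only [mul_left_comm (coef φ F _) (Nat.card G : ℂ)⁻¹, ← Finset.mul_sum, sum_coef_mul hφ]
  simp only [ind, ← Finset.mul_sum]
  rw [Finset.sum_comm]
  -- spread the conjugate of `u'`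
  have e2 : ∀ x : G, ∑ g : G, Function.extend φ F 0 (x⁻¹ * (g * u * g⁻¹ * u') * x) =
      ∑ g : G, Function.extend φ F 0 (g * u * g⁻¹ * (x⁻¹ * u' * x⁻¹⁻¹)) := fun x => by
    refine Fintype.sum_equiv (Equiv.mulLeft x⁻¹) _ _ fun g => ?_
    simp only [Equiv.coe_mulLeft]
    congr 1
    group
  rw [Finset.sum_congr rfl fun x _ => e2 x]
  rw [← Fintype.sum_equiv (Equiv.inv G) (fun x => ∑ g : G,
    Function.extend φ F 0 (g * u * g⁻¹ * (x * u' * x⁻¹))) _ (fun x => by simp)]
  rw [Finset.sum_congr rfl fun x _ =>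
    sum_conj_eq u (fun a => Function.extend φ F 0 (a * (x * u' * x⁻¹))), ← Finset.mul_sum,
    sum_conj_eq u' (fun b => ∑ a : G,
      if IsConj u a then Function.extend φ F 0 (a * b) else 0)]
  have hinv : ∀ {v a : G}, v * v = 1 → IsConj v a → a * a = 1 := fun {v a} hv h => by
    obtain ⟨g, rfl⟩ := isConj_iff.1 h
    calc g * v * g⁻¹ * (g * v * g⁻¹) = g * (v * v) * g⁻¹ := by group
      _ = 1 := by rw [hv]; group
  have e3 : (∑ b : G, if IsConj u' b then
        ∑ a : G, (if IsConj u a then Function.extend φ F 0 (a * b) else 0) else 0) =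
      ∑ m : M, ∑ m' : M, if p m && q m' then F (m * m') else 0 := by
    have hin : ∀ a b : G, IsConj u a → IsConj u' b → Function.extend φ F 0 (a * b) ≠ 0 →
        a ∈ φ.range ∧ b ∈ φ.range := by
      intro a b ha hb hne
      by_cases hab : ∃ m, φ m = a * b
      · obtain ⟨m, hm⟩ := hab
        rw [← hm, hφ.extend_apply] at hne
        have ha2 := hinv hu ha
        have hb2 := hinv hu' hb
        have har : a ∈ φ.range := hfus a m hne (by
          rw [map_inv, hm, mul_inv_rev, inv_eq_of_mul_eq_one_right hb2,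
            inv_eq_of_mul_eq_one_right ha2, ← mul_assoc a a b, ha2, one_mul])
        refine ⟨har, ?_⟩
        have : b = a⁻¹ * φ m := by rw [hm, inv_mul_cancel_left]
        rw [this]
        exact mul_mem (inv_mem har) ⟨m, rfl⟩
      · exact absurd (Function.extend_apply' _ _ _ hab) hne
    have hsum : ∀ k : G → ℂ, (∀ g, k g ≠ 0 → g ∈ φ.range) → ∑ g, k g = ∑ m, k (φ m) := by
      intro k hk
      rw [← Finset.sum_subset (Finset.subset_univ (Finset.univ.map ⟨φ, hφ⟩)) fun g _ hg => by
        by_contra hne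
        obtain ⟨m, hm⟩ := hk g hne
        exact hg (Finset.mem_map.2 ⟨m, Finset.mem_univ _, hm⟩), Finset.sum_map]
      rfl
    rw [hsum _ fun b hb => ?_, Finset.sum_comm (f := fun m m' => if p m && q m' then F (m * m') else 0)]
    · refine Finset.sum_congr rfl fun m' _ => ?_
      by_cases hq' : q m' = true
      · have hb := (hq m').1 hq'
        rw [if_pos hb, hsum _ fun a ha => ?_]
        · refine Finset.sum_congr rfl fun m _ => ?_
          by_cases hp' : p m = true
          · rw [if_pos ((hp m).1 hp'), ← map_mul, hφ.extend_apply, if_pos (by simp [hp', hq'])]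
          · rw [if_neg fun e => hp' ((hp m).2 e), if_neg (by simp [hp'])]
        · split_ifs at ha with ha'
          · exact (hin a _ ha' hb ha).1
          · exact absurd rfl ha
      · rw [if_neg fun e => hq' ((hq m').2 e), Finset.sum_eq_zero fun m _ => by simp [hq']]
    · split_ifs at hb with hb'
      · obtain ⟨a, -, ha⟩ := Finset.exists_ne_zero_of_sum_ne_zero hb
        split_ifs at ha with ha'
        · exact (hin a b ha' hb' ha).2
        · exact absurd rfl ha
      · exact absurd rfl hb
  rw [e3]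
  field_simp

end Cfsg.Agent.A9ThreeLocal
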