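import Cfsg.Agent.A9ThreeLocal.AllLocal
import Cfsg.Agent.A9ThreeLocal.SpecialOn
import Cfsg.Agent.ThreeFullWreath.Finish

/-!
# In the local case the image is the whole group
-/

set_option autoImplicit false
set_option synthInstance.maxSize 4000
set_option synthInstance.maxHeartbeats 400000

namespace Cfsg.Agent.A9ThreeLocal

open Cfsg Cfsg.Agent Subgroup ThreeFullWreath
open scoped ComplexConjugate

universe u

variable {G : Type u} [Group G] [Fintype G] {φ : M →* G}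

/-- A count of pairs, as a rational identity. -/
theorem AllLocal.pair_rat (h : AllLocal φ) (k : Fin 5) (c : IrrCharacter G → ℤ) (d U V : IrrCharacter G → ℤ)
    (hc : ∀ χ : IrrCharacter G, TISpecial.coef φ (Phi k) (χ : G → ℂ) = c χ)
    (hd : ∀ χ : IrrCharacter G, (χ : G → ℂ) 1 = d χ) {i j : Fin 14}
    (hU : ∀ χ : IrrCharacter G, (χ : G → ℂ) (φ (rep i)) = U χ)
    (hV : ∀ χ : IrrCharacter G, (χ : G → ℂ) (φ (rep j)) = V χ)
    (hi : rep i * rep i = 1 ∧ ∀ m, cls m = i ↔ IsConj (φ (rep i)) (φ m))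
    (hj : rep j * rep j = 1 ∧ ∀ m, cls m = j ↔ IsConj (φ (rep j)) (φ m))
    {S : ℤ} (hS : pairs k i j = (S, 0)) :
    ∑ χ, (c χ : ℚ) * ((U χ : ℚ) * V χ / d χ) =
      (Nat.card (centralizer ({φ (rep i)} : Set G)) : ℚ) *
        Nat.card (centralizer ({φ (rep j)} : Set G)) / (Nat.card G * 648) * S := by
  have := pair_sum_on h.inj (fun x m hm e => h.fused (isSpecial_of_Phi hm)
    (special_not_involution m (isSpecial_of_Phi hm)).2 e) (F := Phi k) (u := φ (rep i)) (u' := φ (rep j))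
    (by rw [← map_mul, hi.1, map_one]) (by rw [← map_mul, hj.1, map_one])
    (fun m => decide (cls m = i)) (fun m => decide (cls m = j))
    (fun m => by rw [decide_eq_true_eq]; exact hi.2 m) (fun m => by rw [decide_eq_true_eq]; exact hj.2 m)
  rw [Phi_pairs, hS, card_M] at this
  simp only [hc, hd, hU, hV, Int.cast_zero, zero_mul, add_zero] at this
  apply Rat.cast_injective (α := ℂ)
  push_cast at this ⊢
  exact this

/-- The numerical data. -/
theorem AllLocal.exists_data (h : AllLocal φ) :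
    ∃ (o : IrrCharacter G) (c : Fin 5 → IrrCharacter G → ℤ) (d U V : IrrCharacter G → ℤ) (L M' N : ℚ),
      (o : G → ℂ) = (fun _ => 1) ∧
      Data o c (fun χ => (d χ : ℚ)) (fun χ => (U χ : ℚ)) (fun χ => (V χ : ℚ)) L M' N ∧
      (∀ χ : IrrCharacter G, (χ : G → ℂ) 1 = d χ) ∧ (∀ χ, 0 < d χ) ∧
      (∀ χ : IrrCharacter G, (χ : G → ℂ) (φ (rep 2)) = U χ) := by
  classical
  obtain ⟨s2, s6, -, -⟩ := rep_sq
  have hdeg : ∀ χ : IrrCharacter G, ∃ z : ℤ, 0 < z ∧ (χ : G → ℂ) 1 = z := fun χ => by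
    obtain ⟨n, hn, e⟩ := Char.IsIrr.degree χ.2
    exact ⟨n, by exact_mod_cast hn, by rw [e]; simp⟩
  choose d hdpos hd using hdeg
  have hcoef : ∀ k (χ : IrrCharacter G), ∃ z : ℤ, TISpecial.coef φ (Phi k) (χ : G → ℂ) = z := fun k χ =>
    TISpecial.exists_int φ (isGeneralized_Phi k) (Char.IsIrr.isCharacter χ.2)
  choose c hc using hcoef
  have hint : ∀ i : Fin 14, rep i * rep i = 1 → ∀ χ : IrrCharacter G,
      ∃ v : ℤ, (χ : G → ℂ) (φ (rep i)) = v := fun i hu χ => by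
    have hu' : φ (rep i) * φ (rep i) = 1 := by rw [← map_mul, hu, map_one]
    obtain ⟨-, w, -, -, -, hw, -, -, -, -, -⟩ := ThreeKlein.six_values (Char.IsIrr.isCharacter χ.2)
      (x := φ (rep i)) (by rw [show (6 : ℕ) = 2 * 3 from rfl, pow_mul, sq, hu', one_pow])
      (by rw [inv_eq_of_mul_eq_one_right hu'])
    exact ⟨w, by rw [← hw, pow_succ, sq, hu', one_mul]⟩
  choose U hU using hint 2 s2
  choose V hV using hint 6 s6
  let o : IrrCharacter G := ⟨fun _ => 1, Char.isIrrCharacter_one⟩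
  have hone : ∀ {a : ℤ} (g : G), (o : G → ℂ) g = a → a = 1 := fun {a} g e => by
    exact_mod_cast (show (a : ℂ) = 1 from e.symm)
  have hzero : ∀ k (m : M), vals k (cls m) = (0, 0) → m * m = 1 → ∀ (W : IrrCharacter G → ℤ),
      (∀ χ : IrrCharacter G, (χ : G → ℂ) (φ m) = W χ) → ∑ χ, (c k χ : ℚ) * (W χ : ℚ) = 0 := by
    intro k m hm hm2 W hW
    have := TISpecial.sum_coef_mul h.inj (Phi k) (φ m)
    rw [ind_map_at h.inj (isClassFunction_Phi k) m fun x m' hm' e =>
      (h.not_special (isSpecial_of_Phi hm') hm2 e).elim, Phi_apply, hm] at this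
    simp only [hc, hW, Int.cast_zero, zero_mul, add_zero] at this
    exact_mod_cast this
  have h2 : ∀ m, cls m = 2 ↔ IsConj (φ (rep 2)) (φ m) := fun m => (h.cls_iff m).1
  have h6 : ∀ m, cls m = 6 ↔ IsConj (φ (rep 6)) (φ m) := fun m => (h.cls_iff m).2
  have hp : ∀ g : G, (Nat.card (centralizer ({g} : Set G)) : ℚ) ≠ 0 := fun g =>
    Nat.cast_ne_zero.2 Nat.card_pos.ne'
  have hG : (Nat.card G : ℚ) ≠ 0 := Nat.cast_ne_zero.2 Nat.card_pos.ne'
  set C2 : ℚ := (Nat.card (centralizer ({φ (rep 2)} : Set G)) : ℚ) with hC2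
  set C6 : ℚ := (Nat.card (centralizer ({φ (rep 6)} : Set G)) : ℚ) with hC6
  obtain ⟨a0, a1, a2, a3⟩ := pairs_eq
  obtain ⟨b0, b1, b2, b3⟩ := pairs_eq'
  obtain ⟨e0, e1, e2, e3⟩ := pairs_eq''
  refine ⟨o, c, d, U, V, C2 * C2 / Nat.card G, C6 * C6 / Nat.card G, C2 * C6 / Nat.card G, rfl, ?_,
    hd, hdpos, hU⟩
  exact
  { gram := fun k l => by
      have := sum_coef_mul_conj_on (F := Phi k) h.inj (isClassFunction_Phi l)
        fun x m m' hm hm' e => h.fused (isSpecial_of_Phi hm) (isSpecial_of_Phi hm') e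
      rw [classInner_Phi] at this
      simp only [hc, map_intCast] at this
      exact_mod_cast this
    co := fun k => by
      have : TISpecial.coef φ (Phi k) (o : G → ℂ) = prin k := classInner_Phi_one k
      rw [hc] at this
      exact_mod_cast this
    do_ := by exact_mod_cast hone 1 (hd o)
    uo := by exact_mod_cast hone _ (hU o)
    vo := by exact_mod_cast hone _ (hV o)
    d_ne := fun χ => Int.cast_ne_zero.2 (hdpos χ).ne'
    d_int := fun χ => ⟨d χ, rfl⟩
    lin := fun χ hχ => by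
      have h1 : d χ = 1 := by
        rcases hχ with e | e
        · exact_mod_cast e
        · have : d χ = -1 := by exact_mod_cast e
          have := hdpos χ
          omega
      obtain ⟨f, hf⟩ := Char.IsChar.exists_hom (Char.IsIrr.isCharacter χ.2) (by rw [hd, h1]; simp)
      have := hc 3 χ
      rw [TISpecial.coef, hf, show (fun m => ((f (φ m) : ℂˣ) : ℂ)) = fun m => ((f.comp φ) m : ℂ) from rfl,
        classInner_lin] at this
      exact_mod_cast this.symm
    L_ne := div_ne_zero (mul_ne_zero (hp _) (hp _)) hG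
    M_ne := div_ne_zero (mul_ne_zero (hp _) (hp _)) hG
    hN := by ring
    sd := fun k => hzero k 1 (vals_zero k).2.2 (one_mul _) d fun χ => by rw [map_one]; exact hd χ
    su := fun k => hzero k (rep 2) (by rw [cls_rep]; exact (vals_zero k).1) s2 U hU
    sv := fun k => hzero k (rep 6) (by rw [cls_rep]; exact (vals_zero k).2.1) s6 V hV
    suu := fun k => by
      obtain rfl | rfl | rfl | rfl : k = 0 ∨ k = 1 ∨ k = 2 ∨ k = 3 := by fin_cases k <;> simp
      · rw [show (((0 : Fin 4)).castSucc : Fin 5) = 0 from rfl, h.pair_rat _ _ d U U (hc _) hd hU hU ⟨s2, h2⟩ ⟨s2, h2⟩ a0, ← hC2]; norm_num [tUU_vals]; ring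
      · rw [show (((1 : Fin 4)).castSucc : Fin 5) = 1 from rfl, h.pair_rat _ _ d U U (hc _) hd hU hU ⟨s2, h2⟩ ⟨s2, h2⟩ a1, ← hC2]; norm_num [tUU_vals]; ring
      · rw [show (((2 : Fin 4)).castSucc : Fin 5) = 2 from rfl, h.pair_rat _ _ d U U (hc _) hd hU hU ⟨s2, h2⟩ ⟨s2, h2⟩ a2, ← hC2]; norm_num [tUU_vals]; ring
      · rw [show (((3 : Fin 4)).castSucc : Fin 5) = 3 from rfl, h.pair_rat _ _ d U U (hc _) hd hU hU ⟨s2, h2⟩ ⟨s2, h2⟩ a3, ← hC2]; norm_num [tUU_vals]
    suv := fun k => by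
      obtain rfl | rfl | rfl | rfl : k = 0 ∨ k = 1 ∨ k = 2 ∨ k = 3 := by fin_cases k <;> simp
      · rw [show (((0 : Fin 4)).castSucc : Fin 5) = 0 from rfl, h.pair_rat _ _ d U V (hc _) hd hU hV ⟨s2, h2⟩ ⟨s6, h6⟩ b0, ← hC2, ← hC6]; norm_num [tUV_vals]; ring
      · rw [show (((1 : Fin 4)).castSucc : Fin 5) = 1 from rfl, h.pair_rat _ _ d U V (hc _) hd hU hV ⟨s2, h2⟩ ⟨s6, h6⟩ b1, ← hC2, ← hC6]; norm_num [tUV_vals]; ring
      · rw [show (((2 : Fin 4)).castSucc : Fin 5) = 2 from rfl, h.pair_rat _ _ d U V (hc _) hd hU hV ⟨s2, h2⟩ ⟨s6, h6⟩ b2, ← hC2, ← hC6]; norm_num [tUV_vals]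
      · rw [show (((3 : Fin 4)).castSucc : Fin 5) = 3 from rfl, h.pair_rat _ _ d U V (hc _) hd hU hV ⟨s2, h2⟩ ⟨s6, h6⟩ b3, ← hC2, ← hC6]; norm_num [tUV_vals]
    svv := fun k => by
      obtain rfl | rfl | rfl | rfl : k = 0 ∨ k = 1 ∨ k = 2 ∨ k = 3 := by fin_cases k <;> simp
      · rw [show (((0 : Fin 4)).castSucc : Fin 5) = 0 from rfl, h.pair_rat _ _ d V V (hc _) hd hV hV ⟨s6, h6⟩ ⟨s6, h6⟩ e0, ← hC6]; norm_num [tVV_vals]; ring
      · rw [show (((1 : Fin 4)).castSucc : Fin 5) = 1 from rfl, h.pair_rat _ _ d V V (hc _) hd hV hV ⟨s6, h6⟩ ⟨s6, h6⟩ e1, ← hC6]; norm_num [tVV_vals]; ring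
      · rw [show (((2 : Fin 4)).castSucc : Fin 5) = 2 from rfl, h.pair_rat _ _ d V V (hc _) hd hV hV ⟨s6, h6⟩ ⟨s6, h6⟩ e2, ← hC6]; norm_num [tVV_vals]
      · rw [show (((3 : Fin 4)).castSucc : Fin 5) = 3 from rfl, h.pair_rat _ _ d V V (hc _) hd hV hV ⟨s6, h6⟩ ⟨s6, h6⟩ e3, ← hC6]; norm_num [tVV_vals]; ring }

omit [Fintype G] in
theorem AllLocal.range_eq_top [Finite G] (h : AllLocal φ) : φ.range = ⊤ := by
  classical
  haveI := Fintype.ofFinite G
  haveI : Fact (Nat.Prime 3) := ⟨Nat.prime_three⟩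
  obtain ⟨o, c, d, U, V, L, M', N', -, hdata, hd, hdpos, hU⟩ := h.exists_data
  obtain ⟨χ, -, hd3, hU3⟩ := hdata.exists_three
  have hd3' : d χ = 3 := by
    rcases hd3 with e | e
    · exact_mod_cast e
    · have : d χ = -3 := by exact_mod_cast e
      have := hdpos χ
      omega
  have hχ := Char.IsIrr.isCharacter χ.2
  set Ng := Char.kerSubgroup hχ with hNg
  have hA : ∀ m : M, m.right = 1 → φ m ∈ Ng := fun m hm =>
    three_ker hχ (by rw [hd, hd3']; norm_num) hm
  have hcon : ∀ m : M, cls m = 2 → φ m ∉ Ng := fun m hm hmem => by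
    obtain ⟨k, hk⟩ := isConj_iff.1 (isConj_iff_cls.2 (show cls m = cls (rep 2) by rw [cls_rep, hm]))
    have : φ (rep 2) ∈ Ng := by
      rw [← hk, map_mul, map_mul, map_inv]
      exact (inferInstance : Ng.Normal).conj_mem _ hmem _
    rw [hNg, Char.mem_kerSubgroup, hU, hd] at this
    exact hU3 (by exact_mod_cast this)
  have hmeet : ∀ m : M, φ m ∈ Ng → m.right = 1 := fun m hm => by
    by_contra hr
    have h5 : ∀ x : M, φ x ∈ Ng → cls x = 5 → False := fun x hx e =>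
      hcon _ (five_cube x e) (by rw [map_mul, map_mul]; exact mul_mem (mul_mem hx hx) hx)
    rcases comm_cls m hr with e | e | ⟨q, e⟩
    · exact hcon m e hm
    · exact h5 m hm e
    · have hq : φ (SemidirectProduct.inr q * m * (SemidirectProduct.inr q)⁻¹ * m⁻¹) ∈ Ng := by
        simp only [map_mul, map_inv]
        exact mul_mem ((inferInstance : Ng.Normal).conj_mem _ hm _) (inv_mem hm)
      rcases e with e | e
      · exact hcon _ e hq
      · exact h5 _ hq e
  set ι : A →* Ng := (φ.comp SemidirectProduct.inl).codRestrict Ng fun t => hA _ (by simp)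
  have hι : Function.Injective ι := fun a b e =>
    SemidirectProduct.inl_injective (h.inj (congrArg Subtype.val e))
  set Jn : Subgroup Ng := ι.range
  have hJn : ∀ y : Ng, y ∈ Jn ↔ ∃ m : M, m.right = 1 ∧ φ m = y := fun y => by
    refine ⟨fun ⟨t, ht⟩ => ⟨SemidirectProduct.inl t, by simp, congrArg Subtype.val ht⟩, ?_⟩
    rintro ⟨m, hm, e⟩
    refine ⟨m.left, Subtype.ext ?_⟩
    rw [← e]
    show φ (SemidirectProduct.inl m.left) = φ m
    conv_rhs => rw [← SemidirectProduct.inl_left_mul_inr_right m, hm, map_one, mul_one]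
  have hcJ : Nat.card Jn = 27 := by
    rw [← Nat.card_congr (MonoidHom.ofInjective hι).toEquiv, Nat.card_eq_fintype_card]
    rfl
  have hrange : ∀ y : Ng, (y : G) ∈ φ.range → y ∈ Jn := fun y ⟨m, hm⟩ =>
    (hJn y).2 ⟨m, hmeet m (hm ▸ y.2), hm⟩
  set e0 : M := SemidirectProduct.inl (Multiplicative.ofAdd (1, 0, 0))
  have hnorm : ∀ x : G, (∀ y : Ng, y ∈ Jn → ∃ m : M, m.right = 1 ∧ φ m = x * y * x⁻¹) → x ∈ φ.range := by
    intro x hx
    obtain ⟨m, hmr, hm⟩ := hx ⟨φ e0, hA _ (by simp [e0])⟩ ((hJn _).2 ⟨e0, by simp [e0], rfl⟩)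
    exact h.fus (by simp [e0]) ofAdd_ne.1 hmr hm.symm
  have hnJ : normalizer (Jn : Set Ng) = Jn := by
    refine le_antisymm (fun x hx => hrange x (hnorm x fun y hy => ?_)) le_normalizer
    exact (hJn _).1 ((mem_normalizer_iff.1 hx y).1 hy)
  have hfac : 3 ^ (Nat.card Ng).factorization 3 = 27 := by
    have hN0 : Nat.card Ng ≠ 0 := Nat.card_pos.ne'
    have h1 : 3 ≤ (Nat.card Ng).factorization 3 :=
      (Nat.prime_three.pow_dvd_iff_le_factorization hN0).1
        (by have := card_subgroup_dvd_card Jn; rw [hcJ] at this; exact this)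
    have h2 : ¬ 4 ≤ (Nat.card Ng).factorization 3 := fun e => by
      have := Sylow.prime_dvd_card_quotient_normalizer (p := 3) (n := 3)
        ((Nat.prime_three.pow_dvd_iff_le_factorization hN0).2 e) (H := Jn) (by rw [hcJ]; norm_num)
      rw [hnJ] at this
      have h1 : Nat.card (Jn ⧸ Jn.comap Jn.subtype) = 1 := by
        rw [show Jn.comap Jn.subtype = ⊤ from eq_top_iff.2 fun x _ => x.2]
        exact Subgroup.index_top
      omega
    rw [show (Nat.card Ng).factorization 3 = 3 by omega]; norm_num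
  set P : Sylow 3 Ng := Sylow.ofCard Jn (by rw [hfac, hcJ])
  have hcomm : ∀ a ∈ Jn, ∀ b ∈ Jn, a * b = b * a := by
    rintro _ ⟨s, rfl⟩ _ ⟨t, rfl⟩
    rw [← map_mul, ← map_mul, mul_comm]
  have hP : normalizer ((P : Subgroup Ng) : Set Ng) ≤ centralizer ((P : Subgroup Ng) : Set Ng) := by
    show normalizer (Jn : Set Ng) ≤ centralizer (Jn : Set Ng)
    rw [hnJ]
    exact fun a ha b hb => hcomm b hb a ha
  set K := (MonoidHom.transferSylow P hP).ker with hK
  have hKc : IsComplement' K Jn := MonoidHom.ker_transferSylow_isComplement' P hP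
  have h3K : ¬ 3 ∣ Nat.card K := MonoidHom.not_dvd_card_ker_transferSylow P hP
  haveI : IsMulCommutative Jn := ⟨⟨fun a b => Subtype.ext (hcomm a a.2 b b.2)⟩⟩
  have hnc : ¬ IsCyclic Jn := fun hc => by
    obtain ⟨g, hg⟩ := hc.exists_ofOrder_eq_natCard (α := Jn)
    obtain ⟨t, ht⟩ := g.2
    have hg3 : g ^ 3 = 1 := by
      refine Subtype.ext ?_
      show (g : Ng) ^ 3 = 1
      rw [← ht, ← map_pow]
      rw [A_cube, map_one]
    have := Nat.le_of_dvd (by norm_num) (orderOf_dvd_of_pow_eq_one hg3)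
    omega
  have hKbot : K = ⊥ := by
    rw [← Coprime.iSup_centralizer_eq (A := Jn) (K := K) hnc
      (le_normalizer_of_normal.trans' le_top)
      (by rw [hcJ, show (27 : ℕ) = 3 ^ 3 from rfl];
          exact Nat.Coprime.pow_left 3 ((Nat.prime_three.coprime_iff_not_dvd).2 h3K))]
    refine eq_bot_iff.2 (iSup₂_le fun a ha y hy => ?_)
    obtain ⟨ha, ha1⟩ := ha
    obtain ⟨m, hm, hma⟩ := (hJn a).1 ha
    have hm1 : m ≠ 1 := fun e => ha1 (Subtype.ext (by rw [← hma, e, map_one]; rfl))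
    have hy' : y ∈ Jn := hrange y (h.loc m hm hm1 (mem_centralizer_singleton_iff.2 (by
      rw [hma]
      exact congrArg Subtype.val (mem_centralizer_singleton_iff.1 hy.2))))
    exact (disjoint_def.1 hKc.disjoint) hy.1 hy'
  have htop : Jn = ⊤ := isComplement'_bot_left.1 (hKbot ▸ hKc)
  refine eq_top_iff.2 fun x _ => hnorm x fun y hy => ?_
  obtain ⟨m, hm, he⟩ := (hJn ⟨x * y * x⁻¹, (inferInstance : Ng.Normal).conj_mem _ y.2 x⟩).1
    (htop ▸ mem_top _)
  exact ⟨m, hm, he⟩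


end Cfsg.Agent.A9ThreeLocal
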