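import Cfsg.Agent.A9ThreeLocal.Setup
import Mathlib.GroupTheory.SpecificGroups.Alternating

/-!
The normaliser in the alternating group of three disjoint cycles.
-/

set_option autoImplicit false
set_option synthInstance.maxSize 4000
set_option synthInstance.maxHeartbeats 400000

namespace Cfsg.Agent.A9ThreeLocal

open Equiv Equiv.Perm Subgroup ThreeFullWreath

/-- The block of a point. -/
def bk (p : Fin 9) : Fin 3 := ⟨p.val / 3, by omega⟩

/-- A permutation inside each block. -/
def combFun (a b c : Perm (Fin 3)) (p : Fin 9) : Fin 9 :=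
  ⟨3 * (p.val / 3) +
    ((if p.val / 3 = 0 then a else if p.val / 3 = 1 then b else c) ⟨p.val % 3, by omega⟩).val, by omega⟩

theorem combFun_bij : ∀ a b c : Perm (Fin 3), ∀ p : Fin 9, combFun a⁻¹ b⁻¹ c⁻¹ (combFun a b c p) = p := by
  decide +kernel

/-- The permutation inside each block, as a permutation. -/
def comb (a b c : Perm (Fin 3)) : Perm (Fin 9) where
  toFun := combFun a b c
  invFun := combFun a⁻¹ b⁻¹ c⁻¹
  left_inv := combFun_bij a b c
  right_inv p := by
    simpa only [inv_inv] using combFun_bij a⁻¹ b⁻¹ c⁻¹ p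

theorem comb_model : ∀ a b c : Perm (Fin 3), sign (comb a b c) = 1 → ∃ m : M, perm m = comb a b c := by
  decide +kernel

theorem block_perm : ∀ f : Perm (Fin 3), ∃ m : M, ∀ p : Fin 9, bk (perm m p) = f (bk p) := by decide +kernel

theorem trans_block : ∀ x y z, ∀ p : Fin 9, bk (perm (el x y z) p) = bk p := by decide +kernel

theorem trans_trans : ∀ p q : Fin 9, bk p = bk q → ∃ x y z, perm (el x y z) p = q := by decide +kernel

theorem trans_gens : perm (el 1 0 0) = swap 0 1 * swap 1 2 ∧ perm (el 0 1 0) = swap 3 4 * swap 4 5 ∧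
    perm (el 0 0 1) = swap 6 7 * swap 7 8 ∧
    (∀ x y z, el x y z = el 1 0 0 ^ x.val * el 0 1 0 ^ y.val * el 0 0 1 ^ z.val) ∧
    ∀ m : M, sign (perm m) = 1 := by
  decide +kernel

theorem el_mul (x y z x' y' z' : ZMod 3) : el (x + x') (y + y') (z + z') = el x y z * el x' y' z' := by
  simp only [el]
  rw [← map_mul]
  rfl

theorem el_neg (x y z : ZMod 3) : el (-x) (-y) (-z) = (el x y z)⁻¹ := by
  simp only [el]
  rw [← map_inv]
  rfl

theorem perm_range_normalizer (J₀ : Subgroup (Perm (Fin 9)))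
    (hJ₀ : J₀ = Subgroup.closure {swap (0 : Fin 9) 1 * swap 1 2, swap (3 : Fin 9) 4 * swap 4 5, swap (6 : Fin 9) 7 * swap 7 8}) :
    perm.range = alternatingGroup (Fin 9) ⊓ normalizer (J₀ : Set (Perm (Fin 9))) := by
  obtain ⟨g1, g2, g3, gw, gs⟩ := trans_gens
  have hJ : ∀ σ, σ ∈ J₀ ↔ ∃ x y z, perm (el x y z) = σ := by
    intro σ
    constructor
    · intro hσ
      rw [hJ₀] at hσ
      induction hσ using closure_induction with
      | mem s hs =>
        rcases hs with rfl | rfl | rfl
        · exact ⟨1, 0, 0, g1⟩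
        · exact ⟨0, 1, 0, g2⟩
        · exact ⟨0, 0, 1, g3⟩
      | one => exact ⟨0, 0, 0, by rw [show el 0 0 0 = 1 by decide +kernel, map_one]⟩
      | mul a b _ _ ha hb =>
        obtain ⟨x, y, z, rfl⟩ := ha
        obtain ⟨x', y', z', rfl⟩ := hb
        exact ⟨x + x', y + y', z + z', by rw [← map_mul, el_mul]⟩
      | inv a _ ha =>
        obtain ⟨x, y, z, rfl⟩ := ha
        exact ⟨-x, -y, -z, by rw [← map_inv, el_neg]⟩
    · rintro ⟨x, y, z, rfl⟩
      rw [gw, map_mul, map_mul, map_pow, map_pow, map_pow, g1, g2, g3, hJ₀]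
      exact mul_mem (mul_mem (pow_mem (subset_closure (by simp)) _) (pow_mem (subset_closure (by simp)) _))
        (pow_mem (subset_closure (by simp)) _)
  refine le_antisymm ?_ ?_
  · rintro _ ⟨m, rfl⟩
    refine mem_inf.2 ⟨mem_alternatingGroup.2 (gs m), mem_normalizer_fintype fun s hs => ?_⟩
    obtain ⟨x, y, z, rfl⟩ := (hJ s).1 hs
    obtain ⟨x', y', z', e⟩ := right_el (m * el x y z * m⁻¹) (by rw [SemidirectProduct.mul_right, SemidirectProduct.mul_right, el_right, mul_one,
      SemidirectProduct.inv_right, mul_inv_cancel])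
    exact (hJ _).2 ⟨x', y', z', by rw [← e, map_mul, map_mul, map_inv]⟩
  · intro σ hσ
    obtain ⟨hσs, hσn⟩ := mem_inf.1 hσ
    have hblk : ∀ p q, bk p = bk q → bk (σ p) = bk (σ q) := by
      intro p q hpq
      obtain ⟨x, y, z, e⟩ := trans_trans p q hpq
      obtain ⟨x', y', z', e'⟩ := (hJ _).1 ((mem_normalizer_iff.1 hσn _).1 ((hJ _).2 ⟨x, y, z, rfl⟩))
      rw [← e, show σ (perm (el x y z) p) = perm (el x' y' z') (σ p) by rw [e']; simp, trans_block]
    let f : Fin 3 → Fin 3 := fun i => bk (σ ⟨3 * i.val, by omega⟩)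
    have hf : ∀ p, bk (σ p) = f (bk p) := fun p => hblk p _ (Fin.ext (by simp [bk]))
    have hfb : Function.Bijective f := Finite.surjective_iff_bijective.1 fun i =>
      ⟨bk (σ⁻¹ ⟨3 * i.val, by omega⟩), by rw [← hf]; exact Fin.ext (by simp [bk])⟩
    obtain ⟨m, hm⟩ := block_perm (Equiv.ofBijective f hfb)
    set τ := (perm m)⁻¹ * σ with hτdef
    have hτ : ∀ p, bk (τ p) = bk p := by
      intro p
      have e1 := hm (τ p)
      rw [hτdef, Perm.mul_apply, show perm m ((perm m)⁻¹ (σ p)) = σ p from (perm m).apply_symm_apply _, hf] at e1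
      exact ((Equiv.ofBijective f hfb).injective e1).symm
    have hval : ∀ p : Fin 9, (τ p).val / 3 = p.val / 3 := fun p => congrArg Fin.val (hτ p)
    have hbij : ∀ i : Fin 3, Function.Bijective
        (fun k : Fin 3 => (⟨(τ ⟨3 * i.val + k.val, by omega⟩).val % 3, by omega⟩ : Fin 3)) := fun i =>
      Finite.injective_iff_bijective.1 fun k k' e => by
        have h0 := congrArg Fin.val e
        simp only at h0
        have h1 := hval ⟨3 * i.val + k.val, by omega⟩
        have h2 := hval ⟨3 * i.val + k'.val, by omega⟩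
        simp only at h1 h2
        have h3 := congrArg Fin.val (τ.injective (Fin.ext (show (τ ⟨3 * i.val + k.val, by omega⟩).val =
          (τ ⟨3 * i.val + k'.val, by omega⟩).val by omega)))
        simp only at h3
        exact Fin.ext (by omega)
    let P : Fin 3 → Perm (Fin 3) := fun i => Equiv.ofBijective _ (hbij i)
    have hc : comb (P 0) (P 1) (P 2) = τ := by
      refine Equiv.ext fun p => Fin.ext ?_
      have h1 := hval p
      show 3 * (p.val / 3) +
        ((if p.val / 3 = 0 then P 0 else if p.val / 3 = 1 then P 1 else P 2) ⟨p.val % 3, _⟩).val = (τ p).val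
      have key : ∀ i : Fin 3, p.val / 3 = i.val → (P i ⟨p.val % 3, by omega⟩).val = (τ p).val % 3 := fun i hi => by
        show (τ ⟨3 * i.val + p.val % 3, _⟩).val % 3 = _
        rw [show (⟨3 * i.val + p.val % 3, by omega⟩ : Fin 9) = p from Fin.ext (by simp only; omega)]
      rcases (show p.val / 3 = 0 ∨ p.val / 3 = 1 ∨ p.val / 3 = 2 by omega) with e | e | e
      · rw [if_pos e, key 0 (by simp [e])]; omega
      · rw [if_neg (by omega), if_pos e, key 1 (by simp [e])]; omega
      · rw [if_neg (by omega), if_neg (by omega), key 2 (by simp [e])]; omega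
    obtain ⟨m', hm'⟩ := comb_model (P 0) (P 1) (P 2) (by
      rw [hc, hτdef, map_mul, map_inv, gs, mem_alternatingGroup.1 hσs, mul_one, inv_one])
    refine ⟨m * m', ?_⟩
    rw [map_mul, hm', hc, hτdef, mul_inv_cancel_left]

end Cfsg.Agent.A9ThreeLocal
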