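import Cfsg.Agent.A9ThreeLocal.KleinCases

/-!
No extra involution centralises the four-group on four points.
-/

set_option autoImplicit false
set_option synthInstance.maxSize 4000
set_option synthInstance.maxHeartbeats 400000

namespace Cfsg.Agent.A9ThreeLocal

open Equiv Equiv.Perm Subgroup ThreeFullWreath

universe u

theorem S3_comm_cube : ∀ σ τ : Perm (Fin 3), (σ * τ * σ⁻¹ * τ⁻¹) ^ 3 = 1 := by decide +kernel

theorem d6_class : ∃ z : A6, z * d6 * z⁻¹ = a6 * b6 := by decide +kernel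

theorem skew_eight : ∀ i : Fin 3, i ≠ 0 → cls (e1M ^ (i : ℕ) * (e2M * e3M)) = 8 := by decide +kernel

theorem e23_cls : cls (e2M * e3M) = cls uM := by decide +kernel

theorem InP_facts : (∀ x, InP x → x * x = 1) ∧ (∀ x y : A6, InP x → InP y → InP (x * y)) ∧ InP v6 ∧ InP x6 := by
  decide +kernel

theorem d6_pair : InP (d6 * v6 * d6⁻¹) ∧ InP (d6 * x6 * d6⁻¹) ∧ InP (d6⁻¹ * v6 * d6) ∧ InP (d6⁻¹ * x6 * d6) := by
  decide +kernel

namespace Hyp.Big

variable {G : Type u} [Group G] [Finite G] {h : Hyp G} (B : h.Big)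

/-- The centraliser of the four-group on three pairs. -/
def XP : Subgroup G := centralizer ({B.ψ v6, B.ψ x6} : Set G)

theorem mem_XP {g : G} : g ∈ B.XP ↔ g * B.ψ v6 = B.ψ v6 * g ∧ g * B.ψ x6 = B.ψ x6 * g := by
  simp only [XP, mem_centralizer_iff, Set.mem_insert_iff, Set.mem_singleton_iff, forall_eq_or_imp, forall_eq,
    eq_comm]

theorem XP_comm {g : G} (hg : g ∈ B.XP) {x : A6} (hx : InP x) : g * B.ψ x = B.ψ x * g := by
  obtain ⟨g1, g2⟩ := B.mem_XP.1 hg
  rcases hx with rfl | rfl | rfl | rfl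
  · rw [map_one, mul_one, one_mul]
  · exact g1
  · exact g2
  · rw [map_mul]; exact (show Commute g _ from g1).mul_right g2

theorem InP_mem {x : A6} (hx : InP x) : B.ψ x ∈ B.XP := by
  have key : ∀ x : A6, InP x → x * v6 = v6 * x ∧ x * x6 = x6 * x := by decide +kernel
  exact B.mem_XP.2 ⟨by rw [← map_mul, ← map_mul, (key x hx).1], by rw [← map_mul, ← map_mul, (key x hx).2]⟩

theorem e1_mem_XP : h.φ e1M ∈ B.XP := B.mem_XP.2 ⟨(B.cent v6).symm, (B.cent x6).symm⟩

theorem XP_cent_e1 {g : G} (hg : g ∈ B.XP) (hc : g * h.φ e1M = h.φ e1M * g) :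
    ∃ i : Fin 3, ∃ x : A6, InP x ∧ g = h.φ e1M ^ (i : ℕ) * B.ψ x := by
  obtain ⟨z, hz, x, hx⟩ := B.dec g hc
  obtain ⟨i, hi⟩ := three_pow (e_cubes (h := h)).1 hz
  have hcx : ∀ y : A6, Commute z (B.ψ y) := fun y => by
    rw [hi]; exact ((show Commute (h.φ e1M) _ from (B.cent y).symm)).pow_left _
  refine ⟨i, x, cent_InP x (B.inj ?_) (B.inj ?_), by rw [← hi, hx, mul_inv_cancel_left]⟩
  · rw [map_mul, map_mul, hx]; exact (hcx v6).inv_left.mul_left (B.mem_XP.1 hg).1
  · rw [map_mul, map_mul, hx]; exact (hcx x6).inv_left.mul_left (B.mem_XP.1 hg).2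

theorem d6_norm : B.ψ d6 ∈ normalizer (B.XP : Set G) := by
  refine mem_normalizer_fintype fun g hg => ?_
  have hstep : ∀ x : A6, InP (d6⁻¹ * x * d6) →
      B.ψ d6 * g * (B.ψ d6)⁻¹ * B.ψ x = B.ψ x * (B.ψ d6 * g * (B.ψ d6)⁻¹) := by
    intro x hx
    have h1 := B.XP_comm hg hx
    rw [map_mul, map_mul, map_inv] at h1
    calc B.ψ d6 * g * (B.ψ d6)⁻¹ * B.ψ x = B.ψ d6 * (g * ((B.ψ d6)⁻¹ * B.ψ x * B.ψ d6)) * (B.ψ d6)⁻¹ := by group
      _ = B.ψ d6 * ((B.ψ d6)⁻¹ * B.ψ x * B.ψ d6 * g) * (B.ψ d6)⁻¹ := by rw [h1]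
      _ = B.ψ x * (B.ψ d6 * g * (B.ψ d6)⁻¹) := by group
  exact B.mem_XP.2 ⟨hstep v6 d6_pair.2.2.1, hstep x6 d6_pair.2.2.2⟩

theorem d6_cube : B.ψ d6 ^ 3 = 1 := by
  rw [← map_pow, six_base.2.2.2.2.2.2.2.2.2.2.2.2.1, map_one]

theorem card_cent_d6 : Nat.card (centralizer ({B.ψ d6} : Set G)) = 54 := by
  obtain ⟨z, hz⟩ := d6_class
  obtain ⟨k, hk⟩ := isConj_iff.1 (isConj_iff_cls.2 e23_cls.symm)
  rw [← card_centralizer_conj (B.ψ z) (B.ψ d6), ← map_inv, ← map_mul, ← map_mul, hz, map_mul, B.map_a, B.map_b,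
    ← map_mul, ← hk, map_mul, map_mul, map_inv, card_centralizer_conj, h.cent_u_card]

theorem card_cent_e1d6 {i : Fin 3} (hi : i ≠ 0) :
    Nat.card (centralizer ({h.φ e1M ^ (i : ℕ) * B.ψ d6} : Set G)) = 81 := by
  obtain ⟨z, hz⟩ := d6_class
  obtain ⟨k, hk⟩ := isConj_iff.1 (isConj_iff_cls.2 (show cls aM = cls (e1M ^ (i : ℕ) * (e2M * e3M)) by
    rw [cls_aM.1, skew_eight i hi]))
  have e : B.ψ z * (h.φ e1M ^ (i : ℕ) * B.ψ d6) * (B.ψ z)⁻¹ = h.φ (e1M ^ (i : ℕ) * (e2M * e3M)) := by
    rw [← mul_assoc, ((show Commute (B.ψ z) (h.φ e1M) from B.cent z).pow_right _).eq,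
      map_mul h.φ, map_pow h.φ, map_mul h.φ, ← B.map_a, ← B.map_b, ← map_mul B.ψ a6 b6, ← hz, map_mul, map_mul,
      map_inv]
    group
  rw [← card_centralizer_conj (B.ψ z), e, ← hk, map_mul, map_mul, map_inv, card_centralizer_conj, h.cent_a, h.S_card]

theorem order_dvd_54 {g : G} (hg : g * B.ψ d6 = B.ψ d6 * g) : g ^ 54 = 1 := by
  have := _root_.pow_card_eq_one' (x := (⟨g, mem_centralizer_singleton_iff.2 hg⟩ : centralizer ({B.ψ d6} : Set G)))
  rw [B.card_cent_d6] at this
  exact congrArg Subtype.val this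

theorem order_dvd_81 {g : G} {i : Fin 3} (hi : i ≠ 0)
    (hg : g * (h.φ e1M ^ (i : ℕ) * B.ψ d6) = h.φ e1M ^ (i : ℕ) * B.ψ d6 * g) : g ^ 81 = 1 := by
  have := _root_.pow_card_eq_one'
    (x := (⟨g, mem_centralizer_singleton_iff.2 hg⟩ : centralizer ({h.φ e1M ^ (i : ℕ) * B.ψ d6} : Set G)))
  rw [B.card_cent_e1d6 hi] at this
  exact congrArg Subtype.val this

/-- The elements centralised by a non-trivial element of the acting group have order prime to five and seven. -/
theorem no_big_prime {y s : G} (hy : y ∈ B.XP) {c d : Fin 3} (hs : s = h.φ e1M ^ (c : ℕ) * B.ψ d6 ^ (d : ℕ))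
    (hs1 : s ≠ 1) (hcy : s * y = y * s) {p : ℕ} (hp : p.Prime) (h5 : 5 ≤ p) (hyp : y ^ p = 1) : y = 1 := by
  obtain ⟨e13, -⟩ := e_cubes (h := h)
  have hce : Commute (h.φ e1M) (B.ψ d6) := (B.cent d6).symm
  have ys : Commute y s := hcy.symm
  have fin : ∀ n : ℕ, y ^ n = 1 → p.Coprime n → y = 1 := fun n hn hc => by
    have h1 := (pow_gcd_eq_one (a := y)).2 ⟨hyp, hn⟩
    rwa [hc, pow_one] at h1
  have cop : ∀ a b : ℕ, p.Coprime (2 ^ a * 3 ^ b) := fun a b =>
    Nat.Coprime.mul_right (((Nat.coprime_primes hp Nat.prime_two).2 (by omega)).pow_right a)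
      (((Nat.coprime_primes hp Nat.prime_three).2 (by omega)).pow_right b)
  by_cases hd : d = 0
  · rw [hd, show ((0 : Fin 3) : ℕ) = 0 from rfl, pow_zero, mul_one] at hs
    have hy1 : Commute y (h.φ e1M) := by
      obtain ⟨c, hc⟩ := c
      interval_cases c
      · exact absurd (by rw [hs]; simp) hs1
      · rw [hs] at ys; simpa using ys
      · have := ys.pow_right 2
        rw [hs, ← pow_mul, show (2 * 2 : ℕ) = 3 + 1 from rfl, pow_succ, e13, one_mul] at this
        exact this
    obtain ⟨i, x, hx, e⟩ := B.XP_cent_e1 hy hy1.eq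
    refine fin 6 ?_ (by simpa using cop 1 1)
    have hcx : Commute (h.φ e1M ^ (i : ℕ)) (B.ψ x) := ((show Commute _ _ from (B.cent x).symm)).pow_left _
    rw [e, hcx.mul_pow, ← map_pow B.ψ, show x ^ 6 = (x * x) ^ 3 by rw [← pow_two, ← pow_mul], InP_facts.1 x hx, one_pow, map_one,
      mul_one, ← pow_mul, show (i : ℕ) * 6 = 3 * (2 * (i : ℕ)) by ring, pow_mul, e13, one_pow]
  by_cases hc : c = 0
  · rw [hc, show ((0 : Fin 3) : ℕ) = 0 from rfl, pow_zero, one_mul] at hs
    have hyd : Commute y (B.ψ d6) := by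
      obtain ⟨d, hd'⟩ := d
      interval_cases d
      · exact absurd rfl hd
      · rw [hs] at ys; simpa using ys
      · have := ys.pow_right 2
        rw [hs, ← pow_mul, show (2 * 2 : ℕ) = 3 + 1 from rfl, pow_succ, B.d6_cube, one_mul] at this
        exact this
    exact fin 54 (B.order_dvd_54 hyd.eq) (by simpa using cop 1 3)
  · obtain ⟨i, hi, hcy'⟩ : ∃ i : Fin 3, i ≠ 0 ∧ Commute y (h.φ e1M ^ (i : ℕ) * B.ψ d6) := by
      obtain ⟨d, hd'⟩ := d
      interval_cases d
      · exact absurd rfl hd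
      · exact ⟨c, hc, by rw [hs] at ys; simpa using ys⟩
      · have h2 := ys.pow_right 2
        rw [hs, (hce.pow_pow _ _).mul_pow, ← pow_mul, ← pow_mul, show (2 * 2 : ℕ) = 3 + 1 from rfl,
          pow_succ (B.ψ d6), B.d6_cube, one_mul, pow_eq_pow_mod ((c : ℕ) * 2) e13] at h2
        refine ⟨⟨((c : ℕ) * 2) % 3, Nat.mod_lt _ (by norm_num)⟩, fun e => hc ?_, h2⟩
        have h0 : ((c : ℕ) * 2) % 3 = 0 := congrArg Fin.val e
        apply Fin.ext
        have := c.2
        simp only [Fin.val_zero]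
        omega
    exact fin 81 (B.order_dvd_81 hi hcy'.eq) (by simpa using cop 0 4)

set_option maxHeartbeats 1000000 in
/-- The centraliser of the four-group on three pairs is small. -/
theorem XP_dvd : Nat.card B.XP ∣ 24 := by
  classical
  haveI : Fact (Nat.Prime 3) := ⟨Nat.prime_three⟩
  obtain ⟨e13, e33⟩ := e_cubes (h := h)
  obtain ⟨pSq, pMul, pv, px⟩ := InP_facts
  let VP : Subgroup G :=
    { carrier := {g | ∃ x : A6, InP x ∧ B.ψ x = g}
      one_mem' := ⟨1, Or.inl rfl, map_one _⟩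
      mul_mem' := by
        rintro _ _ ⟨x, hx, rfl⟩ ⟨y, hy, rfl⟩
        exact ⟨x * y, pMul x y hx hy, map_mul _ _ _⟩
      inv_mem' := by
        rintro _ ⟨x, hx, rfl⟩
        exact ⟨x, hx, by rw [← map_inv, inv_eq_of_mul_eq_one_right (pSq x hx)]⟩ }
  have hVP : VP ≤ B.XP := by rintro _ ⟨x, hx, rfl⟩; exact B.InP_mem hx
  set Z := VP.subgroupOf B.XP with hZ
  haveI hZn : Z.Normal := ⟨fun v hv g => by
    obtain ⟨x, hx, e⟩ := mem_subgroupOf.1 hv
    have hcomm : g * v = v * g := Subtype.ext (by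
      show (g : G) * v = v * g
      rw [← e]; exact B.XP_comm g.2 hx)
    rw [hcomm, mul_inv_cancel_right]; exact hv⟩
  have hZc : Nat.card Z = 4 := by
    have key : (Finset.univ.filter fun x : A6 => InP x).card = 4 := by decide +kernel
    rw [Nat.card_congr (subgroupOfEquivOfLe hVP).toEquiv, ← key, ← Fintype.card_subtype,
      ← Nat.card_eq_fintype_card]
    refine (Nat.card_congr (Equiv.ofBijective (fun x : {x : A6 // InP x} => (⟨B.ψ x, x, x.2, rfl⟩ : VP))
      ⟨fun a b e => Subtype.ext (B.inj (congrArg Subtype.val e)), ?_⟩)).symm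
    rintro ⟨_, x, hx, rfl⟩
    exact ⟨⟨x, hx⟩, rfl⟩
  set π : B.XP →* B.XP ⧸ Z := QuotientGroup.mk' Z
  have hπs : Function.Surjective π := QuotientGroup.mk'_surjective Z
  have hker : π.ker = Z := QuotientGroup.ker_mk' Z
  set eX : B.XP := ⟨h.φ e1M, B.e1_mem_XP⟩ with heX
  set X := zpowers (π eX) with hX
  have e1ne : h.φ e1M ≠ 1 := fun e => e1M_facts.2.1 (h.inj (e.trans (map_one _).symm))
  have hπe : π eX ≠ 1 := by
    intro e
    obtain ⟨x, hx', ex⟩ := mem_subgroupOf.1 ((QuotientGroup.eq_one_iff eX).1 e)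
    exact e1ne (B.eq_one_of_mem (mem_zpowers _) ⟨x, ex⟩)
  have hX3 : Nat.card X = 3 := by
    rw [hX, Nat.card_zpowers, orderOf_eq_prime (by
      rw [← map_pow, show eX ^ 3 = 1 from Subtype.ext e13, map_one]) hπe]
  have hXC : centralizer (X : Set (B.XP ⧸ Z)) = X := by
    refine le_antisymm (fun q hq => ?_) fun q hq => ?_
    · obtain ⟨g, rfl⟩ := hπs q
      have h1 : π g * π eX = π eX * π g := (mem_centralizer_iff.1 hq _ (mem_zpowers _)).symm
      rw [← mul_inv_eq_iff_eq_mul, ← mul_inv_eq_one, ← map_inv, ← map_inv, ← map_mul, ← map_mul, ← map_mul,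
        ← MonoidHom.mem_ker, hker] at h1
      obtain ⟨x, hx', ex⟩ := mem_subgroupOf.1 h1
      have ex' : B.ψ x = (g : G) * h.φ e1M * (g : G)⁻¹ * (h.φ e1M)⁻¹ := ex
      have e1 : (g : G) * h.φ e1M * (g : G)⁻¹ = B.ψ x * h.φ e1M := by rw [ex']; group
      have hx1 : B.ψ x = 1 := by
        have h3 : (B.ψ x * h.φ e1M) ^ 3 = 1 := by rw [← e1, conj_pow, e13]; group
        rw [(show Commute (B.ψ x) (h.φ e1M) from B.cent x).mul_pow, e13, mul_one] at h3
        have h2 : B.ψ x ^ 2 = 1 := by rw [pow_two, ← map_mul, pSq x hx', map_one]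
        rwa [pow_succ, h2, one_mul] at h3
      rw [hx1, one_mul] at e1
      obtain ⟨i, y, hy, e⟩ := B.XP_cent_e1 g.2 (mul_inv_eq_iff_eq_mul.1 e1)
      have : g = eX ^ (i : ℕ) * ⟨B.ψ y, B.InP_mem hy⟩ := Subtype.ext e
      rw [this, map_mul, map_pow, show π ⟨B.ψ y, B.InP_mem hy⟩ = 1 from
        (QuotientGroup.eq_one_iff _).2 ⟨y, hy, rfl⟩, mul_one]
      exact pow_mem (mem_zpowers _) _
    · obtain ⟨n, rfl⟩ := mem_zpowers_iff.1 hq
      refine mem_centralizer_iff.2 fun r hr => ?_
      obtain ⟨m, rfl⟩ := mem_zpowers_iff.1 hr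
      rw [← zpow_add, ← zpow_add, add_comm]
  set E := zpowers (h.φ e1M) ⊔ zpowers (B.ψ d6) with hE
  have hce : Commute (h.φ e1M) (B.ψ d6) := (B.cent d6).symm
  have hEn : E ≤ normalizer (B.XP : Set G) :=
    sup_le (zpowers_le.2 (le_normalizer B.e1_mem_XP)) (zpowers_le.2 B.d6_norm)
  have hEmem : ∀ s ∈ E, ∃ c d : Fin 3, s = h.φ e1M ^ (c : ℕ) * B.ψ d6 ^ (d : ℕ) :=
    fun s hs => pair_form hce e13 B.d6_cube hs
  have hEcube : ∀ s ∈ E, s ^ 3 = 1 := fun s hs => by
    obtain ⟨c, d, rfl⟩ := hEmem s hs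
    rw [(hce.pow_pow _ _).mul_pow, ← pow_mul, ← pow_mul, mul_comm (c : ℕ), mul_comm (d : ℕ), pow_mul, pow_mul,
      e13, B.d6_cube, one_pow, one_pow, one_mul]
  have hE3 : IsPGroup 3 E := fun s => ⟨1, Subtype.ext (by rw [pow_one]; exact hEcube s s.2)⟩
  rcases S3331.result X hX3 hXC with ⟨N, hN, -, hNc, hQ⟩ | ⟨N, hN, -, hN2, ⟨eQ⟩⟩ | ⟨⟨eQ⟩⟩
  · set f : B.XP →* (B.XP ⧸ Z) ⧸ N := (QuotientGroup.mk' N).comp π with hf
    have hfs : Function.Surjective f := (QuotientGroup.mk'_surjective N).comp hπs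
    have h3f : ¬ 3 ∣ Nat.card f.ker := not_dvd_ker_comp _ 3 (by rw [hZc]; norm_num) (by
      rw [QuotientGroup.ker_mk']
      exact Nat.prime_three.coprime_iff_not_dvd.1 hNc.symm)
    set R := f.ker.map B.XP.subtype with hR
    have h3R : ¬ 3 ∣ Nat.card R := by rwa [hR, card_map_of_injective B.XP.subtype_injective]
    have hnorm : ∀ s ∈ normalizer (B.XP : Set G), s ∈ normalizer (R : Set G) := fun s hs =>
      mem_normalizer_fintype (ker_invariant f hfs (fun K hK hK3 => by
        rcases hQ with e | ⟨⟨e⟩⟩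
        · exact cover_three e K hK3
        · haveI := hK
          haveI : (K.map e.toMonoidHom).Normal := Subgroup.Normal.map hK _ e.surjective
          refine (map_eq_bot_iff_of_injective K (f := e.toMonoidHom) e.injective).1 (cover_perm _ fun hd => hK3 ?_)
          rwa [card_map_of_injective e.injective] at hd) h3f hs)
    have hRX : R ≤ B.XP := map_subtype_le _
    have h3' : Nat.Coprime 3 (Nat.card R) := Nat.prime_three.coprime_iff_not_dvd.2 h3R
    have small : ∀ (z : G) (k : ℕ), z ∈ R → z ^ 3 ^ k = 1 → z = 1 := fun z k hz hzk => by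
      have h1 := _root_.pow_card_eq_one' (x := (⟨z, hz⟩ : R))
      have h1' : z ^ Nat.card R = 1 := congrArg Subtype.val h1
      have h2 := (pow_gcd_eq_one (a := z)).2 ⟨h1', hzk⟩
      rwa [(h3'.pow_left k).symm, pow_one] at h2
    have e1R : h.φ e1M ∈ normalizer (R : Set G) := hnorm _ (le_normalizer B.e1_mem_XP)
    have hC1 : R ⊓ centralizer {h.φ e1M} ≤ VP := by
      rintro g ⟨hg, hc⟩
      obtain ⟨i, x, hx', e⟩ := B.XP_cent_e1 (hRX hg) (mem_centralizer_singleton_iff.1 hc)
      have hcx : Commute (h.φ e1M ^ (i : ℕ)) (B.ψ x) := ((show Commute _ _ from (B.cent x).symm)).pow_left _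
      have h2 : g ^ 2 = (h.φ e1M ^ (i : ℕ)) ^ 2 := by
        rw [e, hcx.mul_pow, pow_two (B.ψ x), ← map_mul, pSq x hx', map_one, mul_one]
      have hz : (h.φ e1M ^ (i : ℕ)) ^ 2 = 1 := small _ 1 (h2 ▸ pow_mem hg 2) (by
        rw [pow_one, pow_right_comm _ 2 3, pow_right_comm _ (i : ℕ) 3, e13, one_pow, one_pow])
      have h0 : h.φ e1M ^ (i : ℕ) = 1 := by
        have e' : (h.φ e1M ^ (i : ℕ)) ^ 3 = 1 := by rw [← pow_mul, mul_comm, pow_mul, e13, one_pow]
        rwa [pow_succ, hz, one_mul] at e'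
      exact ⟨x, hx', by rw [e, h0, one_mul]⟩
    have hgen : R ≤ VP := by
      refine Coprime.le_of_centralizers_le hce e1R (hnorm _ B.d6_norm) Nat.prime_three ?_ ?_ h3' ?_ hC1 ?_
      · rw [e13]; exact one_mem _
      · rw [B.d6_cube]; exact one_mem _
      · have hle : closure ({h.φ e1M, B.ψ d6} : Set G) ≤ E := by
          rw [closure_le]
          rintro x (rfl | rfl)
          · exact mem_sup_left (mem_zpowers _)
          · exact mem_sup_right (mem_zpowers _)
        obtain ⟨n, hn⟩ := IsPGroup.iff_card.1 (hE3.to_le hle)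
        rw [hn]
        exact h3'.pow_left n
      · rintro k g ⟨hg, hc⟩
        have hc' := mem_centralizer_singleton_iff.1 hc
        rw [pow_eq_pow_mod k e13] at hc'
        by_cases h0 : k % 3 = 0
        · rw [h0, pow_zero, one_mul] at hc'
          have h27 : (g ^ 2) ^ 3 ^ 3 = 1 := by rw [← pow_mul]; exact B.order_dvd_54 hc'
          have hgg : g * g = 1 := by rw [← pow_two]; exact small _ 3 (pow_mem hg 2) h27
          set g' := h.φ e1M * g * (h.φ e1M)⁻¹ with hg'
          have hg'R : g' ∈ R := (mem_normalizer_iff.1 e1R g).1 hg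
          have hg'c : g' * B.ψ d6 = B.ψ d6 * g' :=
            ((hce.mul_left (show Commute g _ from hc')).mul_left hce.inv_left).eq
          have hg'2 : g' * g' = 1 := by
            rw [hg', show h.φ e1M * g * (h.φ e1M)⁻¹ * (h.φ e1M * g * (h.φ e1M)⁻¹) =
              h.φ e1M * (g * g) * (h.φ e1M)⁻¹ by group, hgg]
            group
          have hgg' : g * g' * (g * g') = 1 := by
            have h27' : ((g * g') ^ 2) ^ 3 ^ 3 = 1 := by
              rw [← pow_mul]; exact B.order_dvd_54 ((show Commute g _ from hc').mul_left hg'c).eq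
            rw [← pow_two]; exact small _ 3 (pow_mem (mul_mem hg hg'R) 2) h27'
          -- the centraliser of `ψ d6` in `R` has order at most two
          have hcom : g' = g ∨ g = 1 := by
            by_contra hne
            push Not at hne
            obtain ⟨hne1, hne2⟩ := hne
            have hgg1 : g' ≠ 1 := fun e => hne2 (by rw [hg'] at e; exact conj_eq_one_iff.1 e)
            let T : Finset G := {1, g, g', g * g'}
            have hcomm : g * g' = g' * g := by
              have := eq_inv_of_mul_eq_one_left hgg'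
              rwa [mul_inv_rev, inv_eq_of_mul_eq_one_right hgg, inv_eq_of_mul_eq_one_right hg'2] at this
            have hP : IsPGroup 2 (closure ({g, g'} : Set G)) := fun x => by
              refine ⟨1, Subtype.ext ?_⟩
              show (x : G) ^ 2 ^ 1 = 1
              rw [pow_one]
              have hall : ∀ y ∈ closure ({g, g'} : Set G), y * y = 1 ∧ Commute y g ∧ Commute y g' := by
                intro y hy
                induction hy using closure_induction with
                | mem y hy =>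
                  rcases hy with rfl | rfl
                  · exact ⟨hgg, Commute.refl _, hcomm⟩
                  · exact ⟨hg'2, hcomm.symm, Commute.refl _⟩
                | one => exact ⟨one_mul _, Commute.one_left _, Commute.one_left _⟩
                | mul a b ha hb iha ihb =>
                  obtain ⟨a2, ag, ag'⟩ := iha
                  obtain ⟨b2, bg, bg'⟩ := ihb
                  refine ⟨?_, ag.mul_left bg, ag'.mul_left bg'⟩
                  have hab : Commute a b := by
                    clear a2 b2 bg bg'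
                    induction hb using closure_induction with
                    | mem z hz => rcases hz with rfl | rfl; exacts [ag, ag']
                    | one => exact Commute.one_right _
                    | mul p q _ _ hp hq => exact hp.mul_right hq
                    | inv p _ hp => exact hp.inv_right
                  rw [hab.symm.mul_mul_mul_comm, a2, b2, one_mul]
                | inv a _ iha =>
                  exact ⟨by rw [← mul_inv_rev, iha.1, inv_one], iha.2.1.inv_left, iha.2.2.inv_left⟩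
              rw [pow_two]; exact (hall x x.2).1
            obtain ⟨n, hn⟩ := IsPGroup.iff_card.1 hP
            have hle : closure ({g, g'} : Set G) ≤ centralizer ({B.ψ d6} : Set G) := by
              rw [closure_le]
              rintro y (rfl | rfl)
              · exact mem_centralizer_singleton_iff.2 hc'
              · exact mem_centralizer_singleton_iff.2 hg'c
            have hd := card_dvd_of_le hle
            rw [B.card_cent_d6, hn] at hd
            have h4 : 3 ≤ Nat.card (closure ({g, g'} : Set G)) := by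
              have hTcard : ({1, g, g'} : Finset G).card = 3 := by
                rw [Finset.card_insert_of_notMem (by simp [Ne.symm hne2, Ne.symm hgg1]),
                  Finset.card_insert_of_notMem (by simp [Ne.symm hne1]), Finset.card_singleton]
              rw [← hTcard, ← Nat.card_eq_finsetCard]
              refine Nat.card_le_card_of_injective (fun y => ⟨(y : G), ?_⟩) fun a b e =>
                Subtype.ext (congrArg (fun z : closure ({g, g'} : Set G) => (z : G)) e)
              have := y.2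
              simp only [Finset.mem_insert, Finset.mem_singleton] at this
              rcases this with e | e | e <;> rw [e]
              · exact one_mem _
              · exact subset_closure (by simp)
              · exact subset_closure (by simp)
            rw [hn] at h4
            have h2n : ¬ 2 ≤ n := fun hn2 => absurd ((pow_dvd_pow 2 hn2).trans hd) (by norm_num)
            interval_cases n <;> norm_num at h4
          rcases hcom with e | e
          · exact hC1 ⟨hg, mem_centralizer_singleton_iff.2 (mul_inv_eq_iff_eq_mul.1 e).symm⟩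
          · rw [e]; exact one_mem _
        · rw [show g = 1 from small g 4 hg
            (B.order_dvd_81 (i := ⟨k % 3, Nat.mod_lt _ (by norm_num)⟩) (fun e => h0 (congrArg Fin.val e)) hc')]
          exact one_mem _
    have hk4 : Nat.card f.ker ∣ 4 := by
      rw [← card_map_of_injective B.XP.subtype_injective, ← hR]
      refine (card_dvd_of_le hgen).trans ?_
      rw [← hZc, Nat.card_congr (subgroupOfEquivOfLe hVP).toEquiv]
    rw [card_eq_ker_mul f hfs]
    refine (mul_dvd_mul hk4 (?_ : Nat.card ((B.XP ⧸ Z) ⧸ N) ∣ 6)).trans (by norm_num)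
    rcases hQ with e | ⟨⟨e⟩⟩
    · rw [e]; norm_num
    · rw [Nat.card_congr e.toEquiv, Nat.card_eq_fintype_card, Fintype.card_perm, Fintype.card_fin]
      decide
  · exfalso
    haveI : Fact (Nat.Prime 5) := ⟨Nat.prime_five⟩
    set g : B.XP ⧸ Z →* alternatingGroup (Fin 5) := eQ.toMonoidHom.comp (QuotientGroup.mk' N) with hg
    have hgker : g.ker = N := by rw [hg]; ext z; simp [MonoidHom.mem_ker]
    set f : B.XP →* alternatingGroup (Fin 5) := g.comp π with hf
    have hfs : Function.Surjective f := (eQ.surjective.comp (QuotientGroup.mk'_surjective N)).comp hπs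
    have h3f : ¬ 3 ∣ Nat.card f.ker := not_dvd_ker_comp g 3 (by rw [hZc]; norm_num) (by
      rw [hgker]; exact not_three_of_sq hN2 3 (by norm_num))
    have h5f : ¬ 5 ∣ Nat.card f.ker := not_dvd_ker_comp g 5 (by rw [hZc]; norm_num) (by
      rw [hgker]; exact not_three_of_sq hN2 5 (by norm_num))
    have hW := card_eq_ker_mul f hfs
    have h60 : Nat.card (alternatingGroup (Fin 5)) = 60 := by
      rw [nat_card_alternatingGroup, Nat.card_eq_fintype_card, Fintype.card_fin]; decide
    rw [h60] at hW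
    have h5 : 5 ∣ Nat.card B.XP := by rw [hW]; exact Dvd.dvd.mul_left (by norm_num) _
    have h25 : ¬ 5 ^ 2 ∣ Nat.card B.XP := fun hd => by
      rw [hW, show (60 : ℕ) = 12 * 5 from rfl, ← mul_assoc, pow_two] at hd
      have := Nat.dvd_of_mul_dvd_mul_right (by norm_num) hd
      rcases (Nat.Prime.dvd_mul Nat.prime_five).1 this with e | e
      · exact h5f e
      · norm_num at e
    have hEbig : 9 ∣ Nat.card E := by
      obtain ⟨n, hn⟩ := IsPGroup.iff_card.1 hE3
      rcases (show n = 0 ∨ n = 1 ∨ 2 ≤ n by omega) with e | e | e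
      · exfalso
        rw [e, pow_zero] at hn
        have := eq_bot_of_card_eq E hn
        exact e1ne (mem_bot.1 (this ▸ mem_sup_left (mem_zpowers (h.φ e1M))))
      · exfalso
        rw [e, pow_one] at hn
        have hE1 : zpowers (h.φ e1M) = E := eq_of_le_of_card_ge le_sup_left (by
          rw [hn, Nat.card_zpowers, orderOf_eq_prime e13 e1ne])
        have hd6 : B.ψ d6 ∈ zpowers (h.φ e1M) := hE1 ▸ mem_sup_right (mem_zpowers _)
        exact six_base.2.2.2.2.2.2.2.2.2.2.2.2.2.1 (B.inj ((B.eq_one_of_mem hd6 ⟨d6, rfl⟩).trans (map_one _).symm))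
      · rw [hn]; exact pow_dvd_pow 3 e
    have h9 : ¬ Nat.card E ∣ Nat.card B.XP := fun hd => by
      have hd' := hEbig.trans hd
      rw [hW, show (60 : ℕ) = 20 * 3 from rfl, ← mul_assoc, show (9 : ℕ) = 3 * 3 from rfl] at hd'
      have := Nat.dvd_of_mul_dvd_mul_right (by norm_num) hd'
      rcases (Nat.Prime.dvd_mul Nat.prime_three).1 this with e | e
      · exact h3f e
      · norm_num at e
    obtain ⟨y, hy, hy5, s, hs, hs1, hsy⟩ := exists_norm_cyclic hEn h5 h25 h9
    obtain ⟨c, d, hsdef⟩ := hEmem s hs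
    have hy5' : y ^ 5 = 1 := by rw [← hy5]; exact pow_orderOf_eq_one y
    have hcy := commute_five (hEcube s hs) hy5' hsy
    have := B.no_big_prime hy hsdef hs1 hcy Nat.prime_five le_rfl hy5'
    rw [this, orderOf_one] at hy5
    norm_num at hy5
  · exfalso
    haveI : Fact (Nat.Prime 7) := ⟨by norm_num⟩
    have hW : Nat.card B.XP = 672 := by
      rw [card_eq_ker_mul π hπs, hker, hZc, Nat.card_congr eQ.toEquiv, SelfCentThree.psl_seven.2]
    obtain ⟨y, hy, hy7, hy1, nrm⟩ := exists_fixed_seven hW hE3 hEn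
    rcases commute_seven e13 B.d6_cube hy7 (nrm _ (mem_sup_left (mem_zpowers _)))
        (nrm _ (mem_sup_right (mem_zpowers _))) with e | ⟨i, e⟩
    · exact hy1 (B.no_big_prime hy (c := 1) (d := 0) (s := h.φ e1M) (by simp) e1ne e (by norm_num) (by norm_num) hy7)
    · refine hy1 (B.no_big_prime hy (c := i) (d := 1) (s := h.φ e1M ^ (i : ℕ) * B.ψ d6) (by simp) (fun e1 => ?_) e
        (by norm_num) (by norm_num) hy7)
      have hmem : B.ψ d6 ∈ zpowers (h.φ e1M) := by
        rw [eq_inv_of_mul_eq_one_right e1]; exact inv_mem (pow_mem (mem_zpowers _) _)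
      exact six_base.2.2.2.2.2.2.2.2.2.2.2.2.2.1 (B.inj ((B.eq_one_of_mem hmem ⟨d6, rfl⟩).trans (map_one _).symm))

theorem XP_order {g : G} (hg : g ∈ B.XP) : g ^ 24 = 1 := by
  have h1 := orderOf_dvd_iff_pow_eq_one.1
    ((_root_.orderOf_dvd_natCard (⟨g, hg⟩ : B.XP)).trans B.XP_dvd)
  exact congrArg Subtype.val h1

/-- The second involution does not centralise the four-group. -/
theorem pair_false (hx : B.ψ x6 ∈ B.W) : False := by
  classical
  obtain ⟨pSq, pMul, pv, px⟩ := InP_facts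
  have hV0 : B.V0 ≤ B.XP := by
    rintro _ ⟨u, hu, rfl⟩
    exact B.mem_XP.2 ⟨(B.psi_InV hu B.t_mem_W).symm, (B.psi_InV hu hx).symm⟩
  let F : {u : A6 // InV u} × {x : A6 // InP x} → B.XP := fun q =>
    ⟨B.psi 2 q.1 * B.ψ q.2, mul_mem (hV0 ⟨q.1, q.1.2, rfl⟩) (B.InP_mem q.2.2)⟩
  have hF : Function.Injective F := by
    rintro ⟨⟨u, hu⟩, ⟨x, hx'⟩⟩ ⟨⟨u', hu'⟩, ⟨x', hx''⟩⟩ e
    have e' : B.psi 2 u * B.ψ x = B.psi 2 u' * B.ψ x' := congrArg Subtype.val e
    have e2 : B.psi 2 (u'⁻¹ * u) = B.ψ (x' * x⁻¹) := by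
      rw [map_mul, map_inv, map_mul, map_inv,
        show B.psi 2 u = B.psi 2 u' * B.ψ x' * (B.ψ x)⁻¹ by rw [← e', mul_inv_cancel_right]]
      group
    have hmem : InV (u'⁻¹ * u) := by
      rw [inv_eq_of_mul_eq_one_right (InV_facts.1 u' hu')]; exact (InV_facts.2.2.1 u' u hu' hu).1
    have hu1 : u'⁻¹ * u = 1 := by
      refine InV_facts.2.1 _ hmem (B.psi_inj 2 ?_)
      rw [map_mul (B.psi 2) (u'⁻¹ * u) a6, map_mul (B.psi 2) a6 (u'⁻¹ * u), ← B.psi2_e1, e2, B.cent]
    have hu2 : u' = u := inv_mul_eq_one.1 hu1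
    subst hu2
    exact Prod.ext rfl (Subtype.ext (B.inj (mul_left_cancel e')))
  have key : (Finset.univ.filter fun x : A6 => InP x).card = 4 := by decide +kernel
  let P : Subgroup G :=
    { carrier := {g | ∃ u x : A6, InV u ∧ InP x ∧ g = B.psi 2 u * B.ψ x}
      one_mem' := ⟨1, 1, Or.inl rfl, Or.inl rfl, by simp⟩
      mul_mem' := by
        rintro _ _ ⟨u, x, hu, hx', rfl⟩ ⟨u', x', hu', hx'', rfl⟩
        refine ⟨u * u', x * x', (InV_facts.2.2.1 u u' hu hu').1, pMul x x' hx' hx'', ?_⟩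
        have hc : Commute (B.ψ x) (B.psi 2 u') := (B.XP_comm (hV0 ⟨u', hu', rfl⟩) hx').symm
        rw [hc.mul_mul_mul_comm, map_mul, map_mul]
      inv_mem' := by
        rintro _ ⟨u, x, hu, hx', rfl⟩
        refine ⟨u, x, hu, hx', ?_⟩
        rw [mul_inv_rev, ← map_inv, ← map_inv, inv_eq_of_mul_eq_one_right (pSq x hx'),
          inv_eq_of_mul_eq_one_right (InV_facts.1 u hu)]
        exact (B.XP_comm (hV0 ⟨u, hu, rfl⟩) hx').symm }
  have hP : P ≤ B.XP := by
    rintro _ ⟨u, x, hu, hx', rfl⟩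
    exact mul_mem (hV0 ⟨u, hu, rfl⟩) (B.InP_mem hx')
  let F' : {u : A6 // InV u} × {x : A6 // InP x} → P := fun q =>
    ⟨B.psi 2 q.1 * B.ψ q.2, q.1, q.2, q.1.2, q.2.2, rfl⟩
  have hF' : Function.Bijective F' := ⟨fun a b e => hF (Subtype.ext (congrArg Subtype.val e :)), by
    rintro ⟨_, u, x, hu, hx', rfl⟩
    exact ⟨(⟨u, hu⟩, ⟨x, hx'⟩), rfl⟩⟩
  have hd16 := card_dvd_of_le hP
  rw [← Nat.card_congr (Equiv.ofBijective F' hF'), Nat.card_prod, Nat.card_eq_fintype_card, Fintype.card_subtype,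
    InV_card, Nat.card_eq_fintype_card, Fintype.card_subtype, key] at hd16
  exact absurd (hd16.trans B.XP_dvd) (by norm_num)

end Hyp.Big

end Cfsg.Agent.A9ThreeLocal
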