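import Cfsg.Agent.A9ThreeLocal.SmallFalse

/-!
The cross relation between the complements of two lines.
-/

set_option autoImplicit false
set_option synthInstance.maxSize 4000
set_option synthInstance.maxHeartbeats 400000

namespace Cfsg.Agent.A9ThreeLocal

open Equiv Equiv.Perm Subgroup ThreeFullWreath Cfsg.Agent.AltMult

universe u

/-- The three-cycle `(0 1 3)` in the complement of the last line. -/
def pA : A6 := cycA 0 1 3 (by decide) (by decide)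
/-- The three-cycle `(0 1 6)` in the complement of the middle line, in local names. -/
def qA : A6 := cycA 3 4 0 (by decide) (by decide)

theorem rel_model : perm e1M * embJ 2 a6 = embJ 2 a6 * perm e1M ∧
    (∃ i : Fin 3, ∃ x : A6, InV x ∧ pA = a6 ^ (i : ℕ) * x) ∧
    Stab0 ((gc ^ 1)⁻¹ * h0M * gc ^ 2) ∧ perm h0M * embJ 2 pA * (perm h0M)⁻¹ = embJ 1 qA⁻¹ ∧
    Stab0 ((gc ^ 2)⁻¹ * hM * gc ^ 2) ∧ perm hM * embJ 2 pA * (perm hM)⁻¹ = embJ 2 pA⁻¹ ∧
    (a6 * pA) ^ 2 = 1 ∧ pA ^ 3 = 1 ∧ pA ≠ 1 ∧ pA * b6 ≠ b6 * pA ∧ gc * e1M * gc⁻¹ = e2M ∧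
    hM * e1M * hM⁻¹ = e1M⁻¹ := by
  decide +kernel

theorem rel_perms : swap 4 5 * v6.1 * (swap 4 5)⁻¹ = v6.1 ∧ swap 4 5 * v7.1 * (swap 4 5)⁻¹ = (v6 * v7).1 ∧
    Fix0 v7 ∧ k1 ≠ 1 := by
  decide +kernel

theorem five_relation : ∀ x : A6, Fix0 x → x ^ 3 = 1 → x ≠ 1 → ∀ y : A6, Fix0 y → y ^ 3 = 1 → y ≠ 1 →
    (x * y) ^ 2 = 1 → ∀ r : A6, Fix0 r → r * r = 1 → r * x * r⁻¹ = x⁻¹ →
    (y * r * y⁻¹ * r⁻¹) ^ 2 = 1 ∨ r * y * r⁻¹ = y⁻¹ ∨
      (x * y * y * r * y * x * r * y * r = 1 ∧ x⁻¹ * y⁻¹ * y⁻¹ * r * y⁻¹ * x⁻¹ * r * y⁻¹ * r ≠ 1) ∨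
      (x⁻¹ * y⁻¹ * y⁻¹ * r * y⁻¹ * x⁻¹ * r * y⁻¹ * r = 1 ∧ x * y * y * r * y * x * r * y * r ≠ 1) := by
  decide +kernel

theorem rel_key : InV (c0 * v6 * c0⁻¹) ∧ InV (c0 * v7 * c0⁻¹) ∧ InV (c0 * (v6 * v7) * c0⁻¹) := by decide +kernel

theorem fix_count : (Finset.univ.filter fun x : A6 => Fix0 x).card = 60 := by decide +kernel

namespace Hyp.Big

variable {G : Type u} [Group G] [Finite G] {h : Hyp G} (B : h.Big)

theorem fix_mem {x : A6} (hx : Fix0 x) : B.ψ x ∈ B.W := B.W_full.1 x hx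

theorem cross_comm {u x : A6} (hu : InV u) (hx : Fix0 x) : Commute (B.ψ x) (B.psi 2 u) := B.psi_InV hu (B.fix_mem hx)

theorem InV_disjoint {u x : A6} (hu : InV u) (e : B.psi 2 u = B.ψ x) : u = 1 := by
  refine InV_facts.2.1 u hu (B.psi_inj 2 ?_)
  rw [map_mul, map_mul, ← B.psi2_e1, e, B.cent]

theorem fix_inv {x : A6} (hx : Fix0 x) : Fix0 x⁻¹ := by
  show x.1⁻¹ (0 : Fin 6) = 0
  exact (Equiv.symm_apply_eq x.1).2 hx.symm

theorem fix_mul {x y : A6} (hx : Fix0 x) (hy : Fix0 y) : Fix0 (x * y) := by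
  unfold Fix0 at hx hy ⊢
  rw [Subgroup.coe_mul, Equiv.Perm.mul_apply, hy, hx]

theorem W_decomp {g : G} (hg : g ∈ B.W) : ∃ u x : A6, InV u ∧ Fix0 x ∧ g = B.psi 2 u * B.ψ x := by
  classical
  let F : {u : A6 // InV u} × {x : A6 // Fix0 x} → B.W := fun p =>
    ⟨B.psi 2 p.1 * B.ψ p.2, mul_mem (B.InV_mem_W p.1.2) (B.fix_mem p.2.2)⟩
  have hF : Function.Injective F := by
    rintro ⟨⟨u, hu⟩, ⟨x, hx⟩⟩ ⟨⟨u', hu'⟩, ⟨x', hx'⟩⟩ e
    have e' : B.psi 2 u * B.ψ x = B.psi 2 u' * B.ψ x' := congrArg Subtype.val e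
    have e2 : B.psi 2 (u'⁻¹ * u) = B.ψ (x' * x⁻¹) := by
      rw [map_mul, map_inv, map_mul, map_inv,
        show B.psi 2 u = B.psi 2 u' * B.ψ x' * (B.ψ x)⁻¹ by rw [← e', mul_inv_cancel_right]]
      group
    have hmem : InV (u'⁻¹ * u) := by
      rw [inv_eq_of_mul_eq_one_right (InV_facts.1 u' hu')]; exact (InV_facts.2.2.1 u' u hu' hu).1
    have h1 := B.InV_disjoint hmem e2
    have hu1 : u' = u := inv_mul_eq_one.1 h1
    subst hu1
    exact Prod.ext rfl (Subtype.ext (B.inj (mul_left_cancel e')))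
  have hbij := hF.bijective_of_nat_card_le (by
    rw [B.W_full.2, Nat.card_prod, Nat.card_eq_fintype_card, Fintype.card_subtype, InV_card,
      Nat.card_eq_fintype_card, Fintype.card_subtype, fix_count])
  obtain ⟨⟨u, x⟩, e⟩ := hbij.2 ⟨g, hg⟩
  exact ⟨u, x, u.2, x.2, (congrArg Subtype.val e).symm⟩

theorem W_cube {g : G} (hg : g ∈ B.W) (h3 : g ^ 3 = 1) : ∃ x : A6, Fix0 x ∧ x ^ 3 = 1 ∧ g = B.ψ x := by
  obtain ⟨u, x, hu, hx, rfl⟩ := B.W_decomp hg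
  rw [(B.cross_comm hu hx).symm.mul_pow, ← map_pow, ← map_pow, pow_succ u, pow_two, InV_facts.1 u hu,
    one_mul] at h3
  have h1 : B.psi 2 u = B.ψ (x ^ 3)⁻¹ := by rw [map_inv]; exact eq_inv_of_mul_eq_one_left h3
  have hu1 := B.InV_disjoint hu h1
  subst hu1
  rw [map_one, one_mul] at h3 ⊢
  exact ⟨x, hx, B.inj (h3.trans (map_one _).symm), rfl⟩

theorem psi2_e2 : h.φ e2M = B.psi 2 b6 := by
  rw [B.psi_apply, B.map_b, ← map_inv, ← map_mul, ← map_mul]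
  exact congrArg h.φ klein_model.2.2.2.1.symm

theorem psi1_e2 (x : A6) : Commute (h.φ e2M) (B.psi 1 x) := by
  rw [← rel_model.2.2.2.2.2.2.2.2.2.2.1, map_mul, map_mul, map_inv, B.psi_apply,
    show ((1 : Fin 3) : ℕ) = 1 from rfl, pow_one]
  exact (show Commute (h.φ e1M) (B.ψ x) from (B.cent x).symm).conj (h.φ gc)

theorem p_mem_CV : B.psi 2 pA ∈ B.CV := by
  obtain ⟨i, x, hx, e⟩ := rel_model.2.1
  rw [e, map_mul, map_pow, ← B.psi2_e1]
  exact B.CV.mul_mem (pow_mem B.e1_mem_CV _)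
    (B.mem_CV.2 ⟨((B.cross_comm hx six_base.2.2.2.2.2.1).symm).eq, ((B.cross_comm hx rel_perms.2.2.1).symm).eq⟩)

theorem rpr : B.r * B.psi 2 pA * B.r⁻¹ = B.psi 1 qA⁻¹ := by
  have hp7 := (B.mem_CV.1 B.p_mem_CV).2
  obtain ⟨-, -, hs, he, -⟩ := rel_model
  rw [← B.equiv (i := 2) (j := 1) hs he, ← B.r_v7]
  calc B.r * B.psi 2 pA * B.r⁻¹ = B.r * (B.psi 2 pA * B.ψ v7 * (B.ψ v7)⁻¹) * B.r⁻¹ := by group
    _ = B.r * (B.ψ v7 * B.psi 2 pA * (B.ψ v7)⁻¹) * B.r⁻¹ := by rw [hp7]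
    _ = B.r * B.ψ v7 * B.psi 2 pA * (B.r * B.ψ v7)⁻¹ := by group

set_option maxHeartbeats 1000000 in
/-- The cross relation. -/
theorem cross_rel : (B.psi 2 pA * B.psi 1 qA) ^ 2 = 1 := by
  obtain ⟨-, -, -, -, hsh, heh, hxy, p3, pne, pb, -, hinv⟩ := rel_model
  have hp : h.φ hM * B.psi 2 pA * (h.φ hM)⁻¹ = (B.psi 2 pA)⁻¹ := by
    rw [B.equiv (i := 2) (j := 2) hsh heh, map_inv]
  have hq : B.psi 1 qA = B.r * (B.psi 2 pA)⁻¹ * B.r⁻¹ := by
    rw [← conj_inv, B.rpr, map_inv, inv_inv]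
  have hnot : B.r * B.psi 2 pA * B.r⁻¹ ≠ (B.psi 2 pA)⁻¹ := by
    intro e
    rw [B.rpr, map_inv, inv_inj] at e
    refine pb (B.psi_inj 2 ?_)
    rw [map_mul, map_mul, ← B.psi2_e2, ← e]
    exact (B.psi1_e2 qA).eq.symm
  have hh : h.φ hM * B.r * (h.φ hM)⁻¹ = B.r := by
    have e := B.conj_h x6
    rw [show conjA (swap 4 5) x6 = x6 from Subtype.ext small_perms.2.2.1] at e
    calc h.φ hM * B.r * (h.φ hM)⁻¹ = h.φ hM * (h.φ hM * B.ψ x6 * (h.φ hM)⁻¹) := by simp only [r]; group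
      _ = B.r := by rw [e]; rfl
  have hnorm : ∀ g ∈ B.CV, h.φ hM * g * (h.φ hM)⁻¹ ∈ B.CV := by
    intro g hg
    obtain ⟨g6, g7⟩ := B.mem_CV.1 hg
    have e6 : h.φ hM * B.ψ v6 * (h.φ hM)⁻¹ = B.ψ v6 := by
      rw [B.conj_h, show conjA (swap 4 5) v6 = v6 from Subtype.ext rel_perms.1]
    have e67 : h.φ hM * B.ψ v7 * (h.φ hM)⁻¹ = B.ψ (v6 * v7) := by
      rw [B.conj_h, show conjA (swap 4 5) v7 = v6 * v7 from Subtype.ext rel_perms.2.1]
    have c6 : Commute (h.φ hM * g * (h.φ hM)⁻¹) (B.ψ v6) := by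
      rw [← e6]; exact (show Commute g (B.ψ v6) from g6).conj _
    have c67 : Commute (h.φ hM * g * (h.φ hM)⁻¹) (B.ψ (v6 * v7)) := by
      rw [← e67]; exact (show Commute g (B.ψ v7) from g7).conj _
    refine B.mem_CV.2 ⟨c6.eq, ?_⟩
    have := c6.mul_right c67
    rw [← map_mul, ← mul_assoc, six_base.2.1, one_mul] at this
    exact this.eq
  set c : G →* G := (MulAut.conj B.g0).toMonoidHom with hc
  have hcinj : Function.Injective c := (MulAut.conj B.g0).injective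
  have cmem : ∀ g ∈ B.CV, c g ∈ B.W := fun g hg => B.mem_CV_iff.1 hg
  have e13 := (e_cubes (h := h)).1
  have hp3 : B.psi 2 pA ^ 3 = 1 := by rw [← map_pow, p3, map_one]
  obtain ⟨x, hx, hx3, ex⟩ := B.W_cube (cmem _ B.e1_mem_CV) (by rw [← map_pow, e13, map_one])
  obtain ⟨y, hy, hy3, ey⟩ := B.W_cube (cmem _ B.p_mem_CV) (by rw [← map_pow, hp3, map_one])
  obtain ⟨u, r', hu, hr', er⟩ := B.W_decomp (cmem _ B.r_mem_CV)
  have hcom : ∀ z : A6, Fix0 z → Commute (B.psi 2 u) (B.ψ z) := fun z hz => (B.cross_comm hu hz).symm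
  have hx1 : x ≠ 1 := fun e => e1M_facts.2.1 (h.inj ((hcinj (ex.trans (by rw [e, map_one, map_one]))).trans (map_one _).symm))
  have hy1 : y ≠ 1 := fun e => pne (B.psi_inj 2 ((hcinj (ey.trans (by rw [e, map_one, map_one]))).trans (map_one _).symm))
  have hxy' : (x * y) ^ 2 = 1 := B.inj (by
    rw [map_pow, map_mul, ← ex, ← ey, ← map_mul, ← map_pow, B.psi2_e1, ← map_mul, ← map_pow, hxy, map_one,
      map_one, map_one])
  have hr2 : r' * r' = 1 := by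
    refine B.inj ?_
    have h1 : c B.r * c B.r = 1 := by rw [← map_mul, B.r_sq, map_one]
    rw [er, (hcom r' hr').symm.mul_mul_mul_comm, ← map_mul, InV_facts.1 u hu, map_one, one_mul] at h1
    rw [map_mul, h1, map_one]
  have hconj : ∀ z : A6, Fix0 z → c B.r * B.ψ z * (c B.r)⁻¹ = B.ψ (r' * z * r'⁻¹) := by
    intro z hz
    rw [er, mul_inv_rev, show B.psi 2 u * B.ψ r' * B.ψ z * ((B.ψ r')⁻¹ * (B.psi 2 u)⁻¹) =
      B.psi 2 u * (B.ψ r' * B.ψ z * (B.ψ r')⁻¹) * (B.psi 2 u)⁻¹ by group, ← map_inv B.ψ, ← map_mul, ← map_mul,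
      (hcom _ (fix_mul (fix_mul hr' hz) (fix_inv hr'))).eq, mul_inv_cancel_right]
  have hrx : r' * x * r'⁻¹ = x⁻¹ := B.inj (by
    rw [← hconj x hx, map_inv, ← ex, ← map_inv, ← map_mul, ← map_mul, B.r_e1, map_inv])
  have hry : r' * y * r'⁻¹ ≠ y⁻¹ := by
    intro e
    have h1 := congrArg B.ψ e
    rw [← hconj y hy, map_inv, ← ey, ← map_inv, ← map_mul, ← map_mul, ← map_inv] at h1
    exact hnot (hcinj h1)
  rcases five_relation x hx hx3 hx1 y hy hy3 hy1 hxy' r' hr' hr2 hrx with e | e | e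
  · have hpq : B.psi 2 pA * B.psi 1 qA = B.psi 2 pA * B.r * (B.psi 2 pA)⁻¹ * B.r⁻¹ := by rw [hq]; group
    refine hcinj ?_
    rw [map_pow, hpq, map_one, map_mul, map_mul, map_mul, map_inv, map_inv]
    have h1 : c (B.psi 2 pA) * c B.r * (c (B.psi 2 pA))⁻¹ * (c B.r)⁻¹ = B.ψ (y * r' * y⁻¹ * r'⁻¹) := by
      rw [mul_assoc, mul_assoc, ← mul_assoc (c B.r), ey, ← map_inv, hconj _ (fix_inv hy), ← map_mul]
      simp only [mul_assoc]
    rw [h1, ← map_pow, e, map_one]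
  · exact absurd e hry
  · exfalso
    set a : G →* G := (MulAut.conj (h.φ hM)).toMonoidHom with ha
    -- the value of a word in the three elements
    have val : ∀ (X Y : G) (x y : A6), c X = B.ψ x → c Y = B.ψ y → Fix0 x → Fix0 y →
        c (X * Y * Y * B.r * Y * X * B.r * Y * B.r) = B.psi 2 u * B.ψ (x * y * y * r' * y * x * r' * y * r') := by
      intro X Y x y hX hY hxf hyf
      have cx := hcom x hxf
      have cy := hcom y hyf
      have cr := hcom r' hr'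
      have u2 : B.psi 2 u * B.psi 2 u = 1 := by rw [← map_mul, InV_facts.1 u hu, map_one]
      simp only [map_mul, hX, hY, er]
      calc B.ψ x * B.ψ y * B.ψ y * (B.psi 2 u * B.ψ r') * B.ψ y * B.ψ x * (B.psi 2 u * B.ψ r') * B.ψ y *
            (B.psi 2 u * B.ψ r') =
          (B.ψ x * B.ψ y * B.ψ y * B.psi 2 u) * (B.ψ r' * B.ψ y * B.ψ x * B.psi 2 u) * (B.ψ r' * B.ψ y * B.psi 2 u) *
            B.ψ r' := by group
        _ = (B.psi 2 u * (B.ψ x * B.ψ y * B.ψ y)) * (B.psi 2 u * (B.ψ r' * B.ψ y * B.ψ x)) *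
            (B.psi 2 u * (B.ψ r' * B.ψ y)) * B.ψ r' := by
          rw [(((cx.mul_right cy).mul_right cy).symm).eq, (((cr.mul_right cy).mul_right cx).symm).eq,
            ((cr.mul_right cy).symm).eq]
        _ = B.psi 2 u * ((B.ψ x * B.ψ y * B.ψ y) * B.psi 2 u) * (B.ψ r' * B.ψ y * B.ψ x) *
            (B.psi 2 u * (B.ψ r' * B.ψ y)) * B.ψ r' := by group
        _ = (B.psi 2 u * B.psi 2 u) * (B.ψ x * B.ψ y * B.ψ y * (B.ψ r' * B.ψ y * B.ψ x) * B.psi 2 u) *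
            (B.ψ r' * B.ψ y) * B.ψ r' := by
          rw [(((cx.mul_right cy).mul_right cy).symm).eq]; group
        _ = B.psi 2 u * (B.ψ x * B.ψ y * B.ψ y * (B.ψ r' * B.ψ y * B.ψ x)) * (B.ψ r' * B.ψ y) * B.ψ r' := by
          rw [u2, one_mul, ((((cx.mul_right cy).mul_right cy).mul_right ((cr.mul_right cy).mul_right cx)).symm).eq]
        _ = _ := by group
    -- the reversing element maps the first value to the second
    have step : ∀ (X Y : G), a X = X⁻¹ → a Y = Y⁻¹ →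
        a (X * Y * Y * B.r * Y * X * B.r * Y * B.r) = X⁻¹ * Y⁻¹ * Y⁻¹ * B.r * Y⁻¹ * X⁻¹ * B.r * Y⁻¹ * B.r := by
      intro X Y hX hY
      simp only [map_mul, hX, hY, show a B.r = B.r from hh]
    have main : ∀ (X Y : G) (x y : A6), c X = B.ψ x → c Y = B.ψ y → Fix0 x → Fix0 y → a X = X⁻¹ → a Y = Y⁻¹ →
        x * y * y * r' * y * x * r' * y * r' = 1 →
        x⁻¹ * y⁻¹ * y⁻¹ * r' * y⁻¹ * x⁻¹ * r' * y⁻¹ * r' = 1 := by
      intro X Y x y hX hY hxf hyf haX haY e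
      refine B.inj ?_
      have h1 := val X Y x y hX hY hxf hyf
      have h2 := val X⁻¹ Y⁻¹ x⁻¹ y⁻¹ (by rw [map_inv, hX, map_inv]) (by rw [map_inv, hY, map_inv])
        (fix_inv hxf) (fix_inv hyf)
      rw [← step X Y haX haY] at h2
      set w := X * Y * Y * B.r * Y * X * B.r * Y * B.r with hw
      rw [e, map_one, mul_one] at h1
      -- `w` lies in the four-group, which the reversing element normalises
      obtain ⟨z, hz, hwz⟩ : ∃ z : A6, (z = 1 ∨ z = v6 ∨ z = v7 ∨ z = v6 * v7) ∧ w = B.ψ z := by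
        have hinv0 : ∀ z : A6, InV z → ∃ z' : A6, (z' = 1 ∨ z' = v6 ∨ z' = v7 ∨ z' = v6 * v7) ∧
            B.g0 * B.ψ z' * B.g0⁻¹ = B.psi 2 z := by
          intro z hz
          rcases hz with rfl | rfl | rfl | rfl
          · exact ⟨1, Or.inl rfl, by simp⟩
          · exact ⟨v6, Or.inr (Or.inl rfl), by rw [B.g0_conj, small_perms.1]⟩
          · exact ⟨v7, Or.inr (Or.inr (Or.inl rfl)), by rw [B.g0_conj, small_perms.2.1]⟩
          · refine ⟨v6 * v7, Or.inr (Or.inr (Or.inr rfl)), ?_⟩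
            rw [B.g0_conj, ← small_perms.1, ← small_perms.2.1, conj_mul]
        obtain ⟨z', hz', e''⟩ := hinv0 u hu
        exact ⟨z', hz', hcinj (h1.trans e''.symm)⟩
      obtain ⟨z2, hz2, haz⟩ : ∃ z2 : A6, InV z2 ∧ c (a w) = B.psi 2 z2 := by
        have key : ∀ z : A6, (z = 1 ∨ z = v6 ∨ z = v7 ∨ z = v6 * v7) → InV (c0 * conjA (swap 4 5) z * c0⁻¹) := by
          have key' := rel_key
          rintro z (rfl | rfl | rfl | rfl)
          · rw [map_one, mul_one, mul_inv_cancel]; exact Or.inl rfl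
          · rw [show conjA (swap 4 5) v6 = v6 from Subtype.ext rel_perms.1]; exact key'.1
          · rw [show conjA (swap 4 5) v7 = v6 * v7 from Subtype.ext rel_perms.2.1]; exact key'.2.2
          · rw [map_mul, show conjA (swap 4 5) v6 = v6 from Subtype.ext rel_perms.1,
              show conjA (swap 4 5) v7 = v6 * v7 from Subtype.ext rel_perms.2.1,
              show v6 * (v6 * v7) = v7 by rw [← mul_assoc, six_base.2.1, one_mul]]
            exact key'.2.1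
        refine ⟨_, key z hz, ?_⟩
        rw [hwz, show a (B.ψ z) = B.ψ (conjA (swap 4 5) z) from B.conj_h z]
        exact B.g0_conj _
      rw [haz] at h2
      have h3 : B.psi 2 (u⁻¹ * z2) = B.ψ (x⁻¹ * y⁻¹ * y⁻¹ * r' * y⁻¹ * x⁻¹ * r' * y⁻¹ * r') := by
        rw [map_mul, map_inv, h2, inv_mul_cancel_left]
      have hiv : InV (u⁻¹ * z2) := by
        rw [inv_eq_of_mul_eq_one_right (InV_facts.1 u hu)]; exact (InV_facts.2.2.1 u z2 hu hz2).1
      rw [← h3, B.InV_disjoint hiv h3, map_one, map_one]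

    have hE : a (h.φ e1M) = (h.φ e1M)⁻¹ := by
      show h.φ hM * h.φ e1M * (h.φ hM)⁻¹ = _
      rw [← map_inv, ← map_inv, ← map_mul, ← map_mul, hinv]
    rcases e with ⟨e, e'⟩ | ⟨e, e'⟩
    · exact e' (main _ _ x y ex ey hx hy hE hp e)
    · refine e' ?_
      have := main (h.φ e1M)⁻¹ (B.psi 2 pA)⁻¹ x⁻¹ y⁻¹ (by rw [map_inv, ex, map_inv]) (by rw [map_inv, ey, map_inv])
        (fix_inv hx) (fix_inv hy) (by rw [map_inv, hE]) (by rw [map_inv, show a (B.psi 2 pA) = _ from hp]) e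
      simpa only [inv_inv] using this

end Hyp.Big

end Cfsg.Agent.A9ThreeLocal
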