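import Cfsg.Agent.A9ThreeLocal.Basic
import Cfsg.Agent.ThreeFullWreath.Chars
import Mathlib.GroupTheory.Nilpotent
import Mathlib.GroupTheory.Sylow

/-!
The configuration and its elementary consequences.
-/

set_option autoImplicit false
set_option synthInstance.maxSize 4000
set_option synthInstance.maxHeartbeats 400000

namespace Cfsg.Agent.A9ThreeLocal

open Subgroup ThreeFullWreath

universe u

/-- A translation of the model. -/
def el (x y z : ZMod 3) : M := SemidirectProduct.inl (Multiplicative.ofAdd (x, y, z))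

/-- The first line. -/
def e1M : M := el 1 0 0
/-- The second line. -/
def e2M : M := el 0 1 0
/-- The third line. -/
def e3M : M := el 0 0 1
/-- An element of the second kind. -/
def uM : M := el 1 1 0
/-- An element of the third kind. -/
def aM : M := el 1 1 1

theorem selfcent : ∀ m : M, m * e1M = e1M * m → m * e2M = e2M * m → m * e3M = e3M * m → m.right = 1 := by
  decide +kernel

theorem el_right : ∀ x y z, (el x y z).right = 1 := fun _ _ _ => rfl

theorem right_el : ∀ m : M, m.right = 1 → ∃ x y z, m = el x y z := fun m hm =>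
  ⟨m.left.toAdd.1, m.left.toAdd.2.1, m.left.toAdd.2.2, SemidirectProduct.ext rfl hm⟩

theorem trans_comm {m m' : M} (hm : m.right = 1) (hm' : m'.right = 1) : m * m' = m' * m := by
  obtain ⟨x, y, z, rfl⟩ := right_el m hm
  obtain ⟨x', y', z', rfl⟩ := right_el m' hm'
  rw [el, el, ← map_mul (SemidirectProduct.inl : A →* M), ← map_mul (SemidirectProduct.inl : A →* M), mul_comm]

theorem trans_cube : ∀ m : M, m.right = 1 → m ^ 3 = 1 := by decide +kernel

theorem S_count : (Finset.univ.filter fun m : M => m * aM = aM * m).card = 81 := by decide +kernel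

theorem S_small : ∀ m : M, m * aM = aM * m → m.right ≠ 1 →
    (Finset.univ.filter fun k : M => k * aM = aM * k ∧ k * m = m * k).card < 27 := by decide +kernel

theorem J_count : (Finset.univ.filter fun m : M => m.right = 1).card = 27 := by decide +kernel

/-- The hypotheses. -/
structure Hyp (G : Type u) [Group G] where
  /-- The normaliser of the elementary subgroup. -/
  φ : M →* G
  inj : Function.Injective φ
  norm : ∀ g : G, (∀ m : M, m.right = 1 → ∃ m' : M, m'.right = 1 ∧ g * φ m * g⁻¹ = φ m') → g ∈ φ.range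
  core : ∀ m : M, m.right = 1 → m ≠ 1 → ∀ K : Subgroup G, K ≤ centralizer ({φ m} : Set G) →
    (∀ x ∈ centralizer ({φ m} : Set G), ∀ k ∈ K, x * k * x⁻¹ ∈ K) → ¬ 3 ∣ Nat.card K → K = ⊥

namespace Hyp

variable {G : Type u} [Group G] (h : Hyp G)

/-- The elementary subgroup of order twenty-seven. -/
def J : Subgroup G where
  carrier := {g | ∃ m : M, m.right = 1 ∧ h.φ m = g}
  one_mem' := ⟨1, rfl, map_one _⟩
  mul_mem' := by
    rintro _ _ ⟨m, hm, rfl⟩ ⟨m', hm', rfl⟩
    exact ⟨m * m', by simp [hm, hm'], map_mul _ _ _⟩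
  inv_mem' := by
    rintro _ ⟨m, hm, rfl⟩
    exact ⟨m⁻¹, by simp [hm], map_inv _ _⟩

theorem mem_J {g : G} : g ∈ h.J ↔ ∃ m : M, m.right = 1 ∧ h.φ m = g := Iff.rfl

theorem φ_mem_J (m : M) (hm : m.right = 1) : h.φ m ∈ h.J := ⟨m, hm, rfl⟩

theorem right_of_mem_J {m : M} (hm : h.φ m ∈ h.J) : m.right = 1 := by
  obtain ⟨m', hm', e⟩ := hm
  rwa [← h.inj e]

theorem J_comm : ∀ x ∈ h.J, ∀ y ∈ h.J, x * y = y * x := by
  rintro _ ⟨m, hm, rfl⟩ _ ⟨m', hm', rfl⟩
  rw [← map_mul, ← map_mul, trans_comm hm hm']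

theorem J_cube : ∀ x ∈ h.J, x ^ 3 = 1 := by
  rintro _ ⟨m, hm, rfl⟩
  rw [← map_pow, trans_cube m hm, map_one]

theorem J_card : Nat.card h.J = 27 := by
  classical
  rw [← J_count, ← Fintype.card_subtype, ← Nat.card_eq_fintype_card]
  refine (Nat.card_congr (Equiv.ofBijective (fun m : {m : M // m.right = 1} => (⟨h.φ m, h.φ_mem_J m m.2⟩ : h.J))
    ⟨fun a b e => Subtype.ext (h.inj (congrArg Subtype.val e)), ?_⟩)).symm
  rintro ⟨_, m, hm, rfl⟩
  exact ⟨⟨m, hm⟩, rfl⟩

/-- The element of the third kind. -/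
abbrev a : G := h.φ aM

/-- The Sylow subgroup. -/
def S : Subgroup G := (centralizer ({aM} : Set M)).map h.φ

theorem mem_S {g : G} : g ∈ h.S ↔ ∃ m : M, m * aM = aM * m ∧ h.φ m = g := by
  simp only [S, mem_map, mem_centralizer_singleton_iff]

theorem S_card : Nat.card h.S = 81 := by
  classical
  rw [S, card_map_of_injective h.inj, ← S_count, ← Fintype.card_subtype, ← Nat.card_eq_fintype_card]
  exact Nat.card_congr (Equiv.subtypeEquivRight fun m => mem_centralizer_singleton_iff)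

theorem J_le_S : h.J ≤ h.S := by
  rintro _ ⟨m, hm, rfl⟩
  exact h.mem_S.2 ⟨m, trans_comm hm rfl, rfl⟩

theorem cent_J {g : G} (hg : ∀ x ∈ h.J, g * x = x * g) : g ∈ h.J := by
  obtain ⟨m, rfl⟩ := h.norm g fun m hm => ⟨m, hm, by rw [hg _ (h.φ_mem_J m hm)]; group⟩
  have key : ∀ k : M, k.right = 1 → m * k = k * m := fun k hk =>
    h.inj (by rw [map_mul, map_mul, hg _ (h.φ_mem_J k hk)])
  exact h.φ_mem_J m (selfcent m (key _ rfl) (key _ rfl) (key _ rfl))

variable [Finite G]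

/-- An abelian subgroup of order twenty-seven of the Sylow subgroup is the elementary one. -/
theorem eq_J {T : Subgroup G} (hT : T ≤ h.S) (hc : ∀ x ∈ T, ∀ y ∈ T, x * y = y * x) (h27 : Nat.card T = 27) :
    T = h.J := by
  classical
  refine eq_of_le_of_card_ge (fun x hx => ?_) (by rw [h.J_card, h27])
  obtain ⟨m, hm, rfl⟩ := h.mem_S.1 (hT hx)
  by_contra hne
  have hr : m.right ≠ 1 := fun e => hne (h.φ_mem_J m e)
  have hlt := S_small m hm hr
  have hle : Nat.card T ≤ (Finset.univ.filter fun k : M => k * aM = aM * k ∧ k * m = m * k).card := by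
    rw [← Fintype.card_subtype, ← Nat.card_eq_fintype_card]
    have hex : ∀ y : T, ∃ k : {k : M // k * aM = aM * k ∧ k * m = m * k}, h.φ k = (y : G) := fun y => by
      obtain ⟨k, hk, e⟩ := h.mem_S.1 (hT y.2)
      exact ⟨⟨k, hk, h.inj (by rw [map_mul, map_mul, e]; exact hc _ y.2 _ hx)⟩, e⟩
    choose f hf using hex
    exact Nat.card_le_card_of_injective f fun y y' e => Subtype.ext (by rw [← hf y, ← hf y', e])
  omega

theorem S_isPGroup : IsPGroup 3 h.S := IsPGroup.of_card (n := 4) (by rw [h.S_card]; norm_num)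

theorem S_norm : normalizer (h.S : Set G) ≤ h.φ.range := by
  intro g hg
  have hle : h.J.map (MulAut.conj g).toMonoidHom ≤ h.S := by
    rintro _ ⟨x, hx, rfl⟩
    exact (mem_normalizer_iff.1 hg x).1 (h.J_le_S hx)
  have he := h.eq_J hle (by
    rintro _ ⟨x, hx, rfl⟩ _ ⟨y, hy, rfl⟩
    rw [← map_mul, ← map_mul, h.J_comm x hx y hy]) (by
    rw [card_map_of_injective (MulAut.conj g).injective, h.J_card])
  refine h.norm g fun m hm => ?_
  obtain ⟨m', hm', e⟩ : g * h.φ m * g⁻¹ ∈ h.J := he ▸ ⟨_, h.φ_mem_J m hm, by simp⟩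
  exact ⟨m', hm', e.symm⟩

theorem card_range : Nat.card h.φ.range = 648 := by
  rw [← Nat.card_congr (MonoidHom.ofInjective h.inj).toEquiv, card_M]

/-- Every `3`-subgroup is conjugate into the Sylow subgroup. -/
theorem exists_conj_S {Q : Subgroup G} (hQ : IsPGroup 3 Q) : ∃ k : G, ∀ x ∈ Q, k * x * k⁻¹ ∈ h.S := by
  haveI : Fact (Nat.Prime 3) := ⟨Nat.prime_three⟩
  obtain ⟨P, hP⟩ := h.S_isPGroup.exists_le_sylow
  have hPS : (P : Subgroup G) = h.S := by
    by_contra hne
    have hlt : h.S.subgroupOf (P : Subgroup G) < ⊤ :=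
      lt_top_iff_ne_top.2 fun e => hne (le_antisymm (subgroupOf_eq_top.1 e) hP)
    haveI : Group.IsNilpotent (P : Subgroup G) := P.2.isNilpotent
    obtain ⟨q, hqN, hqS⟩ := SetLike.exists_of_lt (Group.normalizerCondition_of_isNilpotent _ hlt)
    have hq : (q : G) ∈ normalizer (h.S : Set G) := by
      refine mem_normalizer_fintype fun x hx => ?_
      exact (mem_normalizer_iff.1 hqN ⟨x, hP hx⟩).1 hx
    -- the subgroup generated by `q` and `S` is a `3`-subgroup of the image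
    have hle : h.S ⊔ zpowers (q : G) ≤ (P : Subgroup G) ⊓ h.φ.range :=
      sup_le (le_inf hP (by rintro _ ⟨m, -, rfl⟩; exact ⟨m, rfl⟩))
        (zpowers_le.2 ⟨q.2, h.S_norm hq⟩)
    obtain ⟨n, hn⟩ := IsPGroup.iff_card.1 (P.2.to_le (inf_le_left : (P : Subgroup G) ⊓ h.φ.range ≤ P))
    have hd := card_dvd_of_le (inf_le_right : (P : Subgroup G) ⊓ h.φ.range ≤ h.φ.range)
    rw [h.card_range, hn, show 648 = 8 * 3 ^ 4 by norm_num] at hd
    have h34 : 3 ^ n ∣ 3 ^ 4 := (Nat.Coprime.pow_left n (by norm_num)).dvd_of_dvd_mul_left hd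
    have hn4 : n ≤ 4 := (Nat.pow_dvd_pow_iff_le_right (by norm_num : 1 < 3)).1 h34
    have hc := card_le_of_le hle
    rw [hn] at hc
    have h81 : Nat.card h.S < Nat.card (h.S ⊔ zpowers (q : G) : Subgroup G) := by
      refine lt_of_le_of_ne (card_le_of_le le_sup_left) fun e => hqS (mem_subgroupOf.2 ?_)
      rw [eq_of_le_of_card_ge (le_sup_left : h.S ≤ h.S ⊔ zpowers (q : G)) e.ge]
      exact mem_sup_right (mem_zpowers _)
    rw [h.S_card] at h81
    have h3 : 3 ^ n ≤ 3 ^ 4 := Nat.pow_le_pow_right (by norm_num) hn4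
    norm_num at h3
    omega
  obtain ⟨R, hR⟩ := hQ.exists_le_sylow
  obtain ⟨k, hk⟩ := MulAction.exists_smul_eq G R P
  refine ⟨k, fun x hx => ?_⟩
  rw [← hPS, ← hk, Sylow.coe_subgroup_smul]
  exact ⟨x, hR hx, rfl⟩

/-- The elementary subgroup is the only abelian subgroup of its order in a `3`-subgroup containing it. -/
theorem eq_J_of_pgroup {P T : Subgroup G} (hP : IsPGroup 3 P) (hJ : h.J ≤ P) (hT : T ≤ P)
    (hc : ∀ x ∈ T, ∀ y ∈ T, x * y = y * x) (h27 : Nat.card T = 27) : T = h.J := by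
  obtain ⟨k, hk⟩ := h.exists_conj_S hP
  have key : ∀ U : Subgroup G, U ≤ P → (∀ x ∈ U, ∀ y ∈ U, x * y = y * x) → Nat.card U = 27 →
      U.map (MulAut.conj k).toMonoidHom = h.J := by
    intro U hU hUc hU27
    refine h.eq_J ?_ ?_ (by rw [card_map_of_injective (MulAut.conj k).injective, hU27])
    · rintro _ ⟨x, hx, rfl⟩; exact hk x (hU hx)
    · rintro _ ⟨x, hx, rfl⟩ _ ⟨y, hy, rfl⟩
      rw [← map_mul, ← map_mul, hUc x hx y hy]
  exact map_injective (f := (MulAut.conj k).toMonoidHom) (MulAut.conj k).injective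
    ((key T hT hc h27).trans (key h.J hJ h.J_comm h.J_card).symm)

/-- Fusion in the elementary subgroup is controlled by its normaliser. -/
theorem ctrl {g : G} {m m' : M} (hm : m.right = 1) (hm' : m'.right = 1)
    (he : g * h.φ m * g⁻¹ = h.φ m') : ∃ k : M, k * m * k⁻¹ = m' := by
  haveI : Fact (Nat.Prime 3) := ⟨Nat.prime_three⟩
  set C := centralizer ({h.φ m'} : Set G)
  have hJC : h.J ≤ C := fun x hx => mem_centralizer_singleton_iff.2 (h.J_comm x hx _ (h.φ_mem_J m' hm'))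
  have hJC' : h.J.map (MulAut.conj g).toMonoidHom ≤ C := by
    rintro _ ⟨x, hx, rfl⟩
    rw [mem_centralizer_singleton_iff, ← he]
    show MulAut.conj g x * MulAut.conj g (h.φ m) = MulAut.conj g (h.φ m) * MulAut.conj g x
    rw [← map_mul, ← map_mul, h.J_comm x hx _ (h.φ_mem_J m hm)]
  have hJ3 : IsPGroup 3 h.J := IsPGroup.of_card (n := 3) (by rw [h.J_card]; norm_num)
  obtain ⟨P, hP⟩ := (hJ3.comap_subtype (K := C)).exists_le_sylow
  obtain ⟨R, hR⟩ := ((hJ3.map (MulAut.conj g).toMonoidHom).comap_subtype (K := C)).exists_le_sylow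
  obtain ⟨c, hc⟩ := MulAction.exists_smul_eq C R P
  have hJP : h.J ≤ (P : Subgroup C).map C.subtype := fun x hx => ⟨⟨x, hJC hx⟩, hP hx, rfl⟩
  have hT : h.J.map (MulAut.conj ((c : G) * g)).toMonoidHom ≤ (P : Subgroup C).map C.subtype := by
    rintro _ ⟨x, hx, rfl⟩
    have hmem : (⟨g * x * g⁻¹, hJC' ⟨x, hx, by simp⟩⟩ : C) ∈ (R : Subgroup C) := hR ⟨x, hx, by simp⟩
    refine ⟨c * ⟨g * x * g⁻¹, hJC' ⟨x, hx, by simp⟩⟩ * c⁻¹, ?_, ?_⟩
    · rw [← hc, Sylow.coe_subgroup_smul]; exact ⟨_, hmem, rfl⟩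
    · simp [mul_assoc]
  have heq := h.eq_J_of_pgroup (P.2.map C.subtype) hJP hT (by
    rintro _ ⟨x, hx, rfl⟩ _ ⟨y, hy, rfl⟩
    rw [← map_mul, ← map_mul, h.J_comm x hx y hy])
    (by rw [card_map_of_injective (MulAut.conj ((c : G) * g)).injective, h.J_card])
  obtain ⟨k, hk⟩ := h.norm ((c : G) * g) fun n hn => by
    obtain ⟨n', hn', e⟩ : (c : G) * g * h.φ n * ((c : G) * g)⁻¹ ∈ h.J :=
      heq ▸ ⟨_, h.φ_mem_J n hn, by simp [mul_assoc]⟩
    exact ⟨n', hn', e.symm⟩
  refine ⟨k, h.inj ?_⟩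
  rw [map_mul, map_mul, map_inv, hk]
  have := mem_centralizer_singleton_iff.1 c.2
  calc (c : G) * g * h.φ m * ((c : G) * g)⁻¹ = (c : G) * (g * h.φ m * g⁻¹) * (c : G)⁻¹ := by group
    _ = h.φ m' := by rw [he, this, mul_inv_cancel_right]

theorem not_isConj {m m' : M} (hm : m.right = 1) (hm' : m'.right = 1) (hc : cls m ≠ cls m') :
    ¬ IsConj (h.φ m) (h.φ m') := fun e => by
  obtain ⟨g, hg⟩ := isConj_iff.1 e
  obtain ⟨k, rfl⟩ := h.ctrl hm hm' hg
  exact hc (cls_conj k m).symm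

/-- A centralising element which stabilises a coset of `⟨w⟩` centralises its distinguished element. -/
theorem commute_coset {g : G} {v w : M} (hv : v.right = 1) (hw : w.right = 1)
    (hgw : g * h.φ w = h.φ w * g) (hg : g * h.φ v * g⁻¹ * (h.φ v)⁻¹ ∈ zpowers (h.φ w))
    (hne : cls v ≠ cls (v * w) ∨ cls v ≠ cls (v * w⁻¹)) : g * h.φ v = h.φ v * g := by
  refine commute_of_translate hgw (by rw [← map_pow, trans_cube w hw, map_one]) hg
    (by rw [← map_mul, ← map_mul, trans_comm hv hw]) (hne.imp (fun e => ?_) fun e => ?_)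
  · rw [← map_mul]; exact h.not_isConj hv (by simp [hv, hw]) e
  · rw [← map_inv, ← map_mul]; exact h.not_isConj hv (by simp [hv, hw]) e

end Hyp

end Cfsg.Agent.A9ThreeLocal
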