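import Cfsg.Agent.A9ThreeLocal.KleinCases

/-!
Finite facts for the transfer argument.
-/

set_option autoImplicit false
set_option synthInstance.maxSize 4000
set_option synthInstance.maxHeartbeats 400000

namespace Cfsg.Agent.A9ThreeLocal

open Equiv Equiv.Perm Subgroup ThreeFullWreath

/-- The involution exchanging the last two blocks. -/
def h0M : M :=
  SemidirectProduct.inr (SemidirectProduct.inl (Multiplicative.ofAdd (0, 1))) *
    SemidirectProduct.inr (SemidirectProduct.inr (.sr 0))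

/-- The second involution of the four-group `{1, 2, 4, 5}`. -/
def v7 : A6 := ⟨swap 1 4 * swap 2 5, mem_alternatingGroup.2 (by decide +kernel)⟩

/-- An element carrying the four-group to the one on four points. -/
def c0 : A6 := ⟨swap 0 4 * swap 4 2 * swap 2 1 * swap 3 5, mem_alternatingGroup.2 (by decide +kernel)⟩

/-- An element carrying the first reversing involution to the second. -/
def c1 : A6 := ⟨swap 0 4 * swap 3 5, mem_alternatingGroup.2 (by decide +kernel)⟩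

/-- An element carrying the inverting involution to the second one of the four-group. -/
def n1 : A6 := ⟨swap 2 4 * swap 0 3, mem_alternatingGroup.2 (by decide +kernel)⟩

theorem small_perms : c0 * v6 * c0⁻¹ = k1 ∧ c0 * v7 * c0⁻¹ = k2 ∧
    swap 4 5 * x6.1 * (swap 4 5)⁻¹ = x6.1 ∧ swap 4 5 * c1.1 * (swap 4 5)⁻¹ * c1.1⁻¹ = x6.1 ∧
    n1 * v6 * n1⁻¹ = v7 ∧ swap 0 3 * n1.1 * swap 0 3 = n1.1 ∧
    swap 0 3 * v6.1 * swap 0 3 = v6.1 ∧ swap 0 3 * v7.1 * swap 0 3 = v7.1 ∧ swap 0 3 * x6.1 * swap 0 3 = x6.1 ∧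
    v7 * v7 = 1 ∧ v6 * v7 = v7 * v6 ∧ x6 * (v6 * v7) * x6⁻¹ = v7 ∧ x6 * v6 * x6⁻¹ = v6 := by
  decide +kernel

theorem small_model : perm (hM * h0M) = emb (x6 * v7) ∧ cls hM = cls tM ∧ cls (hM * tM) = cls tM ∧
    e1M * tM = tM * e1M ∧ e2M * e3M * h0M = h0M * (e2M * e3M) ∧ h0M * h0M = 1 ∧ (e2M * e3M).right = 1 ∧
    (e2M * e3M) ^ 3 = 1 ∧ e2M * e3M ≠ 1 ∧
    ¬ 9 ∣ (Finset.univ.filter fun k : M => k * h0M = h0M * k).card ∧
    ∀ i : Fin 3, cls e1M ≠ cls ((e2M * e3M) ^ (i : ℕ)) := by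
  decide +kernel

theorem swap_comm : ∀ x : A6, x * v6 = v6 * x → swap 0 3 * x.1 * swap 0 3 = x.1 := by decide +kernel

theorem dih_facts : ∀ d : A6, d * v6 = v6 * d →
    (d * d = 1 ∨ d * d = v6) ∧
    (d * d = 1 → d ≠ 1 → d ≠ v6 → d = x6 ∨ d = x6 * v6 ∨ d = v7 ∨ d = v6 * v7) ∧
    (d * d = 1 → d ≠ 1 → ∃ z : A6, z * v6 * z⁻¹ = d) := by
  decide +kernel

theorem dih_centre : ∀ d : A6, d * v6 = v6 * d → d * x6 = x6 * d → d * v7 = v7 * d → d = 1 ∨ d = v6 := by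
  decide +kernel

theorem dih_square : ∃ y : A6, y * v6 = v6 * y ∧ y * y = v6 := by decide +kernel

theorem dih_count : (Finset.univ.filter fun x : A6 => x * v6 = v6 * x).card = 8 ∧
    (Finset.univ.filter fun x : A6 => x * v6 = v6 * x ∧ x * v7 = v7 * x).card = 4 := by
  decide +kernel

theorem conj_swap_eq (y : A6) (x : A6) (hy : swap 0 3 * x.1 * swap 0 3 = y.1) :
    conjA (swap 4 5) (x6 * x * x6⁻¹) = y := by
  refine Subtype.ext ?_
  rw [conjA_apply, Subgroup.coe_mul, Subgroup.coe_mul, Subgroup.coe_inv, ← hy]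
  have e : (swap 4 5 : Perm (Fin 6)) * x6.1 = swap 0 3 := by decide +kernel
  have e' : x6.1⁻¹ * (swap 4 5 : Perm (Fin 6))⁻¹ = swap 0 3 := by decide +kernel
  rw [show swap 4 5 * (x6.1 * x.1 * x6.1⁻¹) * (swap 4 5 : Perm (Fin 6))⁻¹ =
    (swap 4 5 * x6.1) * x.1 * (x6.1⁻¹ * (swap 4 5 : Perm (Fin 6))⁻¹) by group, e, e']

end Cfsg.Agent.A9ThreeLocal
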