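import Cfsg.Agent.A9ThreeLocal.SmallFacts
import Cfsg.Agent.A9ThreeLocal.PairFalse
import Cfsg.Agent.S0111

/-!
The centraliser of a four-group on four points is not small.
-/

set_option autoImplicit false
set_option synthInstance.maxSize 4000
set_option synthInstance.maxHeartbeats 400000

namespace Cfsg.Agent.A9ThreeLocal

open Equiv Equiv.Perm Subgroup ThreeFullWreath

universe u

variable {G : Type u} [Group G] [Finite G] {h : Hyp G}

theorem e1_ne_inv : e1M ≠ e1M⁻¹ := by decide +kernel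

theorem Hyp.not_isConj_h0 (h : Hyp G) : ¬ IsConj (h.φ tM) (h.φ h0M) := by
  classical
  haveI : Fact (Nat.Prime 3) := ⟨Nat.prime_three⟩
  obtain ⟨-, -, -, c1', c6, -, r6, j3, n6, hc, hcls⟩ := small_model
  intro hconj
  obtain ⟨g, hg⟩ := isConj_iff.1 hconj
  set C := centralizer ({h.φ h0M} : Set G)
  have hbC : h.φ (e2M * e3M) ∈ C := mem_centralizer_singleton_iff.2 (by rw [← map_mul, c6, map_mul])
  set b : C := ⟨h.φ (e2M * e3M), hbC⟩
  have ob : orderOf b = 3 := by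
    refine orderOf_eq_prime (Subtype.ext ?_) fun e => n6 (h.inj ?_)
    · show h.φ (e2M * e3M) ^ 3 = 1
      rw [← map_pow, j3, map_one]
    · rw [map_one]; exact congrArg Subtype.val e
  have hB : Nat.card (zpowers b) = 3 := by rw [Nat.card_zpowers, ob]
  have hu : centralizer ({h.φ (e2M * e3M)} : Set G) ≤ h.φ.range := by
    obtain ⟨k, hk⟩ := isConj_iff.1 (isConj_iff_cls.2 e23_cls.symm)
    rw [← hk, map_mul, map_mul, map_inv, centralizer_conj]
    rintro _ ⟨x, hx, rfl⟩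
    obtain ⟨n, hn⟩ := h.cent_u hx
    exact ⟨k * n * k⁻¹, by rw [map_mul, map_mul, map_inv, hn]; rfl⟩
  have h9 : ¬ 9 ∣ Nat.card C := by
    intro h9
    obtain ⟨K, hK, hBK⟩ := Sylow.exists_subgroup_card_pow_succ (p := 3) (n := 1) h9
      (H := zpowers b) (by rw [pow_one]; exact hB)
    have hcomm : ∀ y : K, y * ⟨b, hBK (mem_zpowers b)⟩ = ⟨b, hBK (mem_zpowers b)⟩ * y := fun y => by
      letI := IsPGroup.commGroupOfCardEqPrimeSq (p := 3) hK
      exact mul_comm _ _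
    set L := (K.map C.subtype).comap h.φ
    have hKr : K.map C.subtype ≤ h.φ.range := by
      rintro _ ⟨y, hy, rfl⟩
      exact hu (mem_centralizer_singleton_iff.2 (congrArg (fun z : K => ((z : C) : G)) (hcomm ⟨y, hy⟩)))
    have hL : Nat.card L = 9 := by
      rw [← card_map_of_injective (K := L) (f := h.φ) h.inj, map_comap_eq_self hKr,
        card_map_of_injective C.subtype_injective, hK]
      norm_num
    have hd : Nat.card L ∣ Nat.card (centralizer ({h0M} : Set M)) := card_dvd_of_le fun m hm => by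
      obtain ⟨y, -, hy⟩ := hm
      refine mem_centralizer_singleton_iff.2 (h.inj ?_)
      rw [map_mul, map_mul, ← hy]
      exact mem_centralizer_singleton_iff.1 y.2
    rw [hL] at hd
    refine hc (hd.trans ?_)
    rw [← Fintype.card_subtype, ← Nat.card_eq_fintype_card]
    exact dvd_of_eq (Nat.card_congr (Equiv.subtypeEquivRight fun k => mem_centralizer_singleton_iff))
  have haC : g * h.φ e1M * g⁻¹ ∈ C := mem_centralizer_singleton_iff.2 (by
    rw [← hg, ← MulAut.conj_apply, ← MulAut.conj_apply, ← map_mul, ← map_mul, ← map_mul, c1', map_mul])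
  set a : C := ⟨_, haC⟩
  have oa : orderOf a = 3 := by
    refine orderOf_eq_prime (Subtype.ext ?_) fun e => e1M_facts.2.1 (h.inj ?_)
    · show (g * h.φ e1M * g⁻¹) ^ 3 = 1
      rw [conj_pow, ← map_pow, e1M_facts.1]; simp
    · rw [map_one]; exact conj_eq_one_iff.1 (congrArg Subtype.val e)
  have hcard : 3 ^ (Nat.card C).factorization 3 = 3 := by
    have hC0 : Nat.card C ≠ 0 := Nat.card_pos.ne'
    have h1 : 1 ≤ (Nat.card C).factorization 3 :=
      (Nat.prime_three.dvd_iff_one_le_factorization hC0).1 (hB ▸ card_subgroup_dvd_card _)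
    have h2 : ¬ 2 ≤ (Nat.card C).factorization 3 := fun e =>
      h9 ((show 9 ∣ 3 ^ (Nat.card C).factorization 3 from pow_dvd_pow 3 e).trans (Nat.ordProj_dvd _ _))
    rw [show (Nat.card C).factorization 3 = 1 by omega, pow_one]
  obtain ⟨PA, hPA⟩ : ∃ P : Sylow 3 C, (P : Subgroup C) = zpowers a :=
    ⟨Sylow.ofCard (zpowers a) (by rw [hcard, Nat.card_zpowers, oa]), rfl⟩
  obtain ⟨PB, hPB⟩ : ∃ P : Sylow 3 C, (P : Subgroup C) = zpowers b :=
    ⟨Sylow.ofCard (zpowers b) (by rw [hcard, hB]), rfl⟩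
  obtain ⟨c, hcP⟩ := MulAction.exists_smul_eq C PA PB
  have hab : c * a * c⁻¹ ∈ zpowers b := by
    rw [← hPB, ← hcP]
    rw [Sylow.coe_subgroup_smul, hPA]
    exact ⟨a, mem_zpowers a, rfl⟩
  have hab' : ((c : G) * g) * h.φ e1M * ((c : G) * g)⁻¹ ∈ zpowers (h.φ (e2M * e3M)) := by
    obtain ⟨i, hi⟩ := mem_zpowers_iff.1 hab
    refine mem_zpowers_iff.2 ⟨i, ?_⟩
    have := congrArg (fun z : C => (z : G)) hi
    simp only [Subgroup.coe_zpow, Subgroup.coe_mul, Subgroup.coe_inv, a, b] at this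
    rw [this]; group
  obtain ⟨i, hi⟩ := Hyp.Big.three_pow (show h.φ (e2M * e3M) ^ 3 = 1 by rw [← map_pow, j3, map_one]) hab'
  rw [← map_pow] at hi
  obtain ⟨k, hk⟩ := h.ctrl (show e1M.right = 1 from rfl) (right_pow r6 _) hi
  exact hcls i (isConj_iff_cls.1 (isConj_iff.2 ⟨k, hk⟩))

namespace Hyp.Big

variable (B : h.Big)

/-- The involution `(0 1)(3 6)`. -/
def r : G := h.φ hM * B.ψ x6

theorem h_inv : (h.φ hM)⁻¹ = h.φ hM :=
  inv_eq_of_mul_eq_one_right (by rw [← map_mul, hM_facts.2, map_one])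

theorem x6_inv : (B.ψ x6)⁻¹ = B.ψ x6 :=
  inv_eq_of_mul_eq_one_right (by rw [← map_mul, InP_facts.1 x6 InP_facts.2.2.2, map_one])

theorem r_sq : B.r * B.r = 1 := by
  have hh : h.φ hM * B.ψ x6 * h.φ hM = B.ψ x6 := by
    have := B.conj_h x6
    rw [h_inv, show conjA (swap 4 5) x6 = x6 from Subtype.ext small_perms.2.2.1] at this
    exact this
  calc B.r * B.r = (h.φ hM * B.ψ x6 * h.φ hM) * B.ψ x6 := by simp only [r]; group
    _ = 1 := by rw [hh, ← map_mul, InP_facts.1 x6 InP_facts.2.2.2, map_one]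

theorem r_inv : B.r⁻¹ = B.r := inv_eq_of_mul_eq_one_right B.r_sq

theorem r_conj {x y : A6} (hy : swap 0 3 * x.1 * swap 0 3 = y.1) : B.r * B.ψ x * B.r⁻¹ = B.ψ y := by
  rw [r, mul_inv_rev]
  calc h.φ hM * B.ψ x6 * B.ψ x * ((B.ψ x6)⁻¹ * (h.φ hM)⁻¹) =
      h.φ hM * (B.ψ x6 * B.ψ x * (B.ψ x6)⁻¹) * (h.φ hM)⁻¹ := by group
    _ = h.φ hM * B.ψ (x6 * x * x6⁻¹) * (h.φ hM)⁻¹ := by rw [map_mul, map_mul, map_inv]
    _ = B.ψ y := by rw [B.conj_h, conj_swap_eq y x hy]

theorem r_comm {x : A6} (hx : swap 0 3 * x.1 * swap 0 3 = x.1) : B.r * B.ψ x = B.ψ x * B.r :=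
  mul_inv_eq_iff_eq_mul.1 (B.r_conj hx)

theorem r_e1 : B.r * h.φ e1M * B.r⁻¹ = (h.φ e1M)⁻¹ := by
  rw [r, mul_inv_rev]
  calc h.φ hM * B.ψ x6 * h.φ e1M * ((B.ψ x6)⁻¹ * (h.φ hM)⁻¹) =
      h.φ hM * (B.ψ x6 * h.φ e1M * (B.ψ x6)⁻¹) * (h.φ hM)⁻¹ := by group
    _ = h.φ (hM * e1M * hM⁻¹) := by rw [B.cent, mul_inv_cancel_right, map_mul, map_mul, map_inv]
    _ = (h.φ e1M)⁻¹ := by rw [show hM * e1M * hM⁻¹ = e1M⁻¹ by decide +kernel, map_inv]

theorem r_v7 : B.r * B.ψ v7 = h.φ h0M := by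
  have e := B.map_eq small_model.1
  rw [map_mul, map_mul] at e
  rw [r, mul_assoc, ← e, ← mul_assoc, ← map_mul, hM_facts.2, map_one, one_mul]

theorem r_conj_t : IsConj (h.φ tM) B.r := by
  refine ((h.φ.map_isConj (isConj_iff_cls.2 small_model.2.1.symm))).trans (isConj_iff.2 ⟨B.ψ c1, ?_⟩)
  have e : h.φ hM * B.ψ c1 * (h.φ hM)⁻¹ = B.ψ x6 * B.ψ c1 := by
    rw [B.conj_h, ← map_mul]
    congr 1
    refine Subtype.ext ?_
    rw [conjA_apply, Subgroup.coe_mul]
    exact mul_inv_eq_iff_eq_mul.1 small_perms.2.2.2.1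
  calc B.ψ c1 * h.φ hM * (B.ψ c1)⁻¹ = h.φ hM * ((h.φ hM)⁻¹ * B.ψ c1 * h.φ hM) * (B.ψ c1)⁻¹ := by group
    _ = h.φ hM * (h.φ hM * B.ψ c1 * (h.φ hM)⁻¹) * (B.ψ c1)⁻¹ := by rw [h_inv]
    _ = B.r := by rw [e, r]; group

theorem rt_conj_h0 : IsConj (h.φ h0M) (B.r * B.ψ v6) := by
  refine (isConj_iff.2 ⟨B.ψ n1, ?_⟩ : IsConj (B.r * B.ψ v6) (h.φ h0M)).symm
  have e := B.r_comm small_perms.2.2.2.2.2.1
  calc B.ψ n1 * (B.r * B.ψ v6) * (B.ψ n1)⁻¹ = (B.ψ n1 * B.r) * B.ψ v6 * (B.ψ n1)⁻¹ := by group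
    _ = (B.r * B.ψ n1) * B.ψ v6 * (B.ψ n1)⁻¹ := by rw [e]
    _ = B.r * B.ψ (n1 * v6 * n1⁻¹) := by rw [map_mul, map_mul, map_inv]; group
    _ = h.φ h0M := by rw [small_perms.2.2.2.2.1, B.r_v7]

/-- The centraliser of the four-group on `{4, 5, 7, 8}`. -/
def CV : Subgroup G := centralizer ({B.ψ v6, B.ψ v7} : Set G)

theorem mem_CV {g : G} : g ∈ B.CV ↔ g * B.ψ v6 = B.ψ v6 * g ∧ g * B.ψ v7 = B.ψ v7 * g := by
  simp only [CV, mem_centralizer_iff, Set.mem_insert_iff, Set.mem_singleton_iff, forall_eq_or_imp, forall_eq,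
    eq_comm]

/-- The element carrying one four-group to the other. -/
def g0 : G := h.φ (gc ^ 2) * B.ψ c0

theorem g0_conj (x : A6) : B.g0 * B.ψ x * B.g0⁻¹ = B.psi 2 (c0 * x * c0⁻¹) := by
  rw [B.psi_apply, map_mul, map_mul, map_inv, g0]
  show _ = h.φ (gc ^ 2) * _ * (h.φ (gc ^ 2))⁻¹
  group

theorem mem_CV_iff {g : G} : g ∈ B.CV ↔ B.g0 * g * B.g0⁻¹ ∈ B.W := by
  rw [B.mem_CV, B.mem_W]
  have e1 : B.psi 2 k1 = B.g0 * B.ψ v6 * B.g0⁻¹ := by rw [B.g0_conj, small_perms.1]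
  have e2 : B.psi 2 k2 = B.g0 * B.ψ v7 * B.g0⁻¹ := by rw [B.g0_conj, small_perms.2.1]
  have key : ∀ a b : G, (B.g0 * a * B.g0⁻¹ * (B.g0 * b * B.g0⁻¹) = B.g0 * b * B.g0⁻¹ * (B.g0 * a * B.g0⁻¹) ↔
      a * b = b * a) := fun a b => by
    rw [show B.g0 * a * B.g0⁻¹ * (B.g0 * b * B.g0⁻¹) = B.g0 * (a * b) * B.g0⁻¹ by group,
      show B.g0 * b * B.g0⁻¹ * (B.g0 * a * B.g0⁻¹) = B.g0 * (b * a) * B.g0⁻¹ by group, mul_left_inj,
      mul_right_inj]
  rw [e1, e2, key, key]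

theorem CV_card : Nat.card B.CV = Nat.card B.W :=
  Nat.card_congr ((MulAut.conj B.g0).toEquiv.subtypeEquiv fun _ => B.mem_CV_iff)

theorem r_mem_CV : B.r ∈ B.CV :=
  B.mem_CV.2 ⟨B.r_comm small_perms.2.2.2.2.2.2.1, B.r_comm small_perms.2.2.2.2.2.2.2.1⟩

theorem e1_mem_CV : h.φ e1M ∈ B.CV := B.mem_CV.2 ⟨(B.cent v6).symm, (B.cent v7).symm⟩

theorem r_notMem_range : B.r ∉ B.ψ.range := by
  rintro ⟨x, hx⟩
  have e := B.r_e1
  rw [← hx, B.cent, mul_inv_cancel_right] at e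
  rw [← map_inv] at e
  exact absurd (h.inj e) (by decide +kernel)

set_option maxHeartbeats 1000000 in
/-- The small case does not occur. -/
theorem small_false (h24 : Nat.card B.W ≤ 24) : False := by
  classical
  haveI : Fact (Nat.Prime 2) := ⟨Nat.prime_two⟩
  obtain ⟨-, -, -, -, -, -, hs6, hs7, hsx, v7sq, v67, x67, x66⟩ := small_perms
  have hv6sq : v6 * v6 = 1 := six_base.2.1
  have rd : ∀ d : A6, d * v6 = v6 * d → B.r * B.ψ d = B.ψ d * B.r := fun d hd => B.r_comm (swap_comm d hd)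
  let P : Subgroup G :=
    { carrier := {g | ∃ d : A6, d * v6 = v6 * d ∧ ∃ e : Fin 2, g = B.r ^ (e : ℕ) * B.ψ d}
      one_mem' := ⟨1, by simp, 0, by simp⟩
      mul_mem' := by
        rintro _ _ ⟨d, hd, e, rfl⟩ ⟨d', hd', e', rfl⟩
        have hc : Commute (B.ψ d) (B.r ^ (e' : ℕ)) := ((show Commute B.r (B.ψ d) from rd d hd).symm).pow_right _
        refine ⟨d * d', (show Commute d v6 from hd).mul_left hd', ⟨((e : ℕ) + e') % 2, Nat.mod_lt _ (by norm_num)⟩, ?_⟩
        show _ = B.r ^ (((e : ℕ) + e') % 2) * B.ψ (d * d')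
        rw [← pow_eq_pow_mod _ (show B.r ^ 2 = 1 by rw [pow_two]; exact B.r_sq), pow_add, map_mul]
        rw [show B.r ^ (e : ℕ) * B.ψ d * (B.r ^ (e' : ℕ) * B.ψ d') =
          B.r ^ (e : ℕ) * (B.ψ d * B.r ^ (e' : ℕ)) * B.ψ d' by group, hc.eq]
        group
      inv_mem' := by
        rintro _ ⟨d, hd, e, rfl⟩
        refine ⟨d⁻¹, (show Commute d v6 from hd).inv_left, e, ?_⟩
        have hc : Commute (B.r ^ (e : ℕ)) (B.ψ d) := (show Commute B.r (B.ψ d) from rd d hd).pow_left _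
        rw [mul_inv_rev, map_inv, ← inv_pow, B.r_inv, (hc.inv_right).eq] }
  have hD : ∀ d : A6, d * v6 = v6 * d → B.ψ d ∈ P := fun d hd => ⟨d, hd, 0, by simp⟩
  have hrP : B.r ∈ P := ⟨1, by simp, 1, by simp⟩
  have split : ∀ (d d' : A6) (e e' : Fin 2), B.r ^ (e : ℕ) * B.ψ d = B.r ^ (e' : ℕ) * B.ψ d' → d = d' ∧ e = e' := by
    intro d d' e e' he
    rcases (show (e : ℕ) = 0 ∨ (e : ℕ) = 1 by omega) with h1 | h1 <;>
      rcases (show (e' : ℕ) = 0 ∨ (e' : ℕ) = 1 by omega) with h2 | h2 <;> rw [h1, h2] at he <;>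
      simp only [pow_zero, pow_one, one_mul] at he
    · exact ⟨B.inj he, Fin.ext (h1.trans h2.symm)⟩
    · exact absurd ⟨d * d'⁻¹, by rw [map_mul, map_inv, he, mul_inv_cancel_right]⟩ B.r_notMem_range
    · exact absurd ⟨d' * d⁻¹, by rw [map_mul, map_inv, ← he, mul_inv_cancel_right]⟩ B.r_notMem_range
    · exact ⟨B.inj (mul_left_cancel he), Fin.ext (h1.trans h2.symm)⟩
  have hP16 : Nat.card P = 16 := by
    let F : {d : A6 // d * v6 = v6 * d} × Fin 2 → P := fun q =>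
      ⟨B.r ^ (q.2 : ℕ) * B.ψ q.1, q.1, q.1.2, q.2, rfl⟩
    have hF : Function.Bijective F := by
      refine ⟨fun a b e => ?_, ?_⟩
      · obtain ⟨e1, e2⟩ := split _ _ _ _ (congrArg Subtype.val e)
        exact Prod.ext (Subtype.ext e1) e2
      · rintro ⟨_, d, hd, e, rfl⟩
        exact ⟨(⟨d, hd⟩, e), rfl⟩
    rw [← Nat.card_congr (Equiv.ofBijective F hF), Nat.card_prod, Nat.card_fin, Nat.card_eq_fintype_card,
      Fintype.card_subtype, dih_count.1]
  have hP2 : IsPGroup 2 P := IsPGroup.of_card (n := 4) (by rw [hP16]; norm_num)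
  -- classes
  have hB : ¬ IsConj (h.φ tM) (B.r * B.ψ v6) := fun e => h.not_isConj_h0 (e.trans B.rt_conj_h0.symm)
  have hv6t : B.ψ v6 = h.φ tM := (B.map_eq klein_model.1).symm
  have hA : ∀ d : A6, d * v6 = v6 * d → d * d = 1 → d ≠ 1 → IsConj (h.φ tM) (B.ψ d) := fun d hd h2 h1 => by
    obtain ⟨z, hz⟩ := (dih_facts d hd).2.2 h2 h1
    rw [← hv6t, ← hz]
    exact isConj_iff.2 ⟨B.ψ z, by rw [map_mul, map_mul, map_inv]⟩
  -- maximality
  obtain ⟨Q, hQ⟩ := hP2.exists_le_sylow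
  have hQP : (Q : Subgroup G) = P := by
    refine le_antisymm ?_ hQ
    by_contra hne
    have hlt : P.subgroupOf (Q : Subgroup G) < ⊤ := lt_top_iff_ne_top.2 fun e => hne (subgroupOf_eq_top.1 e)
    haveI : Group.IsNilpotent (Q : Subgroup G) := Q.2.isNilpotent
    obtain ⟨⟨q, hqQ⟩, hqN, hqP⟩ := SetLike.exists_of_lt (Group.normalizerCondition_of_isNilpotent _ hlt)
    have hconj : ∀ x ∈ P, q * x * q⁻¹ ∈ P := fun x hx => (mem_normalizer_iff.1 hqN ⟨x, hQ hx⟩).1 hx
    have hconj' : ∀ x ∈ P, ∃ d' : A6, d' * v6 = v6 * d' ∧ ∃ e' : Fin 2, x = q * (B.r ^ (e' : ℕ) * B.ψ d') * q⁻¹ := by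
      intro x hx
      let f : P → P := fun y => ⟨q * (y : G) * q⁻¹, hconj y y.2⟩
      have hf : Function.Surjective f := Finite.injective_iff_surjective.1 fun a b e =>
        Subtype.ext (mul_left_cancel (mul_right_cancel (congrArg Subtype.val e)))
      obtain ⟨⟨y, d', hd', e', rfl⟩, ey⟩ := hf ⟨x, hx⟩
      exact ⟨d', hd', e', (congrArg Subtype.val ey).symm⟩
    have x66' : x6 * v6 = v6 * x6 := six_base.2.2.2.2.2.2.2.2.1
    have hqP' : q ∉ P := fun e => hqP (mem_subgroupOf.2 e)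
    have hsq : ∀ x ∈ P, x * x = 1 ∨ x * x = B.ψ v6 := by
      rintro _ ⟨d, hd, e, rfl⟩
      have hc : Commute (B.r ^ (e : ℕ)) (B.ψ d) := (show Commute B.r (B.ψ d) from rd d hd).pow_left _
      rw [hc.symm.mul_mul_mul_comm, ← pow_add, ← two_mul, pow_mul, pow_two, B.r_sq, one_pow, one_mul, ← map_mul]
      rcases (dih_facts d hd).1 with e' | e' <;> rw [e']
      · exact Or.inl (map_one _)
      · exact Or.inr rfl
    have hqt : q * B.ψ v6 * q⁻¹ = B.ψ v6 := by
      obtain ⟨y, hy, hy2⟩ := dih_square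
      have h1 := hsq _ (hconj _ (hD y hy))
      rw [show q * B.ψ y * q⁻¹ * (q * B.ψ y * q⁻¹) = q * (B.ψ y * B.ψ y) * q⁻¹ by group, ← map_mul, hy2] at h1
      refine h1.resolve_left fun e => six_base.2.2.1 (B.inj ?_)
      rw [conj_eq_one_iff.1 e, map_one]
    have hrc : ∀ d : A6, d * v6 = v6 * d → Commute B.r (B.ψ d) := rd
    have hqr : q * B.r * q⁻¹ = B.r := by
      obtain ⟨d, hd, e, hq⟩ := hconj _ hrP
      have hcen : ∀ x ∈ P, q * B.r * q⁻¹ * x = x * (q * B.r * q⁻¹) := by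
        intro x hx
        obtain ⟨d', hd', e', hx'⟩ := hconj' x hx
        rw [hx', show q * B.r * q⁻¹ * (q * (B.r ^ (e' : ℕ) * B.ψ d') * q⁻¹) =
            q * (B.r * (B.r ^ (e' : ℕ) * B.ψ d')) * q⁻¹ by group,
          ((Commute.refl B.r).pow_right _ |>.mul_right (hrc d' hd')).eq]
        group
      have hdc : ∀ y : A6, y * v6 = v6 * y → d * y = y * d := fun y hy => by
        have h1 := hcen _ (hD y hy)
        have hy' : Commute (B.r ^ (e : ℕ)) (B.ψ y) := (hrc y hy).pow_left _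
        rw [hq, mul_assoc, ← mul_assoc (B.ψ y), ← hy'.eq, mul_assoc, mul_right_inj, ← map_mul, ← map_mul] at h1
        exact B.inj h1
      have hr1 : q * B.r * q⁻¹ ≠ 1 := fun e1 => B.r_notMem_range ⟨1, by rw [map_one, conj_eq_one_iff.1 e1]⟩
      have hcl : IsConj (h.φ tM) (q * B.r * q⁻¹) := B.r_conj_t.trans (isConj_iff.2 ⟨q, rfl⟩)
      rcases dih_centre d hd (hdc x6 x66') (hdc v7 v67.symm) with e' | e' <;>
        rcases (show (e : ℕ) = 0 ∨ (e : ℕ) = 1 by omega) with e'' | e'' <;> rw [hq, e', e''] at hr1 hcl ⊢ <;>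
        simp only [pow_zero, pow_one, one_mul, map_one, mul_one] at hr1 hcl ⊢
      · exact absurd rfl hr1
      · exfalso
        have : q * B.r * q⁻¹ = q * B.ψ v6 * q⁻¹ := by rw [hqt, hq, e', e'']; simp
        exact B.r_notMem_range ⟨v6, (mul_left_cancel (mul_right_cancel this)).symm⟩
      · exact absurd hcl hB
    obtain ⟨d, hd, hdd, he⟩ : ∃ d : A6, d * v6 = v6 * d ∧ (d = v7 ∨ d = v6 * v7) ∧ q * B.ψ v7 * q⁻¹ = B.ψ d := by
      obtain ⟨d, hd, e, hq⟩ := hconj _ (hD v7 v67.symm)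
      have hnr : ¬ IsConj (h.φ tM) (B.r * (q * B.ψ v7 * q⁻¹)) := fun hc => h.not_isConj_h0 (hc.trans (by
        refine (isConj_iff.2 ⟨q, ?_⟩ : IsConj (h.φ h0M) _).symm
        calc q * h.φ h0M * q⁻¹ = (q * B.r * q⁻¹) * (q * B.ψ v7 * q⁻¹) := by rw [← B.r_v7]; group
          _ = _ := by rw [hqr]))
      have hd2 : d * d = 1 := by
        refine B.inj ?_
        have h1 : q * B.ψ v7 * q⁻¹ * (q * B.ψ v7 * q⁻¹) = 1 := by
          rw [show q * B.ψ v7 * q⁻¹ * (q * B.ψ v7 * q⁻¹) = q * (B.ψ v7 * B.ψ v7) * q⁻¹ by group, ← map_mul, v7sq,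
            map_one]
          group
        have hc : Commute (B.r ^ (e : ℕ)) (B.ψ d) := (hrc d hd).pow_left _
        rw [hq, hc.symm.mul_mul_mul_comm, ← pow_add, ← two_mul, pow_mul, pow_two, B.r_sq, one_pow, one_mul] at h1
        rw [map_mul, h1, map_one]
      rcases (show (e : ℕ) = 0 ∨ (e : ℕ) = 1 by omega) with e'' | e'' <;> rw [e''] at hq <;>
        simp only [pow_zero, pow_one, one_mul] at hq
      · have hd1 : d ≠ 1 := fun e1 => by
          rw [e1, map_one, conj_eq_one_iff] at hq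
          exact absurd (B.inj (hq.trans (map_one _).symm)) (by decide +kernel)
        have hd6 : d ≠ v6 := fun e1 => by
          rw [e1, ← hqt] at hq
          exact absurd (B.inj (mul_left_cancel (mul_right_cancel hq))) (by decide +kernel)
        rcases (dih_facts d hd).2.1 hd2 hd1 hd6 with e1 | e1 | e1 | e1
        · refine absurd ?_ hnr
          rw [hq, e1, r, mul_assoc, ← map_mul, InP_facts.1 x6 InP_facts.2.2.2, map_one, mul_one]
          exact h.φ.map_isConj (isConj_iff_cls.2 small_model.2.1.symm)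
        · refine absurd ?_ hnr
          rw [hq, e1, r, mul_assoc, ← map_mul, ← mul_assoc, InP_facts.1 x6 InP_facts.2.2.2, one_mul, hv6t,
            ← map_mul]
          exact h.φ.map_isConj (isConj_iff_cls.2 small_model.2.2.1.symm)
        · exact ⟨d, hd, Or.inl e1, hq⟩
        · exact ⟨d, hd, Or.inr e1, hq⟩
      · exfalso
        have hd1 : d ≠ 1 := fun e1 => by
          rw [e1, map_one, mul_one, ← hqr] at hq
          exact B.r_notMem_range ⟨v7, mul_left_cancel (mul_right_cancel hq)⟩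
        refine hnr ?_
        rw [hq, ← mul_assoc, B.r_sq, one_mul]
        exact hA d hd hd2 hd1
    obtain ⟨a, ha, haP, hav⟩ : ∃ a : A6, a * v6 = v6 * a ∧ B.ψ a ∈ P ∧ a * d * a⁻¹ = v7 := by
      rcases hdd with e1 | e1
      · exact ⟨1, by simp, one_mem P |> (by rw [map_one]; exact ·), by rw [e1]; simp⟩
      · refine ⟨x6, x66', hD x6 x66', by rw [e1, x67]⟩
    set q' := B.ψ a * q with hq'
    have hq'P : q' ∉ P := fun hm => hqP' ((P.mul_mem_cancel_left haP).1 hm)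
    have f7 : q' * B.ψ v7 * q'⁻¹ = B.ψ v7 := by
      rw [hq', show B.ψ a * q * B.ψ v7 * (B.ψ a * q)⁻¹ = B.ψ a * (q * B.ψ v7 * q⁻¹) * (B.ψ a)⁻¹ by group, he,
        ← map_inv, ← map_mul, ← map_mul, hav]
    have f6 : q' * B.ψ v6 * q'⁻¹ = B.ψ v6 := by
      rw [hq', show B.ψ a * q * B.ψ v6 * (B.ψ a * q)⁻¹ = B.ψ a * (q * B.ψ v6 * q⁻¹) * (B.ψ a)⁻¹ by group, hqt,
        ← map_inv, ← map_mul, ← map_mul, ha, mul_inv_cancel_right]
    have fr : q' * B.r * q'⁻¹ = B.r := by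
      rw [hq', show B.ψ a * q * B.r * (B.ψ a * q)⁻¹ = B.ψ a * (q * B.r * q⁻¹) * (B.ψ a)⁻¹ by group, hqr,
        ← (hrc a ha).eq, mul_inv_cancel_right]
    set S := B.CV ⊓ centralizer ({B.r} : Set G) with hS
    obtain ⟨T, hTdef⟩ : ∃ T : Finset G, T = ((Finset.univ.filter fun x : A6 => x * v6 = v6 * x ∧ x * v7 = v7 * x) ×ˢ
      (Finset.univ : Finset (Fin 2))).image fun p => B.r ^ (p.2 : ℕ) * B.ψ p.1 := ⟨_, rfl⟩
    have hT : T.card = 8 := by
      rw [hTdef, Finset.card_image_of_injective _ (fun a b e => by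
        obtain ⟨e1, e2⟩ := split _ _ _ _ e
        exact Prod.ext e1 e2), Finset.card_product, dih_count.2]
      rfl
    have hTS : ∀ x ∈ T, x ∈ S ∧ x ∈ P := by
      intro x hx
      simp only [hTdef, Finset.mem_image, Finset.mem_product, Finset.mem_filter, Finset.mem_univ, true_and,
        and_true] at hx
      obtain ⟨⟨d, e⟩, ⟨hd6, hd7⟩, rfl⟩ := hx
      refine ⟨⟨B.CV.mul_mem (pow_mem B.r_mem_CV _) (B.mem_CV.2 ?_), ?_⟩, d, hd6, e, rfl⟩
      · exact ⟨by rw [← map_mul, ← map_mul, hd6], by rw [← map_mul, ← map_mul, hd7]⟩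
      · exact mem_centralizer_singleton_iff.2
          (((Commute.refl B.r).pow_left _).mul_left (hrc d hd6).symm).eq
    have hq'S : q' ∈ S := ⟨B.mem_CV.2 ⟨mul_inv_eq_iff_eq_mul.1 f6, mul_inv_eq_iff_eq_mul.1 f7⟩,
      mem_centralizer_singleton_iff.2 (mul_inv_eq_iff_eq_mul.1 fr)⟩
    have hq'T : q' ∉ T := fun hm => hq'P (hTS _ hm).2
    have h9 : 9 ≤ Nat.card S := by
      rw [show 9 = (insert q' T).card by rw [Finset.card_insert_of_notMem hq'T, hT], ← Nat.card_eq_finsetCard]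
      refine Nat.card_le_card_of_injective (fun x => (⟨x.1, ?_⟩ : S)) fun a b e => Subtype.ext (congrArg (fun z : S => (z : G)) e)
      rcases Finset.mem_insert.1 x.2 with e | e
      · rw [e]; exact hq'S
      · exact (hTS _ e).1
    -- the centraliser has order twenty-four
    have hlt : S < B.CV := by
      refine lt_of_le_of_ne inf_le_left fun e => ?_
      have he1 : h.φ e1M * B.r = B.r * h.φ e1M :=
        mem_centralizer_singleton_iff.1 (e.symm ▸ B.e1_mem_CV : h.φ e1M ∈ S).2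
      have := B.r_e1
      rw [← he1, mul_inv_cancel_right, ← map_inv] at this
      first
        | exact e1_ne_inv (h.inj this)
        | exact e1_ne_inv (h.inj this).symm
    obtain ⟨c, hc⟩ := card_dvd_of_le hlt.le
    have hne : Nat.card S ≠ Nat.card B.CV := fun e => hlt.ne (eq_of_le_of_card_ge hlt.le e.ge)
    have hc2 : 2 ≤ c := by
      rcases c with _ | _ | c
      · rw [mul_zero] at hc; exact absurd hc (Nat.card_pos).ne'
      · simp only [zero_add, mul_one] at hc; exact absurd hc.symm hne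
      · omega
    rw [B.CV_card] at hc
    have h3 : 3 ∣ Nat.card B.W := by
      rw [← B.CV_card]
      have := _root_.orderOf_dvd_natCard (⟨h.φ e1M, B.e1_mem_CV⟩ : B.CV)
      rwa [orderOf_mk, orderOf_eq_prime (e_cubes (h := h)).1
        (fun e => e1M_facts.2.1 (h.inj (e.trans (map_one _).symm)))] at this
    have h4 : 4 ∣ Nat.card B.W := by rw [← B.V0_card]; exact card_dvd_of_le B.V0_le
    have hS12 : Nat.card S ≤ 12 := by
      have := Nat.mul_le_mul_left (Nat.card S) hc2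
      omega
    have h12 : 12 ∣ Nat.card B.W := Nat.Coprime.mul_dvd_of_dvd_of_dvd (by norm_num : Nat.Coprime 3 4) h3 h4
    -- `S` contains a four-group and an element of order two
    have h8 : 4 ∣ Nat.card S := by
      let V : Subgroup G :=
        { carrier := {g | ∃ x : A6, (x * v6 = v6 * x ∧ x * v7 = v7 * x) ∧ B.ψ x = g}
          one_mem' := ⟨1, by simp, map_one _⟩
          mul_mem' := by
            rintro _ _ ⟨x, ⟨hx, hx'⟩, rfl⟩ ⟨y, ⟨hy, hy'⟩, rfl⟩
            exact ⟨x * y, ⟨(show Commute x v6 from hx).mul_left hy, (show Commute x v7 from hx').mul_left hy'⟩,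
              map_mul _ _ _⟩
          inv_mem' := by
            rintro _ ⟨x, ⟨hx, hx'⟩, rfl⟩
            exact ⟨x⁻¹, ⟨(show Commute x v6 from hx).inv_left, (show Commute x v7 from hx').inv_left⟩, map_inv _ _⟩ }
      have hV : Nat.card V = 4 := by
        rw [← dih_count.2, ← Fintype.card_subtype, ← Nat.card_eq_fintype_card]
        refine (Nat.card_congr (Equiv.ofBijective
          (fun x : {x : A6 // x * v6 = v6 * x ∧ x * v7 = v7 * x} => (⟨B.ψ x, x, x.2, rfl⟩ : V))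
          ⟨fun a b e => Subtype.ext (B.inj (congrArg Subtype.val e)), ?_⟩)).symm
        rintro ⟨_, x, hx, rfl⟩
        exact ⟨⟨x, hx⟩, rfl⟩
      rw [← hV]
      refine card_dvd_of_le ?_
      rintro _ ⟨x, ⟨hx, hx'⟩, rfl⟩
      exact ⟨B.mem_CV.2 ⟨by rw [← map_mul, ← map_mul, hx], by rw [← map_mul, ← map_mul, hx']⟩,
        mem_centralizer_singleton_iff.2 (hrc x hx).symm.eq⟩
    have hS12' : Nat.card S = 12 := by
      obtain ⟨m, hm⟩ := h8
      omega
    -- then `S` would contain an element of order three commuting with `r`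
    haveI : Fact (Nat.Prime 3) := ⟨Nat.prime_three⟩
    obtain ⟨⟨y, hyS⟩, hy3⟩ := exists_prime_orderOf_dvd_card' (G := S) 3 (by rw [hS12']; norm_num)
    rw [orderOf_mk] at hy3
    have hyW : B.g0 * y * B.g0⁻¹ ∈ B.W := B.mem_CV_iff.1 hyS.1
    have heW : B.g0 * h.φ e1M * B.g0⁻¹ ∈ B.W := B.mem_CV_iff.1 B.e1_mem_CV
    have y3 : y ^ 3 = 1 := by rw [← hy3]; exact pow_orderOf_eq_one y
    obtain ⟨w1, hw1, hz1⟩ := B.W_three hyW (by rw [conj_pow, y3]; group)
    obtain ⟨w2, hw2, hz2⟩ := B.W_three heW (by rw [conj_pow, (e_cubes (h := h)).1]; group)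
    have e33 := (e_cubes (h := h)).2
    have e1ne : h.φ e1M ≠ 1 := fun e => e1M_facts.2.1 (h.inj (e.trans (map_one _).symm))
    have hyne : y ≠ 1 := fun e => by rw [e, orderOf_one] at hy3; norm_num at hy3
    obtain ⟨k, hk⟩ : ∃ k ∈ B.CV, (k * y * k⁻¹ = h.φ e1M ∨ k * y * k⁻¹ = (h.φ e1M)⁻¹) := by
      set k := B.g0⁻¹ * (w2⁻¹ * w1) * B.g0 with hk
      have hkCV : k ∈ B.CV := B.mem_CV_iff.2 (by
        rw [hk, show B.g0 * (B.g0⁻¹ * (w2⁻¹ * w1) * B.g0) * B.g0⁻¹ = w2⁻¹ * w1 by group]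
        exact mul_mem (inv_mem hw2) hw1)
      refine ⟨k, hkCV, ?_⟩
      have gen : ∀ {a b : G}, a ∈ zpowers (h.φ e3M) → b ∈ zpowers (h.φ e3M) → a ≠ 1 → b ≠ 1 → a = b ∨ a = b⁻¹ := by
        intro a b ha hb ha1 hb1
        rcases zpowers_three_cases e33 ha with e | e | e <;> rcases zpowers_three_cases e33 hb with e' | e' | e'
        all_goals first
          | exact absurd e ha1
          | exact absurd e' hb1
          | exact Or.inl (e.trans e'.symm)
          | exact Or.inr (by rw [e, e', inv_inv])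
          | exact Or.inr (by rw [e, e'])
      rcases gen hz1 hz2 (fun e => hyne (conj_eq_one_iff.1 (conj_eq_one_iff.1 e)))
          (fun e => e1ne (conj_eq_one_iff.1 (conj_eq_one_iff.1 e))) with e | e
      · left
        calc k * y * k⁻¹ = B.g0⁻¹ * (w2⁻¹ * (w1 * (B.g0 * y * B.g0⁻¹) * w1⁻¹) * w2) * B.g0 := by
              simp only [hk]; group
          _ = h.φ e1M := by rw [e]; group
      · right
        calc k * y * k⁻¹ = B.g0⁻¹ * (w2⁻¹ * (w1 * (B.g0 * y * B.g0⁻¹) * w1⁻¹) * w2) * B.g0 := by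
              simp only [hk]; group
          _ = (h.φ e1M)⁻¹ := by rw [e]; group
    obtain ⟨hkCV, hky⟩ := hk
    have hky' : (k * B.r * k⁻¹) * h.φ e1M = h.φ e1M * (k * B.r * k⁻¹) := by
      have hc : Commute (k * B.r * k⁻¹) (k * y * k⁻¹) :=
        (show Commute B.r y from (mem_centralizer_singleton_iff.1 hyS.2).symm).conj k
      rcases hky with e | e <;> rw [e] at hc
      · exact hc.eq
      · exact (Commute.inv_right_iff.1 hc).eq
    have hrk : k * B.r * k⁻¹ ∈ B.CV := mul_mem (mul_mem hkCV B.r_mem_CV) (inv_mem hkCV)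
    obtain ⟨z, hz, x, hx⟩ := B.dec _ hky'
    obtain ⟨j, hj⟩ := three_pow (e_cubes (h := h)).1 hz
    have hx2 : k * B.r * k⁻¹ = z * B.ψ x := by rw [hx, mul_inv_cancel_left]
    have hzx : Commute z (B.ψ x) := by
      rw [hj]; exact ((show Commute (h.φ e1M) _ from (B.cent x).symm)).pow_left _
    have hsq2 : z * z * (B.ψ x * B.ψ x) = 1 := by
      rw [hzx.mul_mul_mul_comm, ← hx2, show k * B.r * k⁻¹ * (k * B.r * k⁻¹) = k * (B.r * B.r) * k⁻¹ by group,
        B.r_sq]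
      group
    have hzz : z * z = 1 := B.eq_one_of_mem (mul_mem hz hz) ⟨(x * x)⁻¹, by
      rw [map_inv, map_mul, ← eq_inv_of_mul_eq_one_left hsq2]⟩
    have hz1 : z = 1 := by
      have hz3 : z ^ 3 = 1 := by rw [hj, ← pow_mul, mul_comm, pow_mul, (e_cubes (h := h)).1, one_pow]
      rwa [pow_succ, pow_two, hzz, one_mul] at hz3
    rw [hz1, one_mul] at hx2
    obtain ⟨c6, c7⟩ := B.mem_CV.1 hrk
    rw [hx2, ← map_mul, ← map_mul] at c6 c7
    -- `k r k⁻¹` lies in the four-group, hence `r` does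
    have hx1 : B.r = B.ψ x := by
      have hkc : Commute k (B.ψ x) := by
        have hin : x = 1 ∨ x = v6 ∨ x = v7 ∨ x = v6 * v7 := by
          have key : ∀ x : A6, x * v6 = v6 * x → x * v7 = v7 * x → x = 1 ∨ x = v6 ∨ x = v7 ∨ x = v6 * v7 := by
            decide +kernel
          exact key x (B.inj c6) (B.inj c7)
        obtain ⟨k6, k7⟩ := B.mem_CV.1 hkCV
        rcases hin with e | e | e | e <;> rw [e]
        · rw [map_one]; exact Commute.one_right k
        · exact k6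
        · exact k7
        · rw [map_mul]; exact (show Commute k _ from k6).mul_right k7
      calc B.r = k⁻¹ * (k * B.r * k⁻¹) * k := by group
        _ = k⁻¹ * B.ψ x * k := by rw [hx2]
        _ = B.ψ x := by rw [mul_assoc, ← hkc.eq, inv_mul_cancel_left]
    exact B.r_notMem_range ⟨x, hx1.symm⟩
  -- transfer
  let D : Subgroup G := (centralizer ({v6} : Set A6)).map B.ψ
  have hDP : D ≤ P := by
    rintro _ ⟨d, hd, rfl⟩
    exact hD d (mem_centralizer_singleton_iff.1 hd)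
  have hDi : D.relIndex (Q : Subgroup G) = 2 := by
    rw [hQP]
    have h1 := (D.subgroupOf P).card_mul_index
    rw [Nat.card_congr (subgroupOfEquivOfLe hDP).toEquiv, hP16, card_map_of_injective B.inj] at h1
    have h8 : Nat.card (centralizer ({v6} : Set A6)) = 8 := by
      rw [← dih_count.1, ← Fintype.card_subtype, ← Nat.card_eq_fintype_card]
      exact Nat.card_congr (Equiv.subtypeEquivRight fun _ => mem_centralizer_singleton_iff)
    rw [h8] at h1
    show (D.subgroupOf P).index = 2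
    omega
  have hu : orderOf (B.r * B.ψ v6) = 2 := by
    refine orderOf_eq_prime ?_ fun e => B.r_notMem_range ⟨v6⁻¹, ?_⟩
    · rw [pow_two, (show Commute B.r (B.ψ v6) from rd v6 rfl).symm.mul_mul_mul_comm, B.r_sq, one_mul, ← map_mul,
        hv6sq, map_one]
    · rw [map_inv, eq_inv_of_mul_eq_one_left e]
  have huD : B.r * B.ψ v6 ∉ D := fun ⟨d, _, e⟩ => B.r_notMem_range ⟨d * v6⁻¹, by
    rw [map_mul, map_inv, e, mul_inv_cancel_right]⟩
  rcases S0111.result Q D (hQP.symm ▸ hDP) hDi (B.r * B.ψ v6) hu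
      (hQP.symm ▸ P.mul_mem hrP (hD v6 rfl)) huD with ⟨N, hN, hN2, huN⟩ | ⟨g, hg⟩
  · have hψN : ∀ x : A6, B.ψ x ∈ N := by
      haveI := hN
      have : IsSimpleGroup A6 := alternatingGroup.isSimpleGroup (by simp)
      rcases (Subgroup.Normal.comap hN B.ψ).eq_bot_or_eq_top with e | e
      · exfalso
        have h2 : a6 * a6 ∈ N.comap B.ψ := by
          show B.ψ (a6 * a6) ∈ N
          rw [map_mul]; exact Subgroup.mul_self_mem_of_index_two hN2 _
        rw [e, mem_bot] at h2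
        exact absurd h2 (by decide +kernel)
      · exact fun x => (e ▸ mem_top x : x ∈ N.comap B.ψ)
    refine huN (mul_mem ?_ (hψN v6))
    obtain ⟨c, hc⟩ := isConj_iff.1 B.r_conj_t
    rw [← hc, ← hv6t]
    exact hN.conj_mem _ (hψN v6) c
  · obtain ⟨d, hd, e⟩ := hg
    have hd' := mem_centralizer_singleton_iff.1 hd
    have hd2 : d * d = 1 := B.inj (by
      rw [map_mul, e, show g * (B.r * B.ψ v6) * g⁻¹ * (g * (B.r * B.ψ v6) * g⁻¹) =
        g * ((B.r * B.ψ v6) * (B.r * B.ψ v6)) * g⁻¹ by group, ← pow_two (B.r * B.ψ v6), ← hu, pow_orderOf_eq_one,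
        map_one]
      group)
    have hd1 : d ≠ 1 := fun e1 => by
      rw [e1, map_one] at e
      have := conj_eq_one_iff.1 e.symm
      rw [this, orderOf_one] at hu
      norm_num at hu
    exact hB ((hA d hd' hd2 hd1).trans (isConj_iff.2 ⟨g, e.symm⟩).symm)

/-- The centraliser of a four-group on four points is `2² × A₅`. -/
theorem W_full : (∀ x, Fix0 x → B.ψ x ∈ B.W) ∧ Nat.card B.W = 240 :=
  (B.W_cases.resolve_left B.small_false).resolve_left B.pair_false

end Hyp.Big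

end Cfsg.Agent.A9ThreeLocal
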